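import Groth.Agent.GrMod19.Basic
import Mathlib.RingTheory.Ideal.AssociatedPrime.Finiteness

/-! Positively graded Noetherian rings. -/

universe u

open DirectSum

namespace Groth.Agent.GrMod19

variable {R : Type u} [CommRing R] {σ : Type u} [SetLike σ R] [AddSubgroupClass σ R] {𝒜 : ℤ → σ} [GradedRing 𝒜]

/-- no pieces in negative degrees -/
def NonnegGr (𝒜 : ℤ → σ) : Prop := ∀ n : ℤ, n < 0 → ∀ x, x ∈ 𝒜 n → x = 0

/-- `a` is the irrelevant ideal -/
def IsPlus (a : HomogeneousIdeal 𝒜) : Prop :=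
  a.toIdeal = Ideal.span (⋃ n ∈ Set.Ioi (0 : ℤ), (𝒜 n : Set R))

variable (hpos : NonnegGr 𝒜)
include hpos

lemma cmp_zero_mul (x y : R) : cmp 𝒜 0 (x * y) = cmp 𝒜 0 x * cmp 𝒜 0 y := by
  induction x using piece_induction 𝒜 with
  | h0 => simp
  | hadd a b ha hb => simp only [add_mul, map_add, ha, hb]
  | hp i a ha =>
    induction y using piece_induction 𝒜 with
    | h0 => simp
    | hadd b c hb hc => simp only [mul_add, map_add, hb, hc]
    | hp j b hb =>
      rcases lt_trichotomy i 0 with hi | rfl | hi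
      · rw [hpos i hi a ha]; simp
      · rcases eq_or_ne j 0 with rfl | hj
        · rw [cmp_of_mem 𝒜 ha, cmp_of_mem 𝒜 hb, cmp_of_mem 𝒜]
          simpa using SetLike.GradedMul.mul_mem ha hb
        · rw [cmp_of_ne 𝒜 hb hj, cmp_of_ne 𝒜 (SetLike.GradedMul.mul_mem ha hb) (by simpa using hj), mul_zero]
      · rcases lt_or_ge j 0 with hj | hj
        · rw [hpos j hj b hb]; simp
        · rw [cmp_of_ne 𝒜 ha hi.ne', cmp_of_ne 𝒜 (SetLike.GradedMul.mul_mem ha hb) (by omega), zero_mul]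

/-- projection onto degree zero -/
def projZero : R →+* GrLC.deg0 𝒜 where
  toFun x := ⟨cmp 𝒜 0 x, cmp_mem 𝒜 0 x⟩
  map_one' := Subtype.ext (cmp_of_mem 𝒜 SetLike.GradedOne.one_mem)
  map_mul' x y := Subtype.ext (cmp_zero_mul hpos x y)
  map_zero' := Subtype.ext (map_zero _)
  map_add' x y := Subtype.ext (map_add _ x y)

lemma isNoetherianRing_deg0 [IsNoetherianRing R] : IsNoetherianRing (GrLC.deg0 𝒜) :=
  isNoetherianRing_of_surjective R _ (projZero hpos) fun x => ⟨x, Subtype.ext (cmp_of_mem 𝒜 x.2)⟩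

lemma mem_plus_iff {a : HomogeneousIdeal 𝒜} (ha : IsPlus a) (x : R) : x ∈ a.toIdeal ↔ cmp 𝒜 0 x = 0 := by
  rw [ha]
  constructor
  · intro hx
    induction hx using Submodule.span_induction with
    | mem y hy =>
      obtain ⟨n, hn, hy⟩ := Set.mem_iUnion₂.1 hy
      exact cmp_of_ne 𝒜 hy (Set.mem_Ioi.1 hn).ne'
    | zero => exact map_zero _
    | add y z _ _ hy hz => rw [map_add, hy, hz, add_zero]
    | smul c y _ hy => rw [smul_eq_mul, cmp_zero_mul hpos, hy, mul_zero]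
  · intro hx
    obtain ⟨t, ht⟩ := exists_sum_cmp 𝒜 x
    rw [← ht]
    refine sum_mem fun d _ => ?_
    rcases lt_trichotomy d 0 with hd | rfl | hd
    · rw [hpos d hd _ (cmp_mem 𝒜 d x)]; exact zero_mem _
    · rw [hx]; exact zero_mem _
    · exact Ideal.subset_span (Set.mem_biUnion (Set.mem_Ioi.2 hd) (cmp_mem 𝒜 d x))

omit hpos in
lemma mem_plus_of_mem {a : HomogeneousIdeal 𝒜} (ha : IsPlus a) {n : ℤ} (hn : 0 < n) {x : R} (hx : x ∈ 𝒜 n) :
    x ∈ a.toIdeal := ha ▸ Ideal.subset_span (Set.mem_biUnion (Set.mem_Ioi.2 hn) hx)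

variable [IsNoetherianRing R] {a : HomogeneousIdeal 𝒜} (ha : IsPlus a)
include ha

lemma exists_plus_gens : ∃ (k : ℕ) (deg : Fin k → ℤ) (g : Fin k → R),
    (∀ b, 0 < deg b) ∧ (∀ b, g b ∈ 𝒜 (deg b)) ∧ Ideal.span (Set.range g) = a.toIdeal := by
  obtain ⟨k, deg, g, hg, hspan⟩ := exists_homog_generators 𝒜 𝒜 (a.toIdeal : Submodule R R)
    (fun d m hm => a.isHomogeneous d hm) (IsNoetherian.noetherian _)
  refine ⟨k, fun b => max 1 (deg b), g, fun b => lt_of_lt_of_le one_pos (le_max_left _ _), fun b => ?_, hspan⟩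
  dsimp only
  rcases lt_or_ge 0 (deg b) with h | h
  · rw [max_eq_right (by omega : (1 : ℤ) ≤ deg b)]; exact hg b
  · have : g b = 0 := by
      rcases h.lt_or_eq with h | h
      · exact hpos _ h _ (hg b)
      · have hmem : g b ∈ a.toIdeal := by rw [← hspan]; exact Submodule.subset_span ⟨b, rfl⟩
        rw [mem_plus_iff hpos ha, cmp_of_mem 𝒜 (h ▸ hg b : g b ∈ 𝒜 0)] at hmem
        exact hmem
    rw [this]; exact zero_mem _

lemma exists_pow_of_degree (k : ℕ) : ∃ B : ℤ, ∀ n, B ≤ n → ∀ x ∈ 𝒜 n, x ∈ a.toIdeal ^ k := by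
  obtain ⟨m, deg, g, hdeg, hg, hspan⟩ := exists_plus_gens hpos ha
  induction k with
  | zero => exact ⟨0, fun n _ x _ => by rw [pow_zero, Ideal.one_eq_top]; trivial⟩
  | succ k ih =>
    obtain ⟨B, hB⟩ := ih
    refine ⟨max 1 B + ∑ b, deg b, fun n hn x hx => ?_⟩
    have hsum : ∀ b, deg b ≤ ∑ b, deg b := fun b => Finset.single_le_sum (fun b _ => (hdeg b).le) (Finset.mem_univ b)
    have hs0 : 0 ≤ ∑ b, deg b := Finset.sum_nonneg fun b _ => (hdeg b).le
    have hxa := mem_plus_of_mem ha (show 0 < n by omega) hx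
    rw [← hspan, Ideal.mem_span_range_iff_exists_fun] at hxa
    obtain ⟨c, hc⟩ := hxa
    rw [← cmp_of_mem 𝒜 hx, ← hc, map_sum]
    refine sum_mem fun b _ => ?_
    rw [show c b * g b = c b • g b from rfl, cmp_smul_homog_right 𝒜 𝒜 n (hg b), smul_eq_mul, pow_succ]
    exact Ideal.mul_mem_mul (hB _ (by have := hsum b; omega) _ (cmp_mem 𝒜 _ _))
      (hspan ▸ Submodule.subset_span ⟨b, rfl⟩)

/-- the pieces of the ring are finite over degree zero -/
lemma finite_ring_comp (n : ℤ) : Module.Finite (GrLC.deg0 𝒜) (GrLC.comp 𝒜 𝒜 n) := by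
  obtain ⟨m, deg, g, hdeg, hg, hspan⟩ := exists_plus_gens hpos ha
  have hneg : ∀ n : ℤ, n < 0 → Module.Finite (GrLC.deg0 𝒜) (GrLC.comp 𝒜 𝒜 n) := fun n hn => by
    rw [Module.Finite.iff_fg, show GrLC.comp 𝒜 𝒜 n = ⊥ from (Submodule.eq_bot_iff _).2 fun x hx => hpos n hn x hx]
    exact Submodule.fg_bot
  suffices h : ∀ (j : ℕ) (n : ℤ), n ≤ j → Module.Finite (GrLC.deg0 𝒜) (GrLC.comp 𝒜 𝒜 n) from
    h n.toNat n (Int.self_le_toNat n)
  intro j
  induction j with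
  | zero =>
    intro n hn
    rcases hn.lt_or_eq with h | h
    · exact hneg n (by simpa using h)
    · rw [show n = 0 by simpa using h]
      refine Module.Finite.iff_fg.2 ⟨{1}, ?_⟩
      rw [Finset.coe_singleton]
      refine le_antisymm ((Submodule.span_singleton_le_iff_mem _ _).2 (show (1 : R) ∈ 𝒜 0 from SetLike.GradedOne.one_mem)) fun x hx =>
        Submodule.mem_span_singleton.2 ⟨⟨x, hx⟩, mul_one x⟩
  | succ j ih =>
    intro n hn
    rcases le_or_gt n (j : ℤ) with h | h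
    · exact ih n h
    let Φ : (∀ b, GrLC.comp 𝒜 𝒜 (n - deg b)) →ₗ[GrLC.deg0 𝒜] R :=
      { toFun := fun v => ∑ b, (v b : R) * g b
        map_add' := fun v w => by simp [add_mul, Finset.sum_add_distrib]
        map_smul' := fun r v => by simp [Finset.smul_sum] }
    have : ∀ b, Module.Finite (GrLC.deg0 𝒜) (GrLC.comp 𝒜 𝒜 (n - deg b)) := fun b =>
      ih _ (by have := hdeg b; omega)
    refine Module.Finite.iff_fg.2 ?_
    have hrange : LinearMap.range Φ = GrLC.comp 𝒜 𝒜 n := by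
      refine le_antisymm ?_ fun x hx => ?_
      · rintro _ ⟨v, rfl⟩
        show ∑ b, (v b : R) * g b ∈ GrLC.comp 𝒜 𝒜 n
        refine sum_mem fun b _ => ?_
        have h1 : (v b : R) ∈ 𝒜 (n - deg b) := (v b).2
        have := SetLike.GradedMul.mul_mem h1 (hg b)
        rwa [sub_add_cancel] at this
      · have hxa := mem_plus_of_mem ha (show 0 < n by omega) (show x ∈ 𝒜 n from hx)
        rw [← hspan, Ideal.mem_span_range_iff_exists_fun] at hxa
        obtain ⟨c, hc⟩ := hxa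
        refine ⟨fun b => ⟨cmp 𝒜 (n - deg b) (c b), cmp_mem 𝒜 _ _⟩, ?_⟩
        show ∑ b, cmp 𝒜 (n - deg b) (c b) * g b = x
        rw [← cmp_of_mem 𝒜 (show x ∈ 𝒜 n from hx), ← hc, map_sum]
        exact Finset.sum_congr rfl fun b _ => (cmp_smul_homog_right 𝒜 𝒜 n (hg b) (c b)).symm
    rw [← hrange, LinearMap.range_eq_map]
    exact Module.Finite.fg_top.map Φ

variable {M : Type u} [AddCommGroup M] [Module R M] {τ : Type u} [SetLike τ M] [AddSubgroupClass τ M]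
  (ℳ : ℤ → τ) [Decomposition ℳ] [SetLike.GradedSMul 𝒜 ℳ] [Module.Finite R M]

/-- the pieces of a finite graded module are finite over degree zero -/
lemma finite_comp (n : ℤ) : Module.Finite (GrLC.deg0 𝒜) (GrLC.comp 𝒜 ℳ n) := by
  obtain ⟨m, deg, g, hg, hspan⟩ := exists_homog_generators 𝒜 ℳ (⊤ : Submodule R M) (fun _ _ _ => trivial)
    Module.Finite.fg_top
  have : ∀ b, Module.Finite (GrLC.deg0 𝒜) (GrLC.comp 𝒜 𝒜 (n - deg b)) := fun b => finite_ring_comp hpos ha _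
  let Φ : (∀ b, GrLC.comp 𝒜 𝒜 (n - deg b)) →ₗ[GrLC.deg0 𝒜] M :=
    { toFun := fun v => ∑ b, (v b : R) • g b
      map_add' := fun v w => by simp [add_smul, Finset.sum_add_distrib]
      map_smul' := fun r v => by simp [Finset.smul_sum] }
  have hrange : LinearMap.range Φ = GrLC.comp 𝒜 ℳ n := by
    refine le_antisymm ?_ fun x hx => ?_
    · rintro _ ⟨v, rfl⟩
      show ∑ b, (v b : R) • g b ∈ GrLC.comp 𝒜 ℳ n
      refine sum_mem fun b _ => ?_
      have h1 : (v b : R) ∈ 𝒜 (n - deg b) := (v b).2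
      have := smul_mem_add 𝒜 ℳ h1 (hg b)
      rwa [sub_add_cancel] at this
    · obtain ⟨c, hc⟩ := (Submodule.mem_span_range_iff_exists_fun R).1 (show x ∈ Submodule.span R (Set.range g) by
        rw [hspan]; trivial)
      refine ⟨fun b => ⟨cmp 𝒜 (n - deg b) (c b), cmp_mem 𝒜 _ _⟩, ?_⟩
      show ∑ b, cmp 𝒜 (n - deg b) (c b) • g b = x
      rw [← cmp_of_mem ℳ (show x ∈ ℳ n from hx), ← hc, map_sum]
      exact Finset.sum_congr rfl fun b _ => (cmp_smul_homog_right 𝒜 ℳ n (hg b) (c b)).symm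
  rw [Module.Finite.iff_fg, ← hrange, LinearMap.range_eq_map]
  exact Module.Finite.fg_top.map Φ

omit [Module.Finite R M] in
/-- a finite homogeneous submodule killed by a power of `a` lives in bounded degree -/
lemma exists_bound_of_torsion (P : Submodule R M) (hP : P.IsHomogeneous ℳ) (hfg : P.FG)
    (htors : P ≤ GrLC.gam a.toIdeal M) : ∃ r : ℤ, ∀ n, r ≤ n → ∀ x ∈ P, x ∈ ℳ n → x = 0 := by
  classical
  obtain ⟨m, deg, g, hg, hspan⟩ := exists_homog_generators 𝒜 ℳ P hP hfg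
  choose e he using fun b => htors (hspan ▸ Submodule.subset_span ⟨b, rfl⟩ : g b ∈ P)
  choose B hB using fun b => exists_pow_of_degree hpos ha (e b)
  obtain ⟨r, hr⟩ := (Finset.univ.image fun b => B b + deg b).exists_le
  refine ⟨r, fun n hn x hx hxn => ?_⟩
  obtain ⟨c, hc⟩ := (Submodule.mem_span_range_iff_exists_fun R).1 (show x ∈ Submodule.span R (Set.range g) by
    rw [hspan]; exact hx)
  rw [← cmp_of_mem ℳ hxn, ← hc, map_sum]
  refine Finset.sum_eq_zero fun b _ => ?_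
  rw [cmp_smul_homog_right 𝒜 ℳ n (hg b)]
  refine he b _ (hB b _ ?_ _ (cmp_mem 𝒜 _ _))
  have := hr _ (Finset.mem_image.2 ⟨b, Finset.mem_univ _, rfl⟩)
  omega

omit [IsNoetherianRing R] hpos ha in
lemma avoid_combine {s : Finset (Ideal R)} (hs : ∀ Q ∈ s, Q.IsPrime) {P : Ideal R} {n : ℤ} {x : R} (hn : 0 < n)
    (hx : x ∈ 𝒜 n) (hxP : x ∈ P) (hxs : ∀ Q ∈ s, Q ≠ P → x ∉ Q) {m : ℤ} {z : R} (hm : 0 < m) (hz : z ∈ 𝒜 m)
    (hzP : z ∉ P) (hzQ : ∀ Q ∈ s, Q ≠ P → z ∈ Q) :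
    ∃ (n : ℤ) (x : R), 0 < n ∧ x ∈ 𝒜 n ∧ ∀ Q ∈ s, x ∉ Q := by
  refine ⟨m * n, x ^ m.toNat + z ^ n.toNat, mul_pos hm hn, add_mem ?_ ?_, fun Q hQ hmem => ?_⟩
  · have := SetLike.pow_mem_graded m.toNat hx
    rwa [nsmul_eq_mul, Int.toNat_of_nonneg hm.le] at this
  · have := SetLike.pow_mem_graded n.toNat hz
    rwa [nsmul_eq_mul, Int.toNat_of_nonneg hn.le, mul_comm] at this
  · have hm' : 0 < m.toNat := by omega
    have hn' : 0 < n.toNat := by omega
    rcases eq_or_ne Q P with rfl | h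
    · exact hzP ((hs Q hQ).mem_of_pow_mem _
        ((Ideal.add_mem_iff_right _ (Ideal.pow_mem_of_mem _ hxP _ hm')).1 hmem))
    · exact hxs Q hQ h ((hs Q hQ).mem_of_pow_mem _
        ((Ideal.add_mem_iff_left _ (Ideal.pow_mem_of_mem _ (hzQ Q hQ h) _ hn')).1 hmem))

omit [IsNoetherianRing R] hpos ha in
/-- homogeneous avoidance -/
lemma exists_homog_avoid (a : HomogeneousIdeal 𝒜) (ha : IsPlus a) (c : ℕ) :
    ∀ s : Finset (Ideal R), s.card = c → (∀ P ∈ s, P.IsPrime ∧ ¬ a.toIdeal ≤ P) →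
      ∃ (n : ℤ) (x : R), 0 < n ∧ x ∈ 𝒜 n ∧ ∀ P ∈ s, x ∉ P := by
  classical
  induction c using Nat.strong_induction_on with
  | _ c ih =>
    intro s hc hs
    rcases s.eq_empty_or_nonempty with rfl | ⟨P, hP⟩
    · exact ⟨1, 0, one_pos, zero_mem _, by simp⟩
    obtain ⟨hPp, hPa⟩ := hs P hP
    obtain ⟨w, i₀, hi₀, hw, hwP⟩ : ∃ w, ∃ i : ℤ, 0 < i ∧ w ∈ 𝒜 i ∧ w ∉ P := by
      by_contra h
      refine hPa ?_
      rw [ha, Ideal.span_le]
      intro y hy
      obtain ⟨i, hi, hy⟩ := Set.mem_iUnion₂.1 hy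
      by_contra hyP
      exact h ⟨y, i, Set.mem_Ioi.1 hi, hy, hyP⟩
    have hcard : (s.erase P).card < c := hc ▸ Finset.card_erase_lt_of_mem hP
    obtain ⟨n, x, hn, hx, hxs⟩ := ih _ hcard (s.erase P) rfl fun Q hQ => hs Q (Finset.mem_of_mem_erase hQ)
    by_cases hxP : x ∈ P
    swap
    · refine ⟨n, x, hn, hx, fun Q hQ => ?_⟩
      rcases eq_or_ne Q P with rfl | h
      · exact hxP
      · exact hxs Q (Finset.mem_erase.2 ⟨h, hQ⟩)
    by_cases hall : ∀ Q ∈ s.erase P, ∃ y, ∃ j : ℤ, y ∈ 𝒜 j ∧ y ∈ Q ∧ y ∉ P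
    · choose y j hy hyQ hyP using hall
      let z := (∏ Q : ↥(s.erase P), y Q Q.2) * w
      have hzP : z ∉ P := by
        refine hPp.mul_notMem (fun h => ?_) hwP
        obtain ⟨Q, -, hQ⟩ := hPp.prod_mem_iff.1 h
        exact hyP Q Q.2 hQ
      have hzmem : z ∈ 𝒜 ((∑ Q : ↥(s.erase P), j Q Q.2) + i₀) :=
        SetLike.GradedMul.mul_mem (SetLike.prod_mem_graded _ _ _ fun Q _ => hy Q Q.2) hw
      obtain ⟨l, hl⟩ : ∃ l : ℕ, 0 < (∑ Q : ↥(s.erase P), j Q Q.2) + i₀ + (l : ℤ) * i₀ := by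
        refine ⟨(-((∑ Q : ↥(s.erase P), j Q Q.2) + i₀)).toNat + 1, ?_⟩
        have h1 := Int.self_le_toNat (-((∑ Q : ↥(s.erase P), j Q Q.2) + i₀))
        push_cast
        nlinarith
      have hzl : z * w ^ l ∈ 𝒜 ((∑ Q : ↥(s.erase P), j Q Q.2) + i₀ + (l : ℤ) * i₀) := by
        have := SetLike.GradedMul.mul_mem hzmem (SetLike.pow_mem_graded l hw)
        rwa [nsmul_eq_mul] at this
      have hzlP : z * w ^ l ∉ P := hPp.mul_notMem hzP fun h => hwP (hPp.mem_of_pow_mem _ h)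
      refine avoid_combine (fun Q hQ => (hs Q hQ).1) hn hx hxP (fun Q hQ h => hxs Q (Finset.mem_erase.2 ⟨h, hQ⟩))
        hl hzl hzlP fun Q hQ h => Ideal.mul_mem_right _ _ (Ideal.mul_mem_right _ _ ?_)
      obtain ⟨c, hc⟩ := Finset.dvd_prod_of_mem (fun Q : ↥(s.erase P) => y Q Q.2)
        (Finset.mem_univ (⟨Q, Finset.mem_erase.2 ⟨h, hQ⟩⟩ : ↥(s.erase P)))
      rw [hc]
      exact Ideal.mul_mem_right _ _ (hyQ _ _)
    · obtain ⟨Q, hQ, hQP⟩ : ∃ Q ∈ s.erase P, ∀ y, ∀ j : ℤ, y ∈ 𝒜 j → y ∈ Q → y ∈ P := by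
        by_contra h
        refine hall fun Q hQ => ?_
        by_contra h'
        exact h ⟨Q, hQ, fun y j hy hyQ => by_contra fun hyP => h' ⟨y, j, hy, hyQ, hyP⟩⟩
      have hQs : Q ∈ s := Finset.mem_of_mem_erase hQ
      obtain ⟨n', x', hn', hx', hxs'⟩ := ih _ (hc ▸ Finset.card_erase_lt_of_mem hQs) (s.erase Q) rfl
        fun T hT => hs T (Finset.mem_of_mem_erase hT)
      refine ⟨n', x', hn', hx', fun T hT hxT => ?_⟩
      rcases eq_or_ne T Q with rfl | h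
      · exact hxs' P (Finset.mem_erase.2 ⟨(Finset.ne_of_mem_erase hQ).symm, hP⟩) (hQP x' n' hx' hxT)
      · exact hxs' T (Finset.mem_erase.2 ⟨h, hT⟩) hxT

/-- a finite graded module without torsion has a homogeneous regular element of positive degree -/
lemma exists_regular_homog (h : GrLC.gam a.toIdeal M = ⊥) :
    ∃ (n : ℤ) (x : R), 0 < n ∧ x ∈ 𝒜 n ∧ IsSMulRegular M x := by
  classical
  have hfin := associatedPrimes.finite R M
  obtain ⟨n, x, hn, hx, hxs⟩ := exists_homog_avoid a ha _ hfin.toFinset rfl (fun P hP => by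
    have hPA : IsAssociatedPrime P M := AssociatedPrimes.mem_iff.1 (hfin.mem_toFinset.1 hP)
    refine ⟨hPA.isPrime, fun hle => ?_⟩
    obtain ⟨hprime, m, hm⟩ := Submodule.isAssociatedPrime_iff.1 hPA
    have hm0 : m = 0 := by
      rw [← Submodule.mem_bot R, ← h]
      refine ⟨1, fun r hr => ?_⟩
      rw [pow_one] at hr
      have := hle hr
      rw [hm] at this
      simpa using this
    exact hprime.ne_top (by rw [hm, hm0]; ext r; simp))
  refine ⟨n, x, hn, hx, ?_⟩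
  by_contra hreg
  have hzd : x ∈ ⋃ p ∈ associatedPrimes R M, (p : Set R) := by
    rw [biUnion_associatedPrimes_eq_zero_divisors]
    simp only [IsSMulRegular, Function.Injective, not_forall] at hreg
    obtain ⟨u, v, huv, hne⟩ := hreg
    exact ⟨u - v, sub_ne_zero.2 hne, by rw [smul_sub]; exact sub_eq_zero.2 huv⟩
  obtain ⟨P, hP, hxP⟩ := Set.mem_iUnion₂.1 hzd
  exact hxs P (hfin.mem_toFinset.2 hP) hxP

end Groth.Agent.GrMod19
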