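import Groth.Agent.GrMod19.Reg
import Groth.Agent.LC15.Artin
import Groth.Prelude.Def_GrSyz
import Mathlib.RingTheory.Ideal.Prime

/-! Graded local cohomology with support in an ideal containing the irrelevant ideal. -/

universe u

open DirectSum

namespace Groth.Agent.GrMod19

lemma isArtinian_of_map_of_inf_ker {S : Type*} [CommRing S] {A B : Type*} [AddCommGroup A] [Module S A]
    [AddCommGroup B] [Module S B] (f : A →ₗ[S] B) (P : Submodule S A) [IsArtinian S (P.map f)]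
    [IsArtinian S ↥(P ⊓ LinearMap.ker f)] : IsArtinian S P := by
  refine isArtinian_of_range_eq_ker (Submodule.inclusion inf_le_left : ↥(P ⊓ LinearMap.ker f) →ₗ[S] P)
    (f.submoduleMap P) ?_
  rw [Submodule.range_inclusion]
  ext x
  rw [Submodule.mem_comap, LinearMap.mem_ker, Submodule.subtype_apply]
  exact ⟨fun h => Subtype.ext h.2, fun h => ⟨x.2, congrArg Subtype.val h⟩⟩

lemma isArtinian_map {S : Type*} [CommRing S] {A B : Type*} [AddCommGroup A] [Module S A]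
    [AddCommGroup B] [Module S B] (f : A →ₗ[S] B) (P : Submodule S A) [IsArtinian S P] :
    IsArtinian S (P.map f) :=
  isArtinian_of_surjective P (f.submoduleMap P) (f.submoduleMap_surjective P)

variable {R : Type u} [CommRing R] [IsNoetherianRing R] {σ : Type u} [SetLike σ R] [AddSubgroupClass σ R]
  {𝒜 : ℤ → σ} [GradedRing 𝒜]

/-- the degree-zero part of an ideal -/
def deg0Part (J : HomogeneousIdeal 𝒜) : Ideal (GrLC.deg0 𝒜) := J.toIdeal.comap (GrLC.deg0 𝒜).subtype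

section Step

variable {J : HomogeneousIdeal 𝒜}
variable {M : Type u} [AddCommGroup M] [Module R M] {ℳ : ℤ → AddSubgroup M} [Decomposition ℳ]
  [SetLike.GradedSMul 𝒜 ℳ]
  {L : Type u} [AddCommGroup L] [Module R L] {ℒ : ℤ → AddSubgroup L} [Decomposition ℒ] [SetLike.GradedSMul 𝒜 ℒ]
  {N : Type u} [AddCommGroup N] [Module R N] {𝒩 : ℤ → AddSubgroup N} [Decomposition 𝒩] [SetLike.GradedSMul 𝒜 𝒩]

/-- Artinian pieces pass through the middle of the long exact sequence -/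
lemma isArtinian_mid {f : L →ₗ[R] M} {g : M →ₗ[R] N} (S : Ses ℒ ℳ 𝒩 f g 0) (D : GrLC.StarInjRes 𝒜 ℒ)
    (E : GrLC.StarInjRes 𝒜 ℳ) (G : GrLC.StarInjRes 𝒜 𝒩) (i : ℕ) (n : ℤ)
    (h1 : IsArtinian (GrLC.deg0 𝒜) (D.Hcomp J i n)) (h2 : IsArtinian (GrLC.deg0 𝒜) (G.Hcomp J i n)) :
    IsArtinian (GrLC.deg0 𝒜) (E.Hcomp J i n) := by
  obtain ⟨δ, -, hex, -, -, -⟩ := exists_les D E G S J
  set q := (hMap E G J g (isGrHomDeg_zero_iff.2 S.hg) i).restrictScalars (GrLC.deg0 𝒜)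
  set p := (hMap D E J f S.hf i).restrictScalars (GrLC.deg0 𝒜)
  have : IsArtinian (GrLC.deg0 𝒜) ((E.Hcomp J i n).map q) := isArtinian_of_le (t := G.Hcomp J i n) (by
    rintro _ ⟨y, hy, rfl⟩
    exact hMap_mem_Hcomp₀ J E G _ hy)
  have := isArtinian_map p (D.Hcomp J i n)
  have : IsArtinian (GrLC.deg0 𝒜) ↥(E.Hcomp J i n ⊓ LinearMap.ker q) :=
    isArtinian_of_le (t := (D.Hcomp J i n).map p) (by
      rintro y ⟨hy, hy0⟩
      obtain ⟨x, hx, hxy⟩ := exists_Hcomp_preimage D J E (g := n) (hMap_deg (E := D) (F := E) J S.hf i)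
        (by rwa [add_zero]) ((hex i y).1 hy0)
      exact ⟨x, hx, hxy⟩)
  exact isArtinian_of_map_of_inf_ker q _

variable {x : R} {k : ℤ} (hx : x ∈ 𝒜 k) (hxJ : x ∈ J.toIdeal)
include hx hxJ

/-- vanishing along a regular element -/
lemma van_regular_step {g : M →ₗ[R] N} (S : Ses ℳ ℳ 𝒩 (x • LinearMap.id) g k) (hk : 0 ≤ k)
    (E : GrLC.StarInjRes 𝒜 ℳ) (G : GrLC.StarInjRes 𝒜 𝒩) (i : ℕ) {r : ℤ}
    (hr : ∀ n, r ≤ n → G.Hcomp J i n = ⊥) : ∀ n, r - k ≤ n → E.Hcomp J (i + 1) n = ⊥ := by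
  obtain ⟨δ, hδ, -, -, hex, -⟩ := exists_les E E G S J
  intro n hn
  refine (Submodule.eq_bot_iff _).2 fun y hy => ?_
  obtain ⟨l, hl⟩ := exists_pow_smul_eq_zero E J (i + 1) hxJ y
  induction l generalizing n y with
  | zero => simpa using hl
  | succ l ihl =>
    have hxy : x • y = 0 := ihl (n + k) (by omega) _ (smul_mem_Hcomp E J (i + 1) hx hy)
      (by rw [← mul_smul, ← pow_succ]; exact hl)
    obtain ⟨q, hq, rfl⟩ := exists_Hcomp_preimage G J E (g := n + k) (hδ i) (by rwa [add_neg_cancel_right])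
      ((hex i y).1 (by rw [hMap_smul J hx]; exact hxy))
    rw [hr (n + k) (by omega), Submodule.mem_bot] at hq
    rw [hq, map_zero]

/-- Artinian pieces along a regular element -/
lemma artinian_regular_step {g : M →ₗ[R] N} (S : Ses ℳ ℳ 𝒩 (x • LinearMap.id) g k) (hk : 0 ≤ k)
    (E : GrLC.StarInjRes 𝒜 ℳ) (G : GrLC.StarInjRes 𝒜 𝒩) (i : ℕ)
    (hA : ∀ n, IsArtinian (GrLC.deg0 𝒜) (G.Hcomp J i n)) (hV : ∃ r : ℤ, ∀ n, r ≤ n → G.Hcomp J i n = ⊥) :
    ∀ n, IsArtinian (GrLC.deg0 𝒜) (E.Hcomp J (i + 1) n) := by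
  obtain ⟨δ, hδ, -, -, hex, -⟩ := exists_les E E G S J
  let μ := (x • LinearMap.id : E.H J (i + 1) →ₗ[R] E.H J (i + 1)).restrictScalars (GrLC.deg0 𝒜)
  have hkerA : ∀ n, IsArtinian (GrLC.deg0 𝒜) ↥(E.Hcomp J (i + 1) n ⊓ LinearMap.ker μ) := fun n => by
    have := hA (n + k)
    have := isArtinian_map ((δ i).restrictScalars (GrLC.deg0 𝒜)) (G.Hcomp J i (n + k))
    refine isArtinian_of_le (t := (G.Hcomp J i (n + k)).map ((δ i).restrictScalars (GrLC.deg0 𝒜))) ?_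
    rintro y ⟨hy, hy0⟩
    obtain ⟨q, hq, hqy⟩ := exists_Hcomp_preimage G J E (g := n + k) (hδ i) (by rwa [add_neg_cancel_right])
      ((hex i y).1 (by rw [hMap_smul J hx]; exact hy0))
    exact ⟨q, hq, hqy⟩
  obtain ⟨r, hr⟩ := hV
  rcases hk.lt_or_eq with hk' | rfl
  · have hvan := van_regular_step hx hxJ S hk E G i hr
    suffices hall : ∀ (j : ℕ) (n : ℤ), r - k - j ≤ n → IsArtinian (GrLC.deg0 𝒜) (E.Hcomp J (i + 1) n) from
      fun n => hall (r - k - n).toNat n (by omega)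
    intro j
    induction j with
    | zero =>
      intro n hn
      rw [hvan n (by simpa using hn)]
      infer_instance
    | succ j ihj =>
      intro n hn
      have := ihj (n + k) (by push_cast at hn; omega)
      have : IsArtinian (GrLC.deg0 𝒜) ((E.Hcomp J (i + 1) n).map μ) :=
        isArtinian_of_le (t := E.Hcomp J (i + 1) (n + k)) (by
          rintro _ ⟨y, hy, rfl⟩
          exact smul_mem_Hcomp E J (i + 1) hx hy)
      have := hkerA n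
      exact isArtinian_of_map_of_inf_ker μ _
  · intro n
    refine LC15.isArtinian_of_pow_torsion_single (⟨x, hx⟩ : GrLC.deg0 𝒜) (fun y => ?_) ?_
    · obtain ⟨l, hl⟩ := exists_pow_smul_eq_zero E J (i + 1) hxJ (y : E.H J (i + 1))
      refine ⟨l, Subtype.ext ?_⟩
      rw [Submodule.coe_smul, Subring.smul_def, SubmonoidClass.coe_pow]
      exact hl
    · have := hkerA n
      exact isArtinian_of_injective
        (LinearMap.codRestrict (E.Hcomp J (i + 1) n ⊓ LinearMap.ker μ)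
          ((E.Hcomp J (i + 1) n).subtype ∘ₗ (Submodule.torsionBy (GrLC.deg0 𝒜) _ (⟨x, hx⟩ : GrLC.deg0 𝒜)).subtype)
          fun y => ⟨y.1.2, congrArg Subtype.val ((Submodule.mem_torsionBy_iff _ _).1 y.2)⟩)
        fun y z h => Subtype.ext (Subtype.ext (congrArg Subtype.val h :))

end Step

/-- the statement in cohomological degree `i` -/
def JGood (J : HomogeneousIdeal 𝒜) (i : ℕ) : Prop :=
  ∀ (M : Type u) [AddCommGroup M] [Module R M] [Module.Finite R M] (ℳ : ℤ → AddSubgroup M) [Decomposition ℳ]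
    [SetLike.GradedSMul 𝒜 ℳ] (E : GrLC.StarInjRes 𝒜 ℳ),
      (∀ n, IsArtinian (GrLC.deg0 𝒜) (E.Hcomp J i n)) ∧ (∃ r : ℤ, ∀ n, r ≤ n → E.Hcomp J i n = ⊥) ∧
        ∀ r : ℤ, (∀ n, r ≤ n → ∀ x ∈ ℳ n, x = 0) → ∀ n, r ≤ n → E.Hcomp J i n = ⊥

variable (hpos : NonnegGr 𝒜) {a J : HomogeneousIdeal 𝒜} (ha : IsPlus a) (haJ : a.toIdeal ≤ J.toIdeal)
include hpos ha haJ

omit [IsNoetherianRing R] in
lemma gam_mono {M : Type u} [AddCommGroup M] [Module R M] :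
    GrLC.gam J.toIdeal M ≤ GrLC.gam a.toIdeal M := fun m ⟨k, hk⟩ =>
  ⟨k, fun r hr => hk r (Ideal.pow_right_mono haJ k hr)⟩

/-- a regular element of degree zero on a torsion module -/
lemma exists_regular_deg0 {M : Type u} [AddCommGroup M] [Module R M] [Module.Finite R M]
    (hM : LocCoh.IsPowerTorsion a.toIdeal M) (hJ : GrLC.gam J.toIdeal M = ⊥) :
    ∃ x : R, x ∈ 𝒜 0 ∧ x ∈ J.toIdeal ∧ IsSMulRegular M x := by
  classical
  have hfin := associatedPrimes.finite R M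
  by_contra hno
  have hsub : (deg0Part J : Set (GrLC.deg0 𝒜)) ⊆
      ⋃ P ∈ (hfin.toFinset : Set (Ideal R)), (P.comap (GrLC.deg0 𝒜).subtype : Set (GrLC.deg0 𝒜)) := by
    intro y hy
    by_contra hyP
    refine hno ⟨y, y.2, hy, ?_⟩
    by_contra hreg
    have hzd : (y : R) ∈ ⋃ p ∈ associatedPrimes R M, (p : Set R) := by
      rw [biUnion_associatedPrimes_eq_zero_divisors]
      simp only [IsSMulRegular, Function.Injective, not_forall] at hreg
      obtain ⟨u, v, huv, hne⟩ := hreg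
      exact ⟨u - v, sub_ne_zero.2 hne, by rw [smul_sub]; exact sub_eq_zero.2 huv⟩
    obtain ⟨P, hP, hyP'⟩ := Set.mem_iUnion₂.1 hzd
    exact hyP (Set.mem_iUnion₂.2 ⟨P, Finset.mem_coe.2 (hfin.mem_toFinset.2 hP), hyP'⟩)
  obtain ⟨P, hP, hle⟩ := (Ideal.subset_union_prime (R := GrLC.deg0 𝒜) (⊥ : Ideal R) (⊥ : Ideal R) fun P hP _ _ => by
    have hPA : IsAssociatedPrime P M := AssociatedPrimes.mem_iff.1 (hfin.mem_toFinset.1 hP)
    have := hPA.isPrime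
    exact Ideal.comap_isPrime _ P).1 hsub
  have hPA : IsAssociatedPrime P M := AssociatedPrimes.mem_iff.1 (hfin.mem_toFinset.1 hP)
  obtain ⟨hprime, m, hm⟩ := Submodule.isAssociatedPrime_iff.1 hPA
  obtain ⟨e, he⟩ := hM m
  have haP : a.toIdeal ≤ P := hprime.le_of_pow_le (n := e) fun r hr => by
    rw [hm]; simpa using he r hr
  have hJP : J.toIdeal ≤ P := fun z hz => by
    have h0 : cmp 𝒜 0 z ∈ P := hle (show (⟨cmp 𝒜 0 z, cmp_mem 𝒜 0 z⟩ : GrLC.deg0 𝒜) ∈ deg0Part J from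
      J.isHomogeneous 0 hz)
    have h1 : z - cmp 𝒜 0 z ∈ a.toIdeal := by
      rw [mem_plus_iff hpos ha, map_sub, cmp_of_mem 𝒜 (cmp_mem 𝒜 0 z), sub_self]
    have h2 := add_mem (haP h1) h0
    rwa [sub_add_cancel] at h2
  have hm0 : m = 0 := by
    rw [← Submodule.mem_bot R, ← hJ]
    refine ⟨1, fun r hr => ?_⟩
    rw [pow_one] at hr
    have := hJP hr
    rw [hm] at this
    simpa using this
  exact hprime.ne_top (by rw [hm, hm0]; ext r; simp)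

/-- the step along a regular element, bundled -/
lemma jgood_regular (i : ℕ) (ih : JGood J i) (M : Type u) [AddCommGroup M] [Module R M] [Module.Finite R M]
    (ℳ : ℤ → AddSubgroup M) [Decomposition ℳ] [SetLike.GradedSMul 𝒜 ℳ] (E : GrLC.StarInjRes 𝒜 ℳ) {x : R} {k : ℤ}
    (hk : 0 ≤ k) (hx : x ∈ 𝒜 k) (hxJ : x ∈ J.toIdeal) (hreg : IsSMulRegular M x) :
    (∀ n, IsArtinian (GrLC.deg0 𝒜) (E.Hcomp J (i + 1) n)) ∧ (∃ r : ℤ, ∀ n, r ≤ n → E.Hcomp J (i + 1) n = ⊥) ∧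
        ∀ r : ℤ, (∀ n, r ≤ n → ∀ x ∈ ℳ n, x = 0) → ∀ n, r ≤ n → E.Hcomp J (i + 1) n = ⊥ := by
  let f : M →ₗ[R] M := x • LinearMap.id
  have hf : GrLC.IsGrHomDeg ℳ ℳ f k := fun g m hm => by
    rw [add_comm]
    exact smul_mem_add 𝒜 ℳ hx hm
  let P := LinearMap.range f
  have hP : P.IsHomogeneous ℳ := by
    rintro g _ ⟨m, rfl⟩
    refine ⟨cmp ℳ (g - k) m, ?_⟩
    have := map_cmp_deg ℳ ℳ hf (g - k) m
    rwa [sub_add_cancel] at this
  let : Decomposition (GrInj18.quotPieces ℳ P) := (GrInj18.quotPieces_isInternal ℳ hP).chooseDecomposition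
  obtain ⟨G⟩ := GrInj18.nonempty_starInjRes 𝒜 (GrInj18.quotPieces ℳ P)
  have S : Ses ℳ ℳ (GrInj18.quotPieces ℳ P) f P.mkQ k :=
    ⟨hf, GrInj18.isGrHom_mkQ ℳ P, hreg, LinearMap.exact_map_mkQ_range f, P.mkQ_surjective⟩
  obtain ⟨hA, hV, hB⟩ := ih (M ⧸ P) (GrInj18.quotPieces ℳ P) G
  refine ⟨artinian_regular_step hx hxJ S hk E G i hA hV, ?_, fun r hr n hn => ?_⟩
  · obtain ⟨r, hr⟩ := hV
    exact ⟨r - k, van_regular_step hx hxJ S hk E G i hr⟩
  · refine van_regular_step hx hxJ S hk E G i (r := r) (hB r fun n hn z hz => ?_) n (by omega)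
    obtain ⟨z', hz', rfl⟩ := hz
    rw [hr n hn z' hz', map_zero]

/-- the induction step -/
lemma jgood_succ (i : ℕ) (ih : JGood J i) : JGood J (i + 1) := by
  have htf : ∀ (M : Type u) [AddCommGroup M] [Module R M] [Module.Finite R M] (ℳ : ℤ → AddSubgroup M) [Decomposition ℳ]
      [SetLike.GradedSMul 𝒜 ℳ] (E : GrLC.StarInjRes 𝒜 ℳ), GrLC.gam J.toIdeal M = ⊥ →
      (∀ n, IsArtinian (GrLC.deg0 𝒜) (E.Hcomp J (i + 1) n)) ∧ (∃ r : ℤ, ∀ n, r ≤ n → E.Hcomp J (i + 1) n = ⊥) ∧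
        ∀ r : ℤ, (∀ n, r ≤ n → ∀ x ∈ ℳ n, x = 0) → ∀ n, r ≤ n → E.Hcomp J (i + 1) n = ⊥ := by
    intro M _ _ _ ℳ _ _ E hJM
    by_cases hMa : LocCoh.IsPowerTorsion a.toIdeal M
    · obtain ⟨x, hx, hxJ, hreg⟩ := exists_regular_deg0 hpos ha haJ hMa hJM
      exact jgood_regular hpos ha haJ i ih M ℳ E le_rfl hx hxJ hreg
    let Γ := GrLC.gam a.toIdeal M
    have hΓ : Γ.IsHomogeneous ℳ := isHomogeneous_gam ℳ a
    let : Decomposition (GrInj18.subGr ℳ Γ) := (GrInj18.subGr_isInternal ℳ hΓ).chooseDecomposition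
    let : Decomposition (GrInj18.quotPieces ℳ Γ) := (GrInj18.quotPieces_isInternal ℳ hΓ).chooseDecomposition
    obtain ⟨D⟩ := GrInj18.nonempty_starInjRes 𝒜 (GrInj18.subGr ℳ Γ)
    obtain ⟨G⟩ := GrInj18.nonempty_starInjRes 𝒜 (GrInj18.quotPieces ℳ Γ)
    have S : Ses (GrInj18.subGr ℳ Γ) ℳ (GrInj18.quotPieces ℳ Γ) Γ.subtype Γ.mkQ 0 :=
      ⟨isGrHomDeg_zero_iff.2 (GrInj18.isGrHom_subtype ℳ Γ), GrInj18.isGrHom_mkQ ℳ Γ, Γ.injective_subtype,
        LinearMap.exact_subtype_mkQ Γ, Γ.mkQ_surjective⟩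
    have hJΓ : GrLC.gam J.toIdeal Γ = ⊥ := by
      refine (Submodule.eq_bot_iff _).2 fun z ⟨e, he⟩ => Subtype.ext ?_
      show (z : M) = 0
      rw [← Submodule.mem_bot R, ← hJM]
      exact ⟨e, fun r hr => congrArg Subtype.val (he r hr)⟩
    obtain ⟨x₁, hx₁, hxJ₁, hreg₁⟩ := exists_regular_deg0 hpos ha haJ (isPowerTorsion_gam a.toIdeal) hJΓ
    obtain ⟨hA₁, ⟨r₁, hr₁⟩, -⟩ :=
      jgood_regular hpos ha haJ i ih Γ (GrInj18.subGr ℳ Γ) D le_rfl hx₁ hxJ₁ hreg₁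
    obtain ⟨k, x₂, hk, hx₂, hreg₂⟩ := exists_regular_homog hpos ha (gam_quot_gam_eq_bot (M := M) a.toIdeal)
    obtain ⟨hA₂, ⟨r₂, hr₂⟩, -⟩ := jgood_regular hpos ha haJ i ih (M ⧸ Γ) (GrInj18.quotPieces ℳ Γ) G hk.le hx₂
      (haJ (mem_plus_of_mem ha hk hx₂)) hreg₂
    refine ⟨fun n => isArtinian_mid S D E G (i + 1) n (hA₁ n) (hA₂ n), ⟨max r₁ r₂, fun n hn => ?_⟩, fun r hr => ?_⟩
    · exact (vanH_iff J E).1 (vanH_mid J S ((vanH_iff J D).2 (by rw [sub_zero]; exact hr₁ n (le_of_max_le_left hn)))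
        ((vanH_iff J G).2 (hr₂ n (le_of_max_le_right hn))))
    · exact absurd (isPowerTorsion_of_bounded ℳ hpos ha hr) hMa
  intro M _ _ _ ℳ _ _ E
  let Γ := GrLC.gam J.toIdeal M
  have hΓ : Γ.IsHomogeneous ℳ := isHomogeneous_gam ℳ J
  let : Decomposition (GrInj18.subGr ℳ Γ) := (GrInj18.subGr_isInternal ℳ hΓ).chooseDecomposition
  let : Decomposition (GrInj18.quotPieces ℳ Γ) := (GrInj18.quotPieces_isInternal ℳ hΓ).chooseDecomposition
  obtain ⟨D⟩ := GrInj18.nonempty_starInjRes 𝒜 (GrInj18.subGr ℳ Γ)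
  obtain ⟨G⟩ := GrInj18.nonempty_starInjRes 𝒜 (GrInj18.quotPieces ℳ Γ)
  have S : Ses (GrInj18.subGr ℳ Γ) ℳ (GrInj18.quotPieces ℳ Γ) Γ.subtype Γ.mkQ 0 :=
    ⟨isGrHomDeg_zero_iff.2 (GrInj18.isGrHom_subtype ℳ Γ), GrInj18.isGrHom_mkQ ℳ Γ, Γ.injective_subtype,
      LinearMap.exact_subtype_mkQ Γ, Γ.mkQ_surjective⟩
  have := subsingleton_H_of_torsion D J (isPowerTorsion_gam J.toIdeal) (Nat.succ_pos i)
  have hD : ∀ n, D.Hcomp J (i + 1) n = ⊥ := fun n => (Submodule.eq_bot_iff _).2 fun y _ => Subsingleton.elim _ _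
  obtain ⟨hA, ⟨r₀, hr₀⟩, hB⟩ := htf (M ⧸ Γ) (GrInj18.quotPieces ℳ Γ) G (gam_quot_gam_eq_bot J.toIdeal)
  have hmid : ∀ n, G.Hcomp J (i + 1) n = ⊥ → E.Hcomp J (i + 1) n = ⊥ := fun n h =>
    (vanH_iff J E).1 (vanH_mid J S ((vanH_iff J D).2 (by rw [sub_zero]; exact hD n)) ((vanH_iff J G).2 h))
  refine ⟨fun n => isArtinian_mid S D E G (i + 1) n ?_ (hA n), ⟨r₀, fun n hn => hmid n (hr₀ n hn)⟩,
    fun r hr n hn => hmid n (hB r (fun n hn z hz => ?_) n hn)⟩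
  · rw [hD n]; infer_instance
  · obtain ⟨z', hz', rfl⟩ := hz
    rw [hr n hn z' hz', map_zero]

variable (hmax : (deg0Part J).IsMaximal)
include hmax

/-- graded local cohomology with support in the maximal homogeneous ideal -/
theorem jGood : ∀ i, JGood J i := by
  have := isNoetherianRing_deg0 hpos
  intro i
  induction i with
  | zero =>
    intro M _ _ _ ℳ _ _ E
    refine ⟨fun n => ?_, ?_, fun r hr n hn => Hcomp_zero_eq_bot E J fun m _ hm => hr n hn m hm⟩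
    · have hfg := fg_Hcomp_zero E J (g := n) (Module.Finite.iff_fg.1 (finite_comp hpos ha ℳ n))
      have : Module.Finite (GrLC.deg0 𝒜) (E.Hcomp J 0 n) := Module.Finite.iff_fg.2 hfg
      refine LC15.isArtinian_of_support_maximal _ fun p hp => ?_
      have hle : deg0Part J ≤ p.asIdeal := by
        intro y hy
        obtain ⟨z, hz⟩ := Module.mem_support_iff'.1 hp
        obtain ⟨l, hl⟩ := exists_pow_smul_eq_zero E J 0 (show (y : R) ∈ J.toIdeal from hy) (z : E.H J 0)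
        by_contra hyp
        refine hz (y ^ l) (fun h => hyp (p.isPrime.mem_of_pow_mem _ h)) (Subtype.ext ?_)
        rw [Submodule.coe_smul, Subring.smul_def, SubmonoidClass.coe_pow]
        exact hl
      rw [← hmax.eq_of_le p.isPrime.ne_top hle]
      exact hmax
    · have : IsNoetherian R M := isNoetherian_of_isNoetherianRing_of_finite R M
      obtain ⟨r, hr⟩ := exists_bound_of_torsion hpos ha ℳ (GrLC.gam J.toIdeal M) (isHomogeneous_gam ℳ J)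
        (IsNoetherian.noetherian _) (gam_mono hpos ha haJ)
      exact ⟨r, fun n hn => Hcomp_zero_eq_bot E J fun m hm hmn => hr n hn m hm hmn⟩
  | succ i ih => exact jgood_succ hpos ha haJ i ih

omit ha haJ hmax

lemma exists_le_coatom {I : HomogeneousIdeal 𝒜} (hI : I ≠ ⊤) :
    ∃ m : HomogeneousIdeal 𝒜, IsCoatom m ∧ I ≤ m := by
  obtain ⟨J, hJ, hmax⟩ := set_has_maximal_iff_noetherian.2 (inferInstance : IsNoetherian R R)
    (HomogeneousIdeal.toIdeal '' {J : HomogeneousIdeal 𝒜 | I ≤ J ∧ J ≠ ⊤}) ⟨_, ⟨I, ⟨le_rfl, hI⟩, rfl⟩⟩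
  obtain ⟨J, ⟨hIJ, hJt⟩, rfl⟩ := hJ
  exact ⟨J, ⟨hJt, fun K hK => by
    by_contra hKt
    exact hmax _ ⟨K, ⟨hIJ.trans hK.le, hKt⟩, rfl⟩ hK⟩, hIJ⟩

/-- the maximal homogeneous ideal of a *local nonnegatively graded ring -/
lemma plus_le_and_isMaximal {m : HomogeneousIdeal 𝒜} (hm : GrLC.IsStarLocal 𝒜 m) (ha : IsPlus a) :
    a.toIdeal ≤ m.toIdeal ∧ (deg0Part m).IsMaximal := by
  have hle : ∀ I : HomogeneousIdeal 𝒜, I ≠ ⊤ → I ≤ m := fun I hI => by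
    obtain ⟨n, hn, hIn⟩ := exists_le_coatom hpos hI
    rwa [hm.2 n hn] at hIn
  have hm1 : (1 : R) ∉ m.toIdeal := fun h => hm.1.1 (HomogeneousIdeal.toIdeal_injective
    ((Ideal.eq_top_iff_one _).2 h |>.trans HomogeneousIdeal.toIdeal_top.symm))
  refine ⟨hle a fun h => ?_, ?_⟩
  · have h1 : (1 : R) ∈ a.toIdeal := by rw [h]; exact Submodule.mem_top
    rw [mem_plus_iff hpos ha, cmp_of_mem 𝒜 SetLike.GradedOne.one_mem] at h1
    exact hm1 (by rw [h1]; exact zero_mem _)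
  refine Ideal.isMaximal_iff.2 ⟨fun h => hm1 h, fun I y hI hy hyI => ?_⟩
  let K : HomogeneousIdeal 𝒜 := ⟨Ideal.span {(y : R)}, Ideal.homogeneous_span 𝒜 _ fun z hz => ⟨0, hz ▸ y.2⟩⟩
  have hK : K = ⊤ := by
    by_contra hK
    exact hy (hle K hK (Ideal.subset_span rfl))
  have h1 : (1 : R) ∈ Ideal.span {(y : R)} := by
    show (1 : R) ∈ K.toIdeal
    rw [hK]; exact Submodule.mem_top
  obtain ⟨c, hc⟩ := Ideal.mem_span_singleton'.1 h1
  have hcy : cmp 𝒜 0 c * y = 1 := by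
    have := cmp_zero_mul hpos c y
    rwa [hc, cmp_of_mem 𝒜 SetLike.GradedOne.one_mem, cmp_of_mem 𝒜 y.2, eq_comm] at this
  rw [show (1 : GrLC.deg0 𝒜) = ⟨cmp 𝒜 0 c, cmp_mem 𝒜 0 c⟩ * y from Subtype.ext hcy.symm]
  exact I.mul_mem_left _ hyI

lemma isPlus_irrel : IsPlus (GrSyz.irrel 𝒜) := by
  refine congrArg Ideal.span (Set.ext fun y => ?_)
  simp only [Set.mem_ofPred_eq, Set.mem_iUnion, Set.mem_Ioi, SetLike.mem_coe, exists_prop]

end Groth.Agent.GrMod19
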