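import Groth.Agent.GrMod19.Reg

/-! Regularity and hyperplane sections by quasi-regular linear forms. -/

universe u

open DirectSum

namespace Groth.Agent.GrMod19

variable {R : Type u} [CommRing R] {σ : Type u} [SetLike σ R] [AddSubgroupClass σ R] {𝒜 : ℤ → σ} [GradedRing 𝒜]
variable {M : Type u} [AddCommGroup M] [Module R M] {τ : Type u} [SetLike τ M] [AddSubgroupClass τ M]
  (ℳ : ℤ → τ) [Decomposition ℳ] [SetLike.GradedSMul 𝒜 ℳ]

/-- weak regularity -/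
def WReg (a : HomogeneousIdeal 𝒜) (ℳ : ℤ → τ) [Decomposition ℳ] [SetLike.GradedSMul 𝒜 ℳ] (t : ℤ) : Prop :=
  ∀ i : ℕ, 0 < i → VanH a ℳ i (t - i)

lemma isHomogeneous_torsionBy {x : R} {k : ℤ} (hx : x ∈ 𝒜 k) :
    (Submodule.torsionBy R M x).IsHomogeneous ℳ := by
  intro d m hm
  rw [Submodule.mem_torsionBy_iff] at hm ⊢
  have := cmp_smul_homog_left 𝒜 ℳ (d + k) hx m
  rw [add_sub_cancel_right, hm, map_zero] at this
  exact this.symm

variable (hpos : NonnegGr 𝒜)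
include hpos

/-- graded modules of finite length live in bounded degrees -/
lemma exists_bound_of_artinian (K : Submodule R M) [IsArtinian R K] :
    ∃ n₀ : ℤ, ∀ n, n₀ ≤ n → ∀ x ∈ K, x ∈ ℳ n → x = 0 := by
  let F : ℕ → Submodule R K := fun k => Submodule.comap K.subtype
    (Submodule.span R {z : M | ∃ j : ℤ, (k : ℤ) ≤ j ∧ z ∈ ℳ j})
  have hmono : ∀ {k l : ℕ}, k ≤ l → F l ≤ F k := fun {k l} hkl =>
    Submodule.comap_mono (Submodule.span_mono fun z ⟨j, hj, hz⟩ => ⟨j, le_trans (by exact_mod_cast hkl) hj, hz⟩)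
  obtain ⟨N, hN⟩ := IsArtinian.monotone_stabilizes (R := R) (M := K) ⟨fun k => OrderDual.toDual (F k), fun _ _ h => hmono h⟩
  refine ⟨N, fun n hn x hxK hxn => ?_⟩
  obtain ⟨l, rfl⟩ : ∃ l : ℕ, n = l := ⟨n.toNat, (Int.toNat_of_nonneg (by omega)).symm⟩
  have hFl : F N = F (l + 1) := congrArg OrderDual.ofDual (hN (l + 1) (by omega))
  have hx : (⟨x, hxK⟩ : K) ∈ F (l + 1) := hFl ▸ Submodule.subset_span ⟨l, hn, hxn⟩
  have hx' : x ∈ Submodule.span R {z : M | ∃ j : ℤ, ((l + 1 : ℕ) : ℤ) ≤ j ∧ z ∈ ℳ j} := hx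
  rw [← cmp_of_mem ℳ hxn]
  suffices h : ∀ y ∈ Submodule.span R {z : M | ∃ j : ℤ, ((l + 1 : ℕ) : ℤ) ≤ j ∧ z ∈ ℳ j},
      ∀ c : R, cmp ℳ (l : ℤ) (c • y) = 0 by simpa using h x hx' 1
  intro y hy
  induction hy using Submodule.span_induction with
  | mem z hz =>
    obtain ⟨j, hj, hz⟩ := hz
    intro c
    rw [cmp_smul_homog_right 𝒜 ℳ _ hz, hpos _ (by push_cast at hj; omega) _ (cmp_mem 𝒜 _ _), zero_smul]
  | zero => intro c; rw [smul_zero, map_zero]
  | add u v _ _ hu hv => intro c; rw [smul_add, map_add, hu, hv, add_zero]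
  | smul e u _ hu => intro c; rw [smul_smul]; exact hu _

variable {a : HomogeneousIdeal 𝒜} (ha : IsPlus a) [IsNoetherianRing R]
  {x : R} (hx : x ∈ 𝒜 1) (hq : IsFiniteLength R (Submodule.torsionBy R M x))
  {N : Type u} [AddCommGroup N] [Module R N] {τ' : Type u} [SetLike τ' N] [AddSubgroupClass τ' N]
  (𝒩 : ℤ → τ') [Decomposition 𝒩] [SetLike.GradedSMul 𝒜 𝒩] (π : M →ₗ[R] N) (hπ : Function.Surjective π)
  (hπg : GrLC.IsGrHom ℳ 𝒩 π) (hker : LinearMap.ker π = LinearMap.range (x • (LinearMap.id : M →ₗ[R] M)))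
include ha hx hq hπ hπg hker

/-- the two comparisons with the quotient by the elements killed by `x` -/
lemma qreg_steps :
    (∀ (i : ℕ) (n : ℤ), VanH a ℳ i n → VanH a ℳ (i + 1) (n - 1) → VanH a 𝒩 i n) ∧
      (∀ (i : ℕ) (m : ℤ), VanH a 𝒩 i (m + 1) → VanH a ℳ (i + 1) (m + 1) → VanH a ℳ (i + 1) m) := by
  set K := Submodule.torsionBy R M x
  have hK : K.IsHomogeneous ℳ := isHomogeneous_torsionBy ℳ hx
  let : Decomposition (GrInj18.subGr ℳ K) := (GrInj18.subGr_isInternal ℳ hK).chooseDecomposition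
  let : Decomposition (GrInj18.quotPieces ℳ K) := (GrInj18.quotPieces_isInternal ℳ hK).chooseDecomposition
  have : IsArtinian R K := (isFiniteLength_iff_isNoetherian_isArtinian.1 hq).2
  obtain ⟨n₀, hn₀⟩ := exists_bound_of_artinian ℳ hpos K
  have htors : LocCoh.IsPowerTorsion a.toIdeal K :=
    isPowerTorsion_of_bounded (GrInj18.subGr ℳ K) hpos ha fun n hn z hz => Subtype.ext (hn₀ n hn z z.2 hz)
  have S₁ : Ses (GrInj18.subGr ℳ K) ℳ (GrInj18.quotPieces ℳ K) K.subtype K.mkQ 0 :=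
    ⟨isGrHomDeg_zero_iff.2 (GrInj18.isGrHom_subtype ℳ K), GrInj18.isGrHom_mkQ ℳ K, K.injective_subtype,
      LinearMap.exact_subtype_mkQ K, K.mkQ_surjective⟩
  let f : (M ⧸ K) →ₗ[R] M := K.liftQ (x • LinearMap.id) fun z hz =>
    LinearMap.mem_ker.2 (show x • z = 0 from (Submodule.mem_torsionBy_iff x z).1 hz)
  have S₂ : Ses (GrInj18.quotPieces ℳ K) ℳ 𝒩 f π 1 :=
    { hf := by
        rintro n _ ⟨z, hz, rfl⟩
        show x • z ∈ ℳ (n + 1)
        rw [add_comm]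
        exact smul_mem_add 𝒜 ℳ hx hz
      hg := hπg
      inj := by
        rw [injective_iff_map_eq_zero]
        intro y hy
        obtain ⟨z, rfl⟩ := K.mkQ_surjective y
        exact (Submodule.Quotient.mk_eq_zero K).2 ((Submodule.mem_torsionBy_iff x z).2 hy)
      exact := LinearMap.exact_iff.2 (by rw [hker, Submodule.range_liftQ])
      surj := hπ }
  refine ⟨fun i n h1 h2 => vanH_right a S₂ h1 (vanH_right a S₁ h2 (vanH_of_torsion a htors (by omega) _)),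
    fun i m h1 h2 => ?_⟩
  exact vanH_mid a S₁ (vanH_of_torsion a htors (by omega) _) (vanH_left a S₂ h1 h2)

/-- weak regularity descends to the hyperplane section -/
theorem wReg_quot {t : ℤ} (hM : WReg a ℳ t) : WReg a 𝒩 t := by
  intro i hi
  refine (qreg_steps ℳ hpos ha hx hq 𝒩 π hπ hπg hker).1 i _ (hM i hi) ?_
  have := hM (i + 1) (by omega)
  rwa [show t - ((i + 1 : ℕ) : ℤ) = t - i - 1 by push_cast; ring] at this

variable (hhom : a.toIdeal = Ideal.span (𝒜 1 : Set R))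
include hhom

/-- vanishing in all higher total degrees -/
lemma vanH_of_wReg {t : ℤ} (hM : WReg a ℳ t) {s : ℤ} (hs : t ≤ s) : WReg a ℳ s := by
  intro i hi
  refine (vanH_selfN ℳ a).1 (vanH_of_total hhom (selfN ℳ) le_rfl (fun j hj => ?_) hs i hi)
  exact (vanH_selfN ℳ a).2 (hM j hj)

/-- regularity and hyperplane sections -/
theorem reg_iff_quot [Module.Finite R M] (d : ℤ) :
    ((∀ n, d < n → VanH a ℳ 0 n) ∧ WReg a ℳ (d + 1)) ↔
      ((∀ n, d < n → VanH a 𝒩 0 n) ∧ WReg a 𝒩 (d + 1)) ∧ ∀ n, d < n → VanH a ℳ 0 n := by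
  obtain ⟨s₁, s₂⟩ := qreg_steps ℳ hpos ha hx hq 𝒩 π hπ hπg hker
  constructor
  · rintro ⟨h0, hM⟩
    refine ⟨⟨fun n hn => s₁ 0 n (h0 n hn) ?_, wReg_quot ℳ hpos ha hx hq 𝒩 π hπ hπg hker hM⟩, h0⟩
    exact vanH_of_wReg ℳ hpos ha hx hq 𝒩 π hπ hπg hker hhom hM (s := n) (by omega) 1 one_pos
  · rintro ⟨⟨hN0, hN⟩, h0⟩
    refine ⟨h0, fun i hi => ?_⟩
    obtain ⟨i, rfl⟩ : ∃ j, i = j + 1 := ⟨i - 1, by omega⟩
    obtain ⟨E⟩ := GrInj18.nonempty_starInjRes 𝒜 (selfN ℳ)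
    obtain ⟨r, hr⟩ := exists_Hcomp_eq_bot_of_le hpos ha E
    have hN' : ∀ n : ℤ, d + 1 - i ≤ n → VanH a 𝒩 i n := by
      intro n hn
      cases i with
      | zero => exact hN0 n (by simp at hn; omega)
      | succ j =>
        have := vanH_of_total (l := 1) hhom (selfN 𝒩) le_rfl
          (fun q hq => (vanH_selfN 𝒩 a).2 (hN q hq)) (s := n + ((j + 1 : ℕ) : ℤ)) (by omega) (j + 1) (by omega)
        rw [add_sub_cancel_right] at this
        exact (vanH_selfN 𝒩 a).1 this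
    have hall : ∀ (k : ℕ) (m : ℤ), d + 1 - ((i + 1 : ℕ) : ℤ) ≤ m → r ≤ m + k → VanH a ℳ (i + 1) m := by
      intro k
      induction k with
      | zero =>
        intro m _ hm
        exact (vanH_selfN ℳ a).1 ((vanH_iff a E).2 (hr (i + 1) m (by simpa using hm)))
      | succ k ih =>
        intro m h1 h2
        exact s₂ i m (hN' _ (by push_cast at h1; omega)) (ih (m + 1) (by omega) (by push_cast at h2; omega))
    exact hall (r - (d + 1 - ((i + 1 : ℕ) : ℤ))).toNat _ le_rfl (by omega)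

omit hpos ha hx hq hπ hπg hker hhom

lemma endDeg_Hgr_zero_le_iff (E : GrLC.StarInjRes 𝒜 ℳ) (d : ℤ) :
    GrLC.endDeg (E.Hgr a 0) ≤ ((d : WithTop ℤ) : WithBot (WithTop ℤ)) ↔ ∀ n, d < n → VanH a ℳ 0 n :=
  (endDeg_le_iff _ d).trans (forall₂_congr fun _ _ => ((vanH_iff a E).trans (Hcomp_eq_bot_iff E a)).symm)

end Groth.Agent.GrMod19
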