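import Groth.Agent.GrMod19.Basic
import Groth.Agent.LC15.Gamma
import Mathlib.Algebra.Homology.DerivedCategory.Ext.EnoughProjectives
import Mathlib.Algebra.Category.ModuleCat.Projective

/-! Injective objects of the graded category: ungraded Ext out of finite graded modules vanishes. -/

universe u

open DirectSum CategoryTheory

namespace Groth.Agent.GrMod19

variable {ι : Type} [AddCommGroup ι] [DecidableEq ι]
variable {R : Type u} [CommRing R] {σ : Type u} [SetLike σ R] [AddSubgroupClass σ R] {𝒜 : ι → σ} [GradedRing 𝒜]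

section Homogenize

variable {N : Type u} [AddCommGroup N] [Module R N] {τ : Type u} [SetLike τ N] [AddSubgroupClass τ N]
  (𝒩 : ι → τ) [Decomposition 𝒩] [SetLike.GradedSMul 𝒜 𝒩]
  {M : Type u} [AddCommGroup M] [Module R M] {τ' : Type u} [SetLike τ' M] [AddSubgroupClass τ' M]
  (ℳ : ι → τ') [Decomposition ℳ] [SetLike.GradedSMul 𝒜 ℳ]

/-- the additive map underlying the degree `d` part of a linear map -/
noncomputable def homPart (f : N →ₗ[R] M) (d : ι) : N →+ M :=
  (DirectSum.toAddMonoid fun g => ((cmp ℳ (g + d)).comp f.toAddMonoidHom).comp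
    (AddSubmonoidClass.subtype (𝒩 g))).comp (decomposeAddEquiv 𝒩).toAddMonoidHom

omit [SetLike.GradedSMul 𝒜 𝒩] [SetLike.GradedSMul 𝒜 ℳ] in
lemma homPart_of_mem (f : N →ₗ[R] M) (d : ι) {g : ι} {n : N} (hn : n ∈ 𝒩 g) :
    homPart 𝒩 ℳ f d n = cmp ℳ (g + d) (f n) := by
  show DirectSum.toAddMonoid _ (decompose 𝒩 n) = _
  rw [decompose_of_mem 𝒩 hn, DirectSum.toAddMonoid_of]
  rfl

variable (𝒜) in
include 𝒜 in
/-- the degree `d` part of a linear map -/
noncomputable def homComp (f : N →ₗ[R] M) (d : ι) : N →ₗ[R] M :=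
  { homPart 𝒩 ℳ f d with
    map_smul' := fun r n => by
      show homPart 𝒩 ℳ f d (r • n) = r • homPart 𝒩 ℳ f d n
      induction n using piece_induction 𝒩 with
      | h0 => simp
      | hadd x y hx hy => simp [smul_add, hx, hy]
      | hp g x hx =>
        induction r using piece_induction 𝒜 with
        | h0 => simp
        | hadd a b ha hb => simp [add_smul, ha, hb]
        | hp i a ha =>
          rw [homPart_of_mem 𝒩 ℳ f d (smul_mem_add 𝒜 𝒩 ha hx), homPart_of_mem 𝒩 ℳ f d hx, map_smul,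
            cmp_smul_homog_left 𝒜 ℳ _ ha, show i + g + d - i = g + d by abel] }

omit [SetLike.GradedSMul 𝒜 𝒩] in
lemma isGrHomDeg_homComp [SetLike.GradedSMul 𝒜 𝒩] (f : N →ₗ[R] M) (d : ι) :
    GrLC.IsGrHomDeg 𝒩 ℳ (homComp 𝒜 𝒩 ℳ f d) d := fun g n hn => by
  show homPart 𝒩 ℳ f d n ∈ _
  rw [homPart_of_mem 𝒩 ℳ f d hn]
  exact cmp_mem _ _ _

/-- a linear map out of a finite graded module is a finite sum of homogeneous maps -/
lemma exists_sum_homComp [Module.Finite R N] (f : N →ₗ[R] M) :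
    ∃ S : Finset ι, ∑ d ∈ S, homComp 𝒜 𝒩 ℳ f d = f := by
  classical
  obtain ⟨k, deg, g, hg, hspan⟩ := exists_homog_generators 𝒜 𝒩 (⊤ : Submodule R N) (fun _ _ _ => trivial)
    Module.Finite.fg_top
  refine ⟨Finset.univ.biUnion fun b => ((finite_cmp_ne_zero ℳ (f (g b))).toFinset).image (· - deg b), ?_⟩
  refine LinearMap.ext_on_range hspan fun b => ?_
  rw [LinearMap.sum_apply]
  refine eq_of_cmp ℳ fun e => ?_
  rw [map_sum]
  have h : ∀ d, homComp 𝒜 𝒩 ℳ f d (g b) = cmp ℳ (deg b + d) (f (g b)) := fun d => homPart_of_mem 𝒩 ℳ f d (hg b)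
  simp only [h]
  by_cases he : cmp ℳ e (f (g b)) = 0
  · rw [he]
    refine Finset.sum_eq_zero fun d _ => ?_
    rcases eq_or_ne (deg b + d) e with h | h
    · subst h; rw [he, map_zero]
    · exact cmp_of_ne ℳ (cmp_mem ℳ _ _) h
  · rw [Finset.sum_eq_single (e - deg b)]
    · rw [add_sub_cancel, cmp_of_mem ℳ (cmp_mem ℳ _ _)]
    · exact fun d _ hd => cmp_of_ne ℳ (cmp_mem ℳ _ _) fun h => hd (by rw [← h]; abel)
    · exact fun h => absurd (Finset.mem_biUnion.2 ⟨b, Finset.mem_univ _, Finset.mem_image.2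
        ⟨e, (Set.Finite.mem_toFinset _).2 he, rfl⟩⟩) h

end Homogenize

variable {M : Type u} [AddCommGroup M] [Module R M] {τ : Type u} [SetLike τ M] [AddSubgroupClass τ M]
  {ℳ : ι → τ} [Decomposition ℳ] [SetLike.GradedSMul 𝒜 ℳ]

/-- extension of homogeneous maps of any degree -/
lemma exists_extend (hM : GrLC.IsStarInj 𝒜 ℳ) (A B : GrLC.GMod.{u} 𝒜) (f : A.carrier →ₗ[R] B.carrier)
    (hf : GrLC.IsGrHom A.gr B.gr f) (hinj : Function.Injective f) (g : A.carrier →ₗ[R] M) (d : ι)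
    (hg : GrLC.IsGrHomDeg A.gr ℳ g d) :
    ∃ h : B.carrier →ₗ[R] M, GrLC.IsGrHomDeg B.gr ℳ h d ∧ h ∘ₗ f = g := by
  obtain ⟨h, hh, hhf⟩ := hM (shift A (-d)) (shift B (-d)) f (fun i m hm => hf (i + -d) m hm) hinj g
    (fun i m hm => by
      have := hg (i + -d) m hm
      rwa [neg_add_cancel_right] at this)
  refine ⟨h, fun i m hm => hh (i + d) m ?_, hhf⟩
  show m ∈ B.gr (i + d + -d)
  rwa [add_neg_cancel_right]

/-- every linear map from a finite homogeneous submodule extends -/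
lemma exists_extend_linear (hM : GrLC.IsStarInj 𝒜 ℳ) {F : Type u} [AddCommGroup F] [Module R F]
    (ℱ : ι → AddSubgroup F) [Decomposition ℱ] [SetLike.GradedSMul 𝒜 ℱ] (K : Submodule R F)
    (hK : K.IsHomogeneous ℱ) [Module.Finite R K] (f : K →ₗ[R] M) :
    ∃ h : F →ₗ[R] M, h ∘ₗ K.subtype = f := by
  classical
  have : Module.Finite R (sub (𝒜 := 𝒜) ℱ K hK).carrier := ‹Module.Finite R K›
  let A := sub (𝒜 := 𝒜) ℱ K hK
  let f' : A.carrier →ₗ[R] M := f
  obtain ⟨S, hS⟩ := exists_sum_homComp (𝒜 := 𝒜) A.gr ℳ f'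
  choose h hh hhf using fun d => exists_extend hM A (GrLC.GMod.of 𝒜 F ℱ) K.subtype
    (sub_subtype_grHom ℱ K hK) K.injective_subtype _ d (isGrHomDeg_homComp (𝒜 := 𝒜) A.gr ℳ f' d)
  let h' : ι → (F →ₗ[R] M) := h
  refine ⟨∑ d ∈ S, h' d, LinearMap.ext fun x => ?_⟩
  conv_rhs => rw [show f = _ from hS.symm]
  rw [LinearMap.comp_apply, LinearMap.sum_apply]
  exact (Finset.sum_congr rfl fun d _ => LinearMap.congr_fun (hhf d) x).trans (LinearMap.sum_apply _ _ _).symm

/-- one step of dimension shifting -/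
lemma ext_eq_zero_step (hM : GrLC.IsStarInj 𝒜 ℳ) {F : Type u} [AddCommGroup F] [Module R F]
    [Module.Projective R F] (ℱ : ι → AddSubgroup F) [Decomposition ℱ] [SetLike.GradedSMul 𝒜 ℱ]
    (K : Submodule R F) (hK : K.IsHomogeneous ℱ) [Module.Finite R K]
    {N : Type u} [AddCommGroup N] [Module R N] (π : F →ₗ[R] N) (hπ : Function.Surjective π)
    (hker : LinearMap.ker π = K) (i : ℕ)
    (ih : ∀ j, j + 1 = i → ∀ x : Abelian.Ext.{u} (ModuleCat.of R K) (ModuleCat.of R M) i, x = 0)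
    (x : Abelian.Ext.{u} (ModuleCat.of R N) (ModuleCat.of R M) (i + 1)) : x = 0 := by
  have hex : Function.Exact K.subtype π := by
    rw [LinearMap.exact_iff, hker, Submodule.range_subtype]
  let hS := LC15.seqSC_shortExact K.injective_subtype hex hπ
  have : CategoryTheory.Projective (ModuleCat.of R F) := inferInstance
  obtain ⟨y, rfl⟩ := Abelian.Ext.contravariant_sequence_exact₃ hS (ModuleCat.of R M) x
    (Abelian.Ext.eq_zero_of_projective _) (n₀ := i) (add_comm 1 i)
  match i, ih with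
  | 0, _ =>
    obtain ⟨f, rfl⟩ := (Abelian.Ext.mk₀_bijective _ _).2 y
    obtain ⟨h, hh⟩ := exists_extend_linear hM ℱ K hK f.hom
    have : f = ModuleCat.ofHom K.subtype ≫ ModuleCat.ofHom h := ModuleCat.hom_ext hh.symm
    rw [this, ← Abelian.Ext.mk₀_comp_mk₀]
    exact hS.extClass_comp_assoc _
  | j + 1, ih => rw [ih j rfl y, Abelian.Ext.comp_zero]

/-- finite free graded modules are projective -/
instance free_projective {k : ℕ} (deg : Fin k → ι) : Module.Projective R (free 𝒜 deg).carrier :=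
  (inferInstance : Module.Projective R (Fin k → R))

instance free_finite {k : ℕ} (deg : Fin k → ι) : Module.Finite R (free 𝒜 deg).carrier :=
  (inferInstance : Module.Finite R (Fin k → R))

variable [IsNoetherianRing R]

/-- higher Ext from a finite graded module into an injective graded module vanishes -/
theorem ext_eq_zero (hM : GrLC.IsStarInj 𝒜 ℳ) (i : ℕ) :
    ∀ (X : GrLC.GMod.{u} 𝒜) [Module.Finite R X.carrier]
      (x : Abelian.Ext.{u} (ModuleCat.of R X.carrier) (ModuleCat.of R M) (i + 1)), x = 0 := by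
  induction i using Nat.strong_induction_on with
  | _ i ih =>
    intro X _ x
    obtain ⟨k, deg, g, hg, hspan⟩ := exists_homog_generators 𝒜 X.gr (⊤ : Submodule R X.carrier)
      (fun _ _ _ => trivial) Module.Finite.fg_top
    obtain ⟨f, hf, hrange⟩ := exists_free_hom (𝒜 := 𝒜) X.gr deg g hg
    let F := free 𝒜 deg
    let f' : F.carrier →ₗ[R] X.carrier := f
    let K : Submodule R F.carrier := LinearMap.ker f'
    have hK : K.IsHomogeneous F.gr := isHomogeneous_ker F.gr X.gr hf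
    have : IsNoetherian R F.carrier := (inferInstance : IsNoetherian R (Fin k → R))
    have : Module.Finite R K := Module.Finite.iff_fg.2 (IsNoetherian.noetherian _)
    refine ext_eq_zero_step hM F.gr K hK f' (LinearMap.range_eq_top.1 (hrange.trans hspan)) rfl i ?_ x
    rintro j rfl y
    have : Module.Finite R (sub (𝒜 := 𝒜) F.gr K hK).carrier := ‹Module.Finite R K›
    exact ih j (Nat.lt_succ_self j) (sub (𝒜 := 𝒜) F.gr K hK) y

variable (𝒜) in
/-- the pieces of the ring as additive subgroups -/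
def selfPiece (g : ι) : AddSubgroup R where
  carrier := 𝒜 g
  add_mem' := fun ha hb => add_mem ha hb
  zero_mem' := zero_mem _
  neg_mem' := fun ha => neg_mem ha

noncomputable instance selfPiece_dec : Decomposition (selfPiece 𝒜) :=
  (isInternal_of_proj (cmp 𝒜) _ (fun g m => cmp_mem 𝒜 g m) (fun _ _ hm => cmp_of_mem 𝒜 hm)
    (fun _ _ _ hm hne => cmp_of_ne 𝒜 hm hne) (exists_sum_cmp 𝒜)).chooseDecomposition

instance selfPiece_gsmul : SetLike.GradedSMul 𝒜 (selfPiece 𝒜) :=
  ⟨fun {i j} c m hc hm => SetLike.GradedMul.mul_mem (A := 𝒜) hc hm⟩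

variable (𝒜) in
/-- the ring as a bundled graded module -/
noncomputable abbrev self : GrLC.GMod.{u} 𝒜 := GrLC.GMod.of 𝒜 R (selfPiece 𝒜)

omit [IsNoetherianRing R] in
lemma cmp_selfPiece (d : ι) (m : R) : cmp (selfPiece 𝒜) d m = cmp 𝒜 d m := by
  induction m using piece_induction 𝒜 with
  | h0 => simp
  | hadd x y hx hy => rw [map_add, map_add, hx, hy]
  | hp i x hx =>
    rcases eq_or_ne i d with rfl | hne
    · rw [cmp_of_mem 𝒜 hx]; exact cmp_of_mem (selfPiece 𝒜) hx
    · rw [cmp_of_ne 𝒜 hx hne]; exact cmp_of_ne (selfPiece 𝒜) hx hne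

omit [IsNoetherianRing R] in
lemma self_isHomogeneous (a : Ideal R) (ha : a.IsHomogeneous 𝒜) :
    Submodule.IsHomogeneous (a : Submodule R R) (selfPiece 𝒜) := fun d m hm => by
  show cmp (selfPiece 𝒜) d m ∈ a
  rw [cmp_selfPiece]
  exact ha d hm

omit [IsNoetherianRing R] in
lemma isHomogeneous_pow (a : HomogeneousIdeal 𝒜) (m : ℕ) : (a.toIdeal ^ m).IsHomogeneous 𝒜 := by
  induction m with
  | zero => rw [pow_zero, Ideal.one_eq_top]; exact Ideal.IsHomogeneous.top 𝒜
  | succ m ih => rw [pow_succ]; exact Ideal.IsHomogeneous.mul ih a.isHomogeneous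

/-- injective graded modules are acyclic for the torsion functor of a graded ideal -/
theorem subsingleton_H (hM : GrLC.IsStarInj 𝒜 ℳ) (a : HomogeneousIdeal 𝒜) {i : ℕ} (hi : 0 < i) :
    Subsingleton (LocCoh.H a.toIdeal i M) := by
  obtain ⟨j, rfl⟩ : ∃ j, i = j + 1 := ⟨i - 1, by omega⟩
  refine subsingleton_of_forall_eq 0 fun y => ?_
  obtain ⟨m, x, rfl⟩ := LC15.toH_surj a.toIdeal (j + 1) M y
  have hpow := isHomogeneous_pow a m
  let K : Submodule R R := a.toIdeal ^ m
  have hK : K.IsHomogeneous (selfPiece 𝒜) := self_isHomogeneous _ hpow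
  have : Module.Finite R K := Module.Finite.iff_fg.2 (IsNoetherian.noetherian _)
  have h : x = 0 := ext_eq_zero_step hM (selfPiece 𝒜) K hK (Submodule.mkQ K)
    (Submodule.mkQ_surjective _) (Submodule.ker_mkQ _) j (fun l hl y => by
      subst hl
      have : Module.Finite R (sub (𝒜 := 𝒜) (selfPiece 𝒜) K hK).carrier := ‹Module.Finite R K›
      exact ext_eq_zero hM l (sub (𝒜 := 𝒜) (selfPiece 𝒜) K hK) y) x
  rw [h, map_zero]

end Groth.Agent.GrMod19
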