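import Groth.Agent.GrMod19.HPos

/-! Vanishing of a homogeneous piece of graded local cohomology, independently of the resolution. -/

universe u

open DirectSum

namespace Groth.Agent.GrMod19

variable {ι : Type} [AddCommGroup ι] [DecidableEq ι]
variable {R : Type u} [CommRing R] {σ : Type u} [SetLike σ R] [AddSubgroupClass σ R] {𝒜 : ι → σ} [GradedRing 𝒜]
variable {M : Type u} [AddCommGroup M] [Module R M] {τ : Type u} [SetLike τ M] [AddSubgroupClass τ M]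
  {ℳ : ι → τ} [Decomposition ℳ] [SetLike.GradedSMul 𝒜 ℳ]
  {N : Type u} [AddCommGroup N] [Module R N] {τ' : Type u} [SetLike τ' N] [AddSubgroupClass τ' N]
  {𝒩 : ι → τ'} [Decomposition 𝒩] [SetLike.GradedSMul 𝒜 𝒩]
  {L : Type u} [AddCommGroup L] [Module R L] {τ'' : Type u} [SetLike τ'' L] [AddSubgroupClass τ'' L]
  {ℒ : ι → τ''} [Decomposition ℒ] [SetLike.GradedSMul 𝒜 ℒ]
  (a : HomogeneousIdeal 𝒜)

/-- the piece of degree `n` of the `i`-th graded local cohomology vanishes -/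
def VanH (ℳ : ι → τ) [Decomposition ℳ] [SetLike.GradedSMul 𝒜 ℳ] (i : ℕ) (n : ι) : Prop :=
  ∀ E : GrLC.StarInjRes 𝒜 ℳ, E.Hcomp a i n = ⊥

lemma hMap_mem_Hcomp (E : GrLC.StarInjRes 𝒜 ℳ) (F : GrLC.StarInjRes 𝒜 𝒩) {f : M →ₗ[R] N} {d : ι}
    (hf : GrLC.IsGrHomDeg ℳ 𝒩 f d) {i : ℕ} {n : ι} {y : E.H a i} (hy : y ∈ E.Hcomp a i n) :
    hMap E F a f hf i y ∈ F.Hcomp a i (n + d) :=
  hMap_deg (E := E) (F := F) a hf i n y hy

lemma hMap_mem_Hcomp₀ (E : GrLC.StarInjRes 𝒜 ℳ) (F : GrLC.StarInjRes 𝒜 𝒩) {f : M →ₗ[R] N}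
    (hf : GrLC.IsGrHomDeg ℳ 𝒩 f 0) {i : ℕ} {n : ι} {y : E.H a i} (hy : y ∈ E.Hcomp a i n) :
    hMap E F a f hf i y ∈ F.Hcomp a i n := by
  have := hMap_mem_Hcomp a E F hf hy
  rwa [add_zero] at this

lemma vanH_iff (E : GrLC.StarInjRes 𝒜 ℳ) {i : ℕ} {n : ι} : VanH a ℳ i n ↔ E.Hcomp a i n = ⊥ := by
  refine ⟨fun h => h E, fun h F => (Submodule.eq_bot_iff _).2 fun y hy => ?_⟩
  have hid : GrLC.IsGrHomDeg ℳ ℳ (LinearMap.id : M →ₗ[R] M) 0 := fun _ _ hm => by rwa [add_zero]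
  let e := hEquiv F E a (LinearEquiv.refl R M) hid hid (add_zero 0) i
  have h1 : e y ∈ E.Hcomp a i n := hMap_mem_Hcomp₀ a F E hid hy
  rw [h, Submodule.mem_bot, e.map_eq_zero_iff] at h1
  exact h1

variable {f : M →ₗ[R] N} {g : N →ₗ[R] L} {e : ι}

/-- vanishing of the middle term -/
lemma vanH_mid (S : Ses ℳ 𝒩 ℒ f g e) {i : ℕ} {n : ι} (h1 : VanH a ℳ i (n - e)) (h2 : VanH a ℒ i n) :
    VanH a 𝒩 i n := by
  obtain ⟨E⟩ := GrInj18.nonempty_starInjRes 𝒜 ℳ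
  obtain ⟨G⟩ := GrInj18.nonempty_starInjRes 𝒜 ℒ
  intro F
  obtain ⟨δ, -, hex, -, -, -⟩ := exists_les E F G S a
  refine (Submodule.eq_bot_iff _).2 fun y hy => ?_
  have hgy := hMap_mem_Hcomp₀ a F G (isGrHomDeg_zero_iff.2 S.hg) hy
  rw [h2 G, Submodule.mem_bot] at hgy
  obtain ⟨x, hx, rfl⟩ := exists_Hcomp_preimage E a F (g := n - e) (hMap_deg (E := E) (F := F) a S.hf i)
    (by rwa [sub_add_cancel]) ((hex i y).1 hgy)
  rw [h1 E, Submodule.mem_bot] at hx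
  rw [hx, map_zero]

/-- vanishing of the quotient -/
lemma vanH_right (S : Ses ℳ 𝒩 ℒ f g e) {i : ℕ} {n : ι} (h1 : VanH a 𝒩 i n)
    (h2 : VanH a ℳ (i + 1) (n - e)) : VanH a ℒ i n := by
  obtain ⟨E⟩ := GrInj18.nonempty_starInjRes 𝒜 ℳ
  obtain ⟨F⟩ := GrInj18.nonempty_starInjRes 𝒜 𝒩
  intro G
  obtain ⟨δ, hδ, -, hex, -, -⟩ := exists_les E F G S a
  refine (Submodule.eq_bot_iff _).2 fun y hy => ?_
  have hdy : δ i y ∈ E.Hcomp a (i + 1) (n - e) := by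
    have h3 := hδ i n y hy
    rwa [← sub_eq_add_neg] at h3
  rw [h2 E, Submodule.mem_bot] at hdy
  obtain ⟨x, hx, rfl⟩ := exists_Hcomp_preimage F a G (g := n)
    (hMap_deg (E := F) (F := G) a (isGrHomDeg_zero_iff.2 S.hg) i) (by rwa [add_zero]) ((hex i y).1 hdy)
  rw [h1 F, Submodule.mem_bot] at hx
  rw [hx, map_zero]

/-- vanishing of the submodule -/
lemma vanH_left (S : Ses ℳ 𝒩 ℒ f g e) {i : ℕ} {n : ι} (h1 : VanH a ℒ i (n + e))
    (h2 : VanH a 𝒩 (i + 1) (n + e)) : VanH a ℳ (i + 1) n := by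
  obtain ⟨F⟩ := GrInj18.nonempty_starInjRes 𝒜 𝒩
  obtain ⟨G⟩ := GrInj18.nonempty_starInjRes 𝒜 ℒ
  intro E
  obtain ⟨δ, hδ, -, -, hex, -⟩ := exists_les E F G S a
  refine (Submodule.eq_bot_iff _).2 fun y hy => ?_
  have hfy := hMap_mem_Hcomp a E F S.hf hy
  rw [h2 F, Submodule.mem_bot] at hfy
  obtain ⟨x, hx, rfl⟩ := exists_Hcomp_preimage G a E (g := n + e) (hδ i) (by rwa [add_neg_cancel_right])
    ((hex i y).1 hfy)
  rw [h1 G, Submodule.mem_bot] at hx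
  rw [hx, map_zero]

/-- vanishing of the submodule in degree zero -/
lemma vanH_left_zero (S : Ses ℳ 𝒩 ℒ f g e) {n : ι} (h : VanH a 𝒩 0 (n + e)) : VanH a ℳ 0 n := by
  obtain ⟨F⟩ := GrInj18.nonempty_starInjRes 𝒜 𝒩
  obtain ⟨G⟩ := GrInj18.nonempty_starInjRes 𝒜 ℒ
  intro E
  obtain ⟨δ, -, -, -, -, hinj⟩ := exists_les E F G S a
  refine (Submodule.eq_bot_iff _).2 fun y hy => hinj ?_
  have hfy := hMap_mem_Hcomp a E F S.hf hy
  rw [h F, Submodule.mem_bot] at hfy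
  rw [hfy, map_zero]

/-- homogeneous equivalences preserve vanishing -/
lemma vanH_of_equiv (e : M ≃ₗ[R] N) {d d' : ι} (he : GrLC.IsGrHomDeg ℳ 𝒩 e.toLinearMap d)
    (he' : GrLC.IsGrHomDeg 𝒩 ℳ e.symm.toLinearMap d') (hdd : d + d' = 0) {i : ℕ} {n : ι}
    (h : VanH a 𝒩 i (n + d)) : VanH a ℳ i n := by
  obtain ⟨F⟩ := GrInj18.nonempty_starInjRes 𝒜 𝒩
  intro E
  refine (Submodule.eq_bot_iff _).2 fun y hy => ?_
  let φ := hEquiv E F a e he he' hdd i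
  have h1 : φ y ∈ F.Hcomp a i (n + d) := hMap_mem_Hcomp a E F he hy
  rw [h F, Submodule.mem_bot, φ.map_eq_zero_iff] at h1
  exact h1

omit [Decomposition 𝒩] [SetLike.GradedSMul 𝒜 𝒩] [Decomposition ℒ] [SetLike.GradedSMul 𝒜 ℒ] in
lemma vanH_zero_of_forall {n : ι} (h : ∀ m ∈ GrLC.gam a.toIdeal M, m ∈ ℳ n → m = 0) : VanH a ℳ 0 n :=
  fun E => Hcomp_zero_eq_bot E a h

omit [Decomposition 𝒩] [SetLike.GradedSMul 𝒜 𝒩] [Decomposition ℒ] [SetLike.GradedSMul 𝒜 ℒ] in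
lemma eq_zero_of_vanH_zero {n : ι} (h : VanH a ℳ 0 n) {m : M} (hm : m ∈ GrLC.gam a.toIdeal M) (hmn : m ∈ ℳ n) :
    m = 0 := by
  obtain ⟨E⟩ := GrInj18.nonempty_starInjRes 𝒜 ℳ
  have h1 := zeroMap_mem E a (m := ⟨m, hm⟩) hmn
  rw [h E, Submodule.mem_bot] at h1
  exact congrArg Subtype.val (zeroMap_injective E a (h1.trans (map_zero _).symm))

lemma isPowerTorsion_of_subsingleton [Subsingleton M] (J : Ideal R) : LocCoh.IsPowerTorsion J M :=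
  fun _ => ⟨0, fun _ _ => Subsingleton.elim _ _⟩

variable [IsNoetherianRing R]

omit [Decomposition 𝒩] [SetLike.GradedSMul 𝒜 𝒩] [Decomposition ℒ] [SetLike.GradedSMul 𝒜 ℒ] in
lemma vanH_of_torsion (hM : LocCoh.IsPowerTorsion a.toIdeal M) {i : ℕ} (hi : 0 < i) (n : ι) : VanH a ℳ i n :=
  fun E => by
    have := subsingleton_H_of_torsion E a hM hi
    exact (Submodule.eq_bot_iff _).2 fun y _ => Subsingleton.elim _ _

omit [Decomposition 𝒩] [SetLike.GradedSMul 𝒜 𝒩] [Decomposition ℒ] [SetLike.GradedSMul 𝒜 ℒ] in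
lemma vanH_of_subsingleton [Subsingleton M] (i : ℕ) (n : ι) : VanH a ℳ i n := by
  cases i with
  | zero => exact vanH_zero_of_forall a fun m _ _ => Subsingleton.elim _ _
  | succ i => exact vanH_of_torsion a (isPowerTorsion_of_subsingleton _) (Nat.succ_pos i) n

lemma exists_vanH_bound : ∃ d : ℕ, ∀ (M : Type u) [AddCommGroup M] [Module R M] (ℳ : ι → AddSubgroup M)
    [Decomposition ℳ] [SetLike.GradedSMul 𝒜 ℳ] (i : ℕ) (n : ι), d < i → VanH a ℳ i n := by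
  obtain ⟨d, hd⟩ := LC15.exists_cdLE a.toIdeal
  refine ⟨d, fun M _ _ ℳ _ _ i n hi E => ?_⟩
  obtain ⟨e⟩ := nonempty_H_equiv E a i
  have := hd M i hi
  have := e.toEquiv.subsingleton
  exact (Submodule.eq_bot_iff _).2 fun y _ => Subsingleton.elim _ _

end Groth.Agent.GrMod19
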