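import Groth.Prelude.Def_GrLC
import Mathlib.RingTheory.Finiteness.Basic
import Mathlib.RingTheory.Noetherian.Basic

/-! Graded modules over a graded ring with an arbitrary grading group: components, constructions. -/

universe u

open DirectSum

namespace Groth.Agent.GrMod19

section Components

variable {ι : Type} [DecidableEq ι] {M : Type u} [AddCommGroup M] {τ : Type u} [SetLike τ M]
  [AddSubgroupClass τ M] (ℳ : ι → τ) [Decomposition ℳ]

/-- the component of degree `d` -/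
def cmp (d : ι) : M →+ M where
  toFun m := (decompose ℳ m d : M)
  map_zero' := by simp
  map_add' x y := by simp

lemma cmp_mem (d : ι) (m : M) : cmp ℳ d m ∈ ℳ d := (decompose ℳ m d).2

lemma cmp_of_mem {d : ι} {m : M} (h : m ∈ ℳ d) : cmp ℳ d m = m := decompose_of_mem_same ℳ h

lemma cmp_of_ne {d e : ι} {m : M} (h : m ∈ ℳ d) (hne : d ≠ e) : cmp ℳ e m = 0 :=
  decompose_of_mem_ne ℳ h hne

lemma exists_sum_cmp (m : M) : ∃ t : Finset ι, ∑ d ∈ t, cmp ℳ d m = m := by
  classical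
  exact ⟨_, sum_support_decompose ℳ m⟩

lemma eq_of_cmp {m m' : M} (h : ∀ d, cmp ℳ d m = cmp ℳ d m') : m = m' := by
  apply (decompose ℳ).injective
  ext d
  exact h d

lemma eq_zero_of_cmp {m : M} (h : ∀ d, cmp ℳ d m = 0) : m = 0 := eq_of_cmp ℳ (by simpa using h)

lemma eq_zero_of_mem_of_mem {d e : ι} {m : M} (h : m ∈ ℳ d) (h' : m ∈ ℳ e) (hne : d ≠ e) : m = 0 := by
  rw [← cmp_of_mem ℳ h', cmp_of_ne ℳ h hne]

theorem piece_induction {p : M → Prop} (m : M) (h0 : p 0) (hadd : ∀ x y, p x → p y → p (x + y))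
    (hp : ∀ d, ∀ x ∈ ℳ d, p x) : p m := by
  obtain ⟨t, ht⟩ := exists_sum_cmp ℳ m
  rw [← ht]
  exact Finset.sum_induction _ p hadd h0 (fun d _ => hp d _ (cmp_mem ℳ d m))

lemma finite_cmp_ne_zero (m : M) : {d | cmp ℳ d m ≠ 0}.Finite := by
  classical
  refine (DFinsupp.support (decompose ℳ m)).finite_toSet.subset fun d hd => ?_
  rw [Finset.mem_coe, DFinsupp.mem_support_toFun]
  exact fun h => hd (show ((decompose ℳ m d : ℳ d) : M) = 0 by rw [h]; rfl)

/-- a family of pieces with projections is a decomposition -/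
theorem isInternal_of_proj (π : ι → M →+ M) (ℕ' : ι → AddSubgroup M) (h1 : ∀ d m, π d m ∈ ℕ' d)
    (h2 : ∀ d, ∀ m ∈ ℕ' d, π d m = m) (h3 : ∀ d e, ∀ m ∈ ℕ' d, d ≠ e → π e m = 0)
    (h4 : ∀ m, ∃ t : Finset ι, ∑ d ∈ t, π d m = m) : IsInternal ℕ' := by
  classical
  have key : ∀ (x : ⨁ d, ℕ' d) (e : ι), π e (DirectSum.coeAddMonoidHom ℕ' x) = (x e : M) := by
    intro x e
    induction x using DirectSum.induction_on with
    | zero => simp
    | of d y =>
      rcases eq_or_ne d e with rfl | hne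
      · rw [DirectSum.coeAddMonoidHom_of, h2 d _ y.2, DirectSum.of_eq_same]
      · rw [DirectSum.coeAddMonoidHom_of, h3 d e _ y.2 hne, DirectSum.of_eq_of_ne _ _ _ hne.symm]
        rfl
    | add x y hx hy => rw [map_add, map_add, hx, hy, DirectSum.add_apply, AddSubgroup.coe_add]
  refine ⟨(injective_iff_map_eq_zero _).2 fun x hx => ?_, fun m => ?_⟩
  · ext e
    rw [← key x e, hx, map_zero]
    rfl
  · obtain ⟨t, ht⟩ := h4 m
    refine ⟨∑ d ∈ t, DirectSum.of (fun d => ℕ' d) d ⟨π d m, h1 d m⟩, ?_⟩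
    rw [map_sum]
    simp only [DirectSum.coeAddMonoidHom_of]
    exact ht

end Components

variable {ι : Type} [AddCommGroup ι] [DecidableEq ι]
variable {R : Type u} [CommRing R] {σ : Type u} [SetLike σ R] [AddSubgroupClass σ R] (𝒜 : ι → σ) [GradedRing 𝒜]

section Module

variable {M : Type u} [AddCommGroup M] [Module R M] {τ : Type u} [SetLike τ M] [AddSubgroupClass τ M]
  (ℳ : ι → τ) [Decomposition ℳ] [SetLike.GradedSMul 𝒜 ℳ]

omit [AddSubgroupClass σ R] [GradedRing 𝒜] [Decomposition ℳ] [AddSubgroupClass τ M] in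
lemma smul_mem_add {i j : ι} {c : R} {m : M} (hc : c ∈ 𝒜 i) (hm : m ∈ ℳ j) : c • m ∈ ℳ (i + j) := by
  simpa [vadd_eq_add] using SetLike.GradedSMul.smul_mem (A := 𝒜) (B := ℳ) hc hm

lemma cmp_smul_homog_left (d : ι) {i : ι} {c : R} (hc : c ∈ 𝒜 i) (m : M) :
    cmp ℳ d (c • m) = c • cmp ℳ (d - i) m := by
  induction m using piece_induction ℳ with
  | h0 => simp
  | hadd x y hx hy => simp [smul_add, hx, hy]
  | hp j x hx =>
    rcases eq_or_ne (i + j) d with h | h
    · rw [cmp_of_mem ℳ (h ▸ smul_mem_add 𝒜 ℳ hc hx), cmp_of_mem ℳ (d := d - i)]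
      rwa [show d - i = j by rw [← h]; abel]
    · rw [cmp_of_ne ℳ (smul_mem_add 𝒜 ℳ hc hx) h, cmp_of_ne ℳ hx, smul_zero]
      rintro rfl
      exact h (by abel)

lemma cmp_smul_homog_right (d : ι) {j : ι} {m : M} (hm : m ∈ ℳ j) (c : R) :
    cmp ℳ d (c • m) = cmp 𝒜 (d - j) c • m := by
  induction c using piece_induction 𝒜 with
  | h0 => simp
  | hadd x y hx hy => simp [add_smul, hx, hy]
  | hp i x hx =>
    rcases eq_or_ne (i + j) d with h | h
    · rw [cmp_of_mem ℳ (h ▸ smul_mem_add 𝒜 ℳ hx hm), cmp_of_mem 𝒜 (d := d - j)]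
      rwa [show d - j = i by rw [← h]; abel]
    · rw [cmp_of_ne ℳ (smul_mem_add 𝒜 ℳ hx hm) h, cmp_of_ne 𝒜 hx, zero_smul]
      rintro rfl
      exact h (by abel)

include 𝒜 in
/-- a submodule spanned by homogeneous elements is homogeneous -/
lemma isHomogeneous_span {s : Set M} (hs : ∀ x ∈ s, ∃ j, x ∈ ℳ j) : (Submodule.span R s).IsHomogeneous ℳ := by
  intro d m hm
  show cmp ℳ d m ∈ _
  induction hm using Submodule.span_induction generalizing d with
  | mem x hx =>
    obtain ⟨j, hj⟩ := hs x hx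
    rcases eq_or_ne j d with h | h
    · rw [cmp_of_mem ℳ (h ▸ hj)]
      exact Submodule.subset_span hx
    · rw [cmp_of_ne ℳ hj h]
      exact zero_mem _
  | zero => simp
  | add x y _ _ hx hy => rw [map_add]; exact add_mem (hx d) (hy d)
  | smul c x _ hx =>
    induction c using piece_induction 𝒜 with
    | h0 => simp
    | hadd a b ha hb => rw [add_smul, map_add]; exact add_mem ha hb
    | hp i a ha =>
      rw [cmp_smul_homog_left 𝒜 ℳ d ha]
      exact Submodule.smul_mem _ _ (hx _)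

include 𝒜 in
/-- a finite homogeneous submodule has finitely many homogeneous generators -/
lemma exists_homog_generators (P : Submodule R M) (hP : P.IsHomogeneous ℳ) (hfg : P.FG) :
    ∃ (k : ℕ) (deg : Fin k → ι) (g : Fin k → M), (∀ b, g b ∈ ℳ (deg b)) ∧ Submodule.span R (Set.range g) = P := by
  classical
  obtain ⟨s, hs⟩ := hfg
  let S : Finset (ι × M) := s.biUnion fun m => ((finite_cmp_ne_zero ℳ m).toFinset).image fun d => (d, cmp ℳ d m)
  refine ⟨S.card, fun b => (S.equivFin.symm b).1.1, fun b => (S.equivFin.symm b).1.2, fun b => ?_, le_antisymm ?_ ?_⟩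
  · obtain ⟨m, -, d, -, h⟩ : ∃ m ∈ s, ∃ d ∈ (finite_cmp_ne_zero ℳ m).toFinset, (d, cmp ℳ d m) = (S.equivFin.symm b).1 := by
      simpa only [S, Finset.mem_biUnion, Finset.mem_image] using (S.equivFin.symm b).2
    dsimp only
    rw [← h]
    exact cmp_mem ℳ d m
  · rw [Submodule.span_le]
    rintro _ ⟨b, rfl⟩
    obtain ⟨m, hm, d, -, h⟩ : ∃ m ∈ s, ∃ d ∈ (finite_cmp_ne_zero ℳ m).toFinset, (d, cmp ℳ d m) = (S.equivFin.symm b).1 := by
      simpa only [S, Finset.mem_biUnion, Finset.mem_image] using (S.equivFin.symm b).2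
    dsimp only
    rw [← h]
    exact hP d (hs ▸ Submodule.subset_span hm)
  · rw [← hs, Submodule.span_le]
    intro m hm
    obtain ⟨t, ht⟩ := exists_sum_cmp ℳ m
    rw [SetLike.mem_coe, ← ht]
    refine sum_mem fun d _ => ?_
    by_cases h : cmp ℳ d m = 0
    · rw [h]; exact zero_mem _
    · refine Submodule.subset_span ⟨S.equivFin ⟨(d, cmp ℳ d m), ?_⟩, by simp⟩
      exact Finset.mem_biUnion.2 ⟨m, hm, Finset.mem_image.2 ⟨d, (Set.Finite.mem_toFinset _).2 h, rfl⟩⟩

end Module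

section Hom

variable {M : Type u} [AddCommGroup M] [Module R M] {τ : Type u} [SetLike τ M] [AddSubgroupClass τ M]
  (ℳ : ι → τ) [Decomposition ℳ]
  {N : Type u} [AddCommGroup N] [Module R N] {τ' : Type u} [SetLike τ' N] [AddSubgroupClass τ' N]
  (𝒩 : ι → τ') [Decomposition 𝒩]

lemma map_cmp {f : M →ₗ[R] N} (hf : GrLC.IsGrHom ℳ 𝒩 f) (d : ι) (m : M) :
    f (cmp ℳ d m) = cmp 𝒩 d (f m) := by
  induction m using piece_induction ℳ with
  | h0 => simp
  | hadd x y hx hy => simp [hx, hy]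
  | hp j x hx =>
    rcases eq_or_ne j d with h | h
    · subst h
      rw [cmp_of_mem ℳ hx, cmp_of_mem 𝒩 (hf _ _ hx)]
    · rw [cmp_of_ne ℳ hx h, cmp_of_ne 𝒩 (hf _ _ hx) h, map_zero]

lemma map_cmp_deg {f : M →ₗ[R] N} {e : ι} (hf : GrLC.IsGrHomDeg ℳ 𝒩 f e) (d : ι) (m : M) :
    f (cmp ℳ d m) = cmp 𝒩 (d + e) (f m) := by
  induction m using piece_induction ℳ with
  | h0 => simp
  | hadd x y hx hy => simp [hx, hy]
  | hp j x hx =>
    rcases eq_or_ne j d with h | h
    · subst h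
      rw [cmp_of_mem ℳ hx, cmp_of_mem 𝒩 (hf _ _ hx)]
    · rw [cmp_of_ne ℳ hx h, cmp_of_ne 𝒩 (hf _ _ hx) (fun h' => h (add_right_cancel h')), map_zero]

lemma isHomogeneous_ker {f : M →ₗ[R] N} (hf : GrLC.IsGrHom ℳ 𝒩 f) :
    (LinearMap.ker f).IsHomogeneous ℳ := fun d m hm => by
  show cmp ℳ d m ∈ _
  rw [LinearMap.mem_ker] at hm ⊢
  rw [map_cmp ℳ 𝒩 hf, hm, map_zero]

lemma isHomogeneous_range {f : M →ₗ[R] N} (hf : GrLC.IsGrHom ℳ 𝒩 f) :
    (LinearMap.range f).IsHomogeneous 𝒩 := by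
  rintro d _ ⟨x, rfl⟩
  exact ⟨cmp ℳ d x, map_cmp ℳ 𝒩 hf d x⟩

lemma exists_homog_preimage {f : M →ₗ[R] N} (hf : GrLC.IsGrHom ℳ 𝒩 f) {y : N} {d : ι}
    (hy : y ∈ LinearMap.range f) (hd : y ∈ 𝒩 d) : ∃ x ∈ ℳ d, f x = y := by
  obtain ⟨x, rfl⟩ := hy
  exact ⟨cmp ℳ d x, cmp_mem ℳ d x, by rw [map_cmp ℳ 𝒩 hf, cmp_of_mem 𝒩 hd]⟩

end Hom

section Bundled

variable {𝒜}

/-- the bundled module with pieces shifted by `d` -/
noncomputable def shift (X : GrLC.GMod.{u} 𝒜) (d : ι) : GrLC.GMod.{u} 𝒜 where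
  carrier := X.carrier
  gr g := X.gr (g + d)
  dec := (isInternal_of_proj (fun g => cmp X.gr (g + d)) (fun g => X.gr (g + d)) (fun g m => cmp_mem _ _ m)
    (fun g m hm => cmp_of_mem _ hm) (fun g e m hm hne => cmp_of_ne _ hm fun h => hne (add_right_cancel h))
    (fun m => by
      obtain ⟨t, ht⟩ := exists_sum_cmp X.gr m
      refine ⟨t.image fun g => g - d, ?_⟩
      rw [Finset.sum_image fun a _ b _ h => sub_left_injective h]
      simpa using ht)).chooseDecomposition
  gsmul := ⟨fun {i j} c m hc hm => by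
    have := smul_mem_add 𝒜 X.gr hc hm
    rwa [vadd_eq_add, add_assoc]⟩

/-- a homogeneous submodule as a bundled graded module -/
noncomputable def sub {M : Type u} [AddCommGroup M] [Module R M] {τ : Type u} [SetLike τ M] [AddSubgroupClass τ M]
    (ℳ : ι → τ) [Decomposition ℳ] [SetLike.GradedSMul 𝒜 ℳ] (P : Submodule R M) (hP : P.IsHomogeneous ℳ) :
    GrLC.GMod.{u} 𝒜 where
  carrier := P
  gr g :=
    { carrier := {x | (x : M) ∈ ℳ g}
      add_mem' := fun ha hb => by simpa using add_mem ha hb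
      zero_mem' := by simpa using zero_mem (ℳ g)
      neg_mem' := fun ha => by simpa using neg_mem ha }
  dec := (isInternal_of_proj
    (fun g => ((cmp ℳ g).comp P.subtype.toAddMonoidHom).codRestrict P fun x => hP g x.2) _
    (fun g m => cmp_mem ℳ g _) (fun g m hm => Subtype.ext (cmp_of_mem ℳ hm))
    (fun g e m hm hne => Subtype.ext (cmp_of_ne ℳ hm hne))
    (fun m => by
      obtain ⟨t, ht⟩ := exists_sum_cmp ℳ (m : M)
      exact ⟨t, Subtype.ext (by rw [AddSubmonoidClass.coe_finsetSum]; exact ht)⟩)).chooseDecomposition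
  gsmul := ⟨fun {i j} c m hc hm => by
    have := smul_mem_add 𝒜 ℳ hc (show (m : M) ∈ ℳ j from hm)
    exact this⟩

lemma sub_subtype_grHom {M : Type u} [AddCommGroup M] [Module R M] {τ : Type u} [SetLike τ M] [AddSubgroupClass τ M]
    (ℳ : ι → τ) [Decomposition ℳ] [SetLike.GradedSMul 𝒜 ℳ] (P : Submodule R M) (hP : P.IsHomogeneous ℳ) :
    GrLC.IsGrHom (sub (𝒜 := 𝒜) ℳ P hP).gr ℳ P.subtype := fun _ _ h => h

variable (𝒜) in
/-- the pieces of the finite free graded module -/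
def freePiece {k : ℕ} (deg : Fin k → ι) (g : ι) : AddSubgroup (Fin k → R) where
  carrier := {v | ∀ b, v b ∈ 𝒜 (g - deg b)}
  add_mem' := fun ha hb b => add_mem (ha b) (hb b)
  zero_mem' := fun b => zero_mem _
  neg_mem' := fun ha b => neg_mem (ha b)

variable (𝒜) in
/-- the finite free graded module with generators of degrees `deg` -/
noncomputable def free {k : ℕ} (deg : Fin k → ι) : GrLC.GMod.{u} 𝒜 where
  carrier := Fin k → R
  gr := freePiece 𝒜 deg
  dec := (isInternal_of_proj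
    (fun g => Pi.addMonoidHom fun b => (cmp 𝒜 (g - deg b)).comp (Pi.evalAddMonoidHom (fun _ => R) b))
    (freePiece 𝒜 deg)
    (fun g m b => cmp_mem 𝒜 _ _) (fun g m hm => funext fun b => cmp_of_mem 𝒜 (hm b))
    (fun g e m hm hne => funext fun b => cmp_of_ne 𝒜 (hm b) fun h => hne (sub_left_injective h))
    (fun m => by
      classical
      refine ⟨Finset.univ.biUnion fun b => ((finite_cmp_ne_zero 𝒜 (m b)).toFinset).image (· + deg b), ?_⟩
      funext b
      obtain ⟨t, ht⟩ := exists_sum_cmp 𝒜 (m b)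
      rw [Finset.sum_apply]
      refine eq_of_cmp 𝒜 fun e => ?_
      show cmp 𝒜 e (∑ g ∈ _, cmp 𝒜 (g - deg b) (m b)) = _
      rw [map_sum]
      by_cases he : cmp 𝒜 e (m b) = 0
      · rw [he]
        refine Finset.sum_eq_zero fun g _ => ?_
        rcases eq_or_ne (g - deg b) e with h | h
        · subst h; rw [he, map_zero]
        · exact cmp_of_ne 𝒜 (cmp_mem 𝒜 _ _) h
      · rw [Finset.sum_eq_single (e + deg b)]
        · rw [add_sub_cancel_right, cmp_of_mem 𝒜 (cmp_mem 𝒜 _ _)]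
        · exact fun g _ hg => cmp_of_ne 𝒜 (cmp_mem 𝒜 _ _) fun h => hg (by rw [← h]; abel)
        · exact fun h => absurd (Finset.mem_biUnion.2 ⟨b, Finset.mem_univ _, Finset.mem_image.2
            ⟨e, (Set.Finite.mem_toFinset _).2 he, rfl⟩⟩) h)).chooseDecomposition
  gsmul := ⟨fun {i j} c v hc hv b => by
    have := SetLike.GradedMul.mul_mem (A := 𝒜) hc (hv b)
    simpa [vadd_eq_add, add_sub_assoc] using this⟩

/-- the map from a free graded module determined by homogeneous elements -/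
lemma exists_free_hom {M : Type u} [AddCommGroup M] [Module R M] {τ : Type u} [SetLike τ M] [AddSubgroupClass τ M]
    (ℳ : ι → τ) [SetLike.GradedSMul 𝒜 ℳ] {k : ℕ} (deg : Fin k → ι) (g : Fin k → M) (hg : ∀ b, g b ∈ ℳ (deg b)) :
    ∃ f : (Fin k → R) →ₗ[R] M, GrLC.IsGrHom (freePiece 𝒜 deg) ℳ f ∧
      LinearMap.range f = Submodule.span R (Set.range g) := by
  refine ⟨Fintype.linearCombination R g, fun e v hv => ?_, Fintype.range_linearCombination R g⟩
  rw [Fintype.linearCombination_apply]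
  refine sum_mem fun b _ => ?_
  have := smul_mem_add 𝒜 ℳ (show v b ∈ 𝒜 (e - deg b) from hv b) (hg b)
  rwa [sub_add_cancel] at this

end Bundled

end Groth.Agent.GrMod19
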