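import Groth.Agent.GrMod19.HPos

/-! Graded local cohomology and coarsening of the grading. -/

universe u

open DirectSum

namespace Groth.Agent.GrMod19

variable {ι κ : Type} [AddCommGroup ι] [DecidableEq ι] [AddCommGroup κ] [DecidableEq κ] (φ : ι →+ κ)
variable {R : Type u} [CommRing R]

section Coarse

variable {M : Type u} [AddCommGroup M] (X : ι → AddSubgroup M)

/-- the coarsened family of pieces -/
def coarse (h : κ) : AddSubgroup M := ⨆ g ∈ φ ⁻¹' {h}, X g

lemma le_coarse {g : ι} {h : κ} (hg : φ g = h) : X g ≤ coarse φ X h :=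
  le_iSup₂ (f := fun (g : ι) (_ : g ∈ φ ⁻¹' {h}) => X g) g hg

lemma coarse_le {h : κ} {P : AddSubgroup M} (hP : ∀ g, φ g = h → X g ≤ P) : coarse φ X h ≤ P :=
  iSup₂_le fun g hg => hP g hg

variable [Decomposition X]

/-- the projection to a coarse piece -/
noncomputable def coarseProj (h : κ) : M →+ M :=
  (DirectSum.toAddMonoid fun g => if φ g = h then (X g).subtype else 0).comp (decomposeAddEquiv X).toAddMonoidHom

lemma coarseProj_of_mem (h : κ) {g : ι} {x : M} (hx : x ∈ X g) :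
    coarseProj φ X h x = if φ g = h then x else 0 := by
  rw [coarseProj, AddMonoidHom.comp_apply, show (decomposeAddEquiv X).toAddMonoidHom x = decompose X x from rfl,
    decompose_of_mem X hx, DirectSum.toAddMonoid_of]
  split_ifs <;> rfl

theorem isInternal_coarse : IsInternal (coarse φ X) := by
  refine isInternal_of_proj (coarseProj φ X) _ (fun h x => ?_) (fun h x hx => ?_) (fun h e x hx hne => ?_) fun x => ?_
  · induction x using piece_induction X with
    | h0 => rw [map_zero]; exact zero_mem _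
    | hadd p q hp hq => rw [map_add]; exact add_mem hp hq
    | hp g p hp =>
      rw [coarseProj_of_mem φ X h hp]
      split_ifs with hg
      · exact le_coarse φ X hg hp
      · exact zero_mem _
  · show x ∈ AddMonoidHom.eqLocus (coarseProj φ X h) (AddMonoidHom.id M)
    refine coarse_le φ X (fun g hg y hy => ?_) hx
    show coarseProj φ X h y = y
    rw [coarseProj_of_mem φ X h hy, if_pos hg]
  · show x ∈ (coarseProj φ X e).ker
    refine coarse_le φ X (fun g hg y hy => ?_) hx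
    show coarseProj φ X e y = 0
    rw [coarseProj_of_mem φ X e hy, if_neg (hg ▸ hne)]
  · obtain ⟨t, ht⟩ := exists_sum_cmp X x
    refine ⟨t.image φ, ?_⟩
    conv_rhs => rw [← ht, ← Finset.sum_fiberwise_of_maps_to (fun g hg => Finset.mem_image_of_mem φ hg)]
    refine Finset.sum_congr rfl fun h _ => ?_
    conv_lhs => rw [← ht, map_sum]
    rw [Finset.sum_filter]
    exact Finset.sum_congr rfl fun g _ => coarseProj_of_mem φ X h (cmp_mem X g x)

end Coarse

variable {φ}
variable {𝒜 : ι → AddSubgroup R} [GradedRing 𝒜] {𝒜' : κ → AddSubgroup R} [GradedRing 𝒜']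
  (hA : ∀ h, 𝒜' h = coarse φ 𝒜 h)
include hA

lemma gsmul_coarse {M : Type u} [AddCommGroup M] [Module R M] (X : ι → AddSubgroup M)
    [SetLike.GradedSMul 𝒜 X] : SetLike.GradedSMul 𝒜' (coarse φ X) := by
  refine ⟨fun {i j} r x hr hx => ?_⟩
  change r ∈ 𝒜' i at hr
  rw [hA] at hr
  show x ∈ (coarse φ X (i + j)).comap (DistribMulAction.toAddMonoidHom M r)
  refine coarse_le φ X (fun g hg y hy => ?_) hx
  show r ∈ (coarse φ X (i + j)).comap ((AddMonoidHom.flip (smulAddHom R M)) y)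
  refine coarse_le φ 𝒜 (fun g' hg' r' hr' => ?_) hr
  exact le_coarse φ X (by rw [map_add, hg', hg]) (smul_mem_add 𝒜 X hr' hy)

omit hA in
lemma isGrHom_coarse {M N : Type u} [AddCommGroup M] [Module R M] [AddCommGroup N] [Module R N]
    {X : ι → AddSubgroup M} {Y : ι → AddSubgroup N} {f : M →ₗ[R] N} (hf : GrLC.IsGrHom X Y f) :
    GrLC.IsGrHom (coarse φ X) (coarse φ Y) f := fun h x hx => by
  show x ∈ (coarse φ Y h).comap f.toAddMonoidHom
  exact coarse_le φ X (fun g hg y hy => le_coarse φ Y hg (hf g y hy)) hx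

variable {a : HomogeneousIdeal 𝒜} {a' : HomogeneousIdeal 𝒜'} (ha : a'.toIdeal = a.toIdeal)
include ha

omit hA in
lemma gam_coarse_eq {X : Type u} [AddCommGroup X] [Module R X] :
    GrLC.gam a'.toIdeal X = GrLC.gam a.toIdeal X := by rw [ha]

variable [IsNoetherianRing R]

/-- the comparison on cocycles -/
def CoarseData {M : Type u} [AddCommGroup M] [Module R M] {ℳ : ι → AddSubgroup M} [Decomposition ℳ]
    [SetLike.GradedSMul 𝒜 ℳ] {ℳ' : κ → AddSubgroup M} [Decomposition ℳ'] [SetLike.GradedSMul 𝒜' ℳ']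
    (E : GrLC.StarInjRes 𝒜 ℳ) (E' : GrLC.StarInjRes 𝒜' ℳ') (i : ℕ) : Prop :=
  ∃ θ : E.cocyc a i →ₗ[R] E'.H a' i, Function.Surjective θ ∧
    LinearMap.ker θ = (E.cobdy a i).comap (E.cocyc a i).subtype ∧
    ∀ (g : ι) (z : E.cocyc a i), (z : (E.X i).carrier) ∈ (E.X i).gr g → θ z ∈ E'.Hgr a' i (φ g)

lemma coarse_zero {M : Type u} [AddCommGroup M] [Module R M] {ℳ : ι → AddSubgroup M} [Decomposition ℳ]
    [SetLike.GradedSMul 𝒜 ℳ] {ℳ' : κ → AddSubgroup M} [Decomposition ℳ'] [SetLike.GradedSMul 𝒜' ℳ']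
    (hℳ : ∀ g, ℳ g ≤ ℳ' (φ g)) (E : GrLC.StarInjRes 𝒜 ℳ) (E' : GrLC.StarInjRes 𝒜' ℳ') :
    CoarseData (φ := φ) (a := a) (a' := a') E E' 0 := by
  have hsurj : Function.Surjective (zeroMap E a) := fun x => by
    obtain ⟨⟨z, hz1, hz2⟩, rfl⟩ := Submodule.mkQ_surjective _ x
    rw [E.exact_zero] at hz2
    obtain ⟨m, rfl⟩ := hz2
    obtain ⟨k, hk⟩ := hz1
    exact ⟨⟨m, k, fun r hr => E.ε_injective (by rw [map_smul, hk r hr, map_zero])⟩, rfl⟩
  let e := LinearEquiv.ofBijective (zeroMap E a) ⟨zeroMap_injective E a, hsurj⟩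
  let c : GrLC.gam a.toIdeal M ≃ₗ[R] GrLC.gam a'.toIdeal M := LinearEquiv.ofEq _ _ (gam_coarse_eq ha).symm
  have hsurj' : Function.Surjective (zeroMap E' a') := fun x => by
    obtain ⟨⟨z, hz1, hz2⟩, rfl⟩ := Submodule.mkQ_surjective _ x
    rw [E'.exact_zero] at hz2
    obtain ⟨m, rfl⟩ := hz2
    obtain ⟨k, hk⟩ := hz1
    exact ⟨⟨m, k, fun r hr => E'.ε_injective (by rw [map_smul, hk r hr, map_zero])⟩, rfl⟩
  refine ⟨zeroMap E' a' ∘ₗ c.toLinearMap ∘ₗ e.symm.toLinearMap ∘ₗ E.toH a 0,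
    hsurj'.comp (c.surjective.comp (e.symm.surjective.comp (Submodule.mkQ_surjective _))), ?_, fun g z hz => ?_⟩
  · ext z
    rw [LinearMap.mem_ker]
    simp only [LinearMap.comp_apply, LinearEquiv.coe_coe]
    rw [← (zeroMap E' a').map_zero, (zeroMap_injective E' a').eq_iff, c.map_eq_zero_iff, e.symm.map_eq_zero_iff]
    exact Submodule.Quotient.mk_eq_zero _
  · obtain ⟨m, hm, hmz⟩ := exists_zeroMap_of_mem E a (x := E.toH a 0 z) ⟨z, hz, rfl⟩
    have h2 : e.symm (E.toH a 0 z) = m := by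
      rw [← hmz]
      exact e.symm_apply_apply m
    show zeroMap E' a' (c (e.symm (E.toH a 0 z))) ∈ _
    rw [h2]
    exact zeroMap_mem E' a' (hℳ g hm)

omit hA ha in
lemma hMap_zeroMap {M N : Type u} [AddCommGroup M] [Module R M] [AddCommGroup N] [Module R N]
    {ℳ : κ → AddSubgroup M} [Decomposition ℳ] [SetLike.GradedSMul 𝒜' ℳ] {𝒩 : κ → AddSubgroup N} [Decomposition 𝒩]
    [SetLike.GradedSMul 𝒜' 𝒩] (E : GrLC.StarInjRes 𝒜' ℳ) (F : GrLC.StarInjRes 𝒜' 𝒩) {f : M →ₗ[R] N} {d : κ}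
    (hf : GrLC.IsGrHomDeg ℳ 𝒩 f d) (b : HomogeneousIdeal 𝒜') (m : GrLC.gam b.toIdeal M) :
    hMap E F b f hf 0 (zeroMap E b m) = zeroMap F b ⟨f m, ChainMap.map_gam f _ m.2⟩ :=
  congrArg (F.toH b 0) (Subtype.ext ((lift E F f hf).aug m))

omit hA ha [IsNoetherianRing R] in
/-- the resolution shifted by one -/
noncomputable def shiftRes {M : Type u} [AddCommGroup M] [Module R M] {ℳ : ι → AddSubgroup M} [Decomposition ℳ]
    [SetLike.GradedSMul 𝒜 ℳ] (E : GrLC.StarInjRes 𝒜 ℳ)
    [Decomposition (GrInj18.subGr (E.X 1).gr (LinearMap.ker (E.d 1)))] :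
    GrLC.StarInjRes 𝒜 (GrInj18.subGr (E.X 1).gr (LinearMap.ker (E.d 1))) where
  X n := E.X (n + 1)
  d n := E.d (n + 1)
  ε := (LinearMap.ker (E.d 1)).subtype
  d_grHom n := E.d_grHom (n + 1)
  ε_grHom := GrInj18.isGrHom_subtype _ _
  ε_injective := Submodule.injective_subtype _
  exact_zero := (Submodule.range_subtype _).symm
  exact_succ n := E.exact_succ (n + 1)
  starInj n := E.starInj (n + 1)

/-- the comparison in every degree -/
theorem coarseData : ∀ (i : ℕ) (M : Type u) [AddCommGroup M] [Module R M] (ℳ : ι → AddSubgroup M) [Decomposition ℳ]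
    [SetLike.GradedSMul 𝒜 ℳ] (ℳ' : κ → AddSubgroup M) [Decomposition ℳ'] [SetLike.GradedSMul 𝒜' ℳ'],
    (∀ g, ℳ g ≤ ℳ' (φ g)) → ∀ (E : GrLC.StarInjRes 𝒜 ℳ) (E' : GrLC.StarInjRes 𝒜' ℳ'),
      CoarseData (φ := φ) (a := a) (a' := a') E E' i := by
  intro i
  induction i with
  | zero => intro M _ _ ℳ _ _ ℳ' _ _ hℳ E E'; exact coarse_zero hA ha hℳ E E'
  | succ i ih =>
    intro M _ _ ℳ _ _ ℳ' _ _ hℳ E E'
    let : Decomposition (GrInj18.subGr (E.X 1).gr (LinearMap.ker (E.d 1))) :=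
      (GrInj18.subGr_isInternal _ (isHomogeneous_ker _ _ (E.d_grHom 1))).chooseDecomposition
    let : Decomposition (coarse φ (E.X 0).gr) := (isInternal_coarse φ _).chooseDecomposition
    let : Decomposition (coarse φ (E.X 1).gr) := (isInternal_coarse φ _).chooseDecomposition
    let : Decomposition (coarse φ (E.X 2).gr) := (isInternal_coarse φ _).chooseDecomposition
    have : SetLike.GradedSMul 𝒜' (coarse φ (E.X 0).gr) := gsmul_coarse hA _
    have : SetLike.GradedSMul 𝒜' (coarse φ (E.X 1).gr) := gsmul_coarse hA _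
    let Z := LinearMap.ker (E.d 1)
    let 𝒵 := GrInj18.subGr (coarse φ (E.X 1).gr) Z
    let : Decomposition 𝒵 := (GrInj18.subGr_isInternal _
      (isHomogeneous_ker (coarse φ (E.X 1).gr) (coarse φ (E.X 2).gr) (isGrHom_coarse (E.d_grHom 1)))).chooseDecomposition
    obtain ⟨F⟩ := GrInj18.nonempty_starInjRes 𝒜' (coarse φ (E.X 0).gr)
    obtain ⟨G⟩ := GrInj18.nonempty_starInjRes 𝒜' 𝒵
    let q : (E.X 0).carrier →ₗ[R] Z := (E.d 0).codRestrict Z fun x => d_comp_d E 0 x
    have hε : GrLC.IsGrHom ℳ' (coarse φ (E.X 0).gr) E.ε := fun h x hx => by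
      obtain ⟨t, ht⟩ := exists_sum_cmp ℳ x
      have hx' : x = ∑ g ∈ t.filter (fun g => φ g = h), cmp ℳ g x := by
        conv_lhs => rw [← cmp_of_mem ℳ' hx, ← ht, map_sum]
        rw [Finset.sum_filter]
        refine Finset.sum_congr rfl fun g _ => ?_
        split_ifs with hg
        · exact cmp_of_mem ℳ' (hg ▸ hℳ g (cmp_mem ℳ g x))
        · exact cmp_of_ne ℳ' (hℳ g (cmp_mem ℳ g x)) hg
      rw [hx', map_sum]
      exact sum_mem fun g hg => le_coarse φ _ (Finset.mem_filter.1 hg).2 (E.ε_grHom g _ (cmp_mem ℳ g x))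
    have S : Ses ℳ' (coarse φ (E.X 0).gr) 𝒵 E.ε q 0 :=
      { hf := isGrHomDeg_zero_iff.2 hε
        hg := fun h x hx => isGrHom_coarse (φ := φ) (E.d_grHom 0) h x hx
        inj := E.ε_injective
        exact := fun x => by
          constructor
          · intro hx
            have : x ∈ LinearMap.range E.ε := by
              rw [← E.exact_zero]
              exact congrArg Subtype.val hx
            exact this
          · rintro ⟨y, rfl⟩
            exact Subtype.ext (d_comp_ε E y)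
        surj := fun z => by
          have hz : (z : (E.X 1).carrier) ∈ LinearMap.range (E.d 0) := by rw [← E.exact_succ]; exact z.2
          obtain ⟨x, hx⟩ := hz
          exact ⟨x, Subtype.ext hx⟩ }
    obtain ⟨δ, hδ, -, hex, hex', -⟩ := exists_les E' F G S a'
    have hX : ∀ j, 0 < j → Subsingleton (F.H a' j) := fun j hj => by
      obtain ⟨e⟩ := nonempty_H_equiv F a' j
      have := subsingleton_H (E.starInj 0) a hj
      rw [← ha] at this
      exact e.toEquiv.subsingleton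
    have hδsurj : Function.Surjective (δ i) := fun y => by
      have := hX (i + 1) (Nat.succ_pos i)
      exact (hex' i y).1 (Subsingleton.elim _ _)
    cases i with
    | succ j =>
      obtain ⟨θ, hθ, hθk, hθg⟩ := ih Z (GrInj18.subGr (E.X 1).gr Z) 𝒵 (fun g z hz => le_coarse φ _ rfl hz)
        (shiftRes E) G
      let θ' : E.cocyc a (j + 1 + 1) →ₗ[R] G.H a' (j + 1) := θ
      have hθk' : LinearMap.ker θ' = (E.cobdy a (j + 1 + 1)).comap (E.cocyc a (j + 1 + 1)).subtype := hθk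
      refine ⟨δ (j + 1) ∘ₗ θ', hδsurj.comp hθ, ?_, fun g z hz => ?_⟩
      · have hδinj : Function.Injective (δ (j + 1)) := by
          rw [injective_iff_map_eq_zero]
          intro y hy
          obtain ⟨w, rfl⟩ := (hex (j + 1) y).1 hy
          have := hX (j + 1) (Nat.succ_pos j)
          rw [Subsingleton.elim w 0, map_zero]
        rw [LinearMap.ker_comp, LinearMap.ker_eq_bot.2 hδinj, Submodule.comap_bot, hθk']
      · have := hδ (j + 1) (φ g) _ (hθg g z hz)
        rwa [neg_zero, add_zero] at this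
    | zero =>
      let c : E.cocyc a 1 →ₗ[R] GrLC.gam a'.toIdeal Z :=
        { toFun := fun z => ⟨⟨z, z.2.2⟩, by
            obtain ⟨k, hk⟩ := (gam_coarse_eq ha).ge z.2.1
            exact ⟨k, fun r hr => Subtype.ext (hk r hr)⟩⟩
          map_add' := fun _ _ => rfl
          map_smul' := fun _ _ => rfl }
      have hc : Function.Surjective c := fun w => by
        obtain ⟨k, hk⟩ := w.2
        exact ⟨⟨(w : Z), (gam_coarse_eq ha).le ⟨k, fun r hr => congrArg Subtype.val (hk r hr)⟩, (w : Z).2⟩,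
          Subtype.ext (Subtype.ext rfl)⟩
      have hzs : ∀ {N : Type u} [AddCommGroup N] [Module R N] {𝒩 : κ → AddSubgroup N} [Decomposition 𝒩]
          [SetLike.GradedSMul 𝒜' 𝒩] (D : GrLC.StarInjRes 𝒜' 𝒩), Function.Surjective (zeroMap D a') := by
        intro N _ _ 𝒩 _ _ D x
        obtain ⟨⟨z, hz1, hz2⟩, rfl⟩ := Submodule.mkQ_surjective _ x
        rw [D.exact_zero] at hz2
        obtain ⟨m, rfl⟩ := hz2
        obtain ⟨k, hk⟩ := hz1
        exact ⟨⟨m, k, fun r hr => D.ε_injective (by rw [map_smul, hk r hr, map_zero])⟩, rfl⟩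
      refine ⟨δ 0 ∘ₗ zeroMap G a' ∘ₗ c, hδsurj.comp ((hzs G).comp hc), ?_, fun g z hz => ?_⟩
      swap
      · have hz' : zeroMap G a' (c z) ∈ G.Hcomp a' 0 (φ g) :=
          zeroMap_mem G a' (le_coarse φ (E.X 1).gr rfl hz)
        have := hδ 0 (φ g) _ hz'
        rwa [neg_zero, add_zero] at this
      ext z
      rw [LinearMap.mem_ker, Submodule.mem_comap]
      simp only [LinearMap.comp_apply]
      rw [hex 0]
      constructor
      · rintro ⟨y, hy⟩
        obtain ⟨w, rfl⟩ := hzs F y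
        rw [hMap_zeroMap] at hy
        refine ⟨w, (gam_coarse_eq ha).le w.2, ?_⟩
        exact congrArg (fun v : GrLC.gam a'.toIdeal Z => ((v : Z) : (E.X 1).carrier)) (zeroMap_injective G a' hy)
      · rintro ⟨w, hw, hwz⟩
        refine ⟨zeroMap F a' ⟨w, (gam_coarse_eq ha).ge hw⟩, ?_⟩
        rw [hMap_zeroMap]
        exact congrArg (zeroMap G a') (Subtype.ext (Subtype.ext hwz))

end Groth.Agent.GrMod19
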