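import Groth.Agent.GrMod19.StarInj

/-! Graded local cohomology from a resolution: grading, comparison with local cohomology. -/

universe u

open DirectSum

namespace Groth.Agent.GrMod19

variable {ι : Type} [AddCommGroup ι] [DecidableEq ι]
variable {R : Type u} [CommRing R] {σ : Type u} [SetLike σ R] [AddSubgroupClass σ R] {𝒜 : ι → σ} [GradedRing 𝒜]

section Gam

variable {M : Type u} [AddCommGroup M] [Module R M] {τ : Type u} [SetLike τ M] [AddSubgroupClass τ M]
  (ℳ : ι → τ) [Decomposition ℳ] [SetLike.GradedSMul 𝒜 ℳ]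

lemma smul_cmp_eq_zero {J : Ideal R} (hJ : J.IsHomogeneous 𝒜) {m : M} (h : ∀ r ∈ J, r • m = 0) (d : ι) :
    ∀ r ∈ J, r • cmp ℳ d m = 0 := by
  intro r hr
  obtain ⟨t, ht⟩ := exists_sum_cmp 𝒜 r
  rw [← ht, Finset.sum_smul]
  refine Finset.sum_eq_zero fun i _ => ?_
  have := cmp_smul_homog_left 𝒜 ℳ (d + i) (cmp_mem 𝒜 i r) m
  rw [add_sub_cancel_right] at this
  have hmem : cmp 𝒜 i r ∈ J := hJ i hr
  rw [← this, h _ hmem, map_zero]

lemma isHomogeneous_gam (a : HomogeneousIdeal 𝒜) : (GrLC.gam a.toIdeal M).IsHomogeneous ℳ := by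
  rintro d m ⟨k, hk⟩
  exact ⟨k, smul_cmp_eq_zero ℳ (isHomogeneous_pow a k) hk d⟩

end Gam

variable {M : Type u} [AddCommGroup M] [Module R M] {τ : Type u} [SetLike τ M] [AddSubgroupClass τ M]
  {ℳ : ι → τ} [Decomposition ℳ] [SetLike.GradedSMul 𝒜 ℳ] (E : GrLC.StarInjRes 𝒜 ℳ) (a : HomogeneousIdeal 𝒜)

lemma cmp_mem_cocyc (i : ℕ) (d : ι) {z : (E.X i).carrier} (hz : z ∈ E.cocyc a i) :
    cmp (E.X i).gr d z ∈ E.cocyc a i :=
  ⟨isHomogeneous_gam (E.X i).gr a d hz.1, isHomogeneous_ker _ _ (E.d_grHom i) d hz.2⟩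

lemma cmp_mem_cobdy : ∀ (i : ℕ) (d : ι) {z : (E.X i).carrier}, z ∈ E.cobdy a i →
    cmp (E.X i).gr d z ∈ E.cobdy a i
  | 0, d, z, hz => by
    rw [show z = 0 from hz, map_zero]
    exact zero_mem _
  | n + 1, d, _, hz => by
    obtain ⟨w, hw, rfl⟩ := hz
    exact ⟨cmp (E.X n).gr d w, isHomogeneous_gam (E.X n).gr a d hw, map_cmp _ _ (E.d_grHom n) d w⟩

/-- the projection of a graded cocycle class onto degree `d` -/
noncomputable def hProj (i : ℕ) (d : ι) : E.H a i →+ E.H a i :=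
  QuotientAddGroup.lift _ ((E.toH a i).toAddMonoidHom.comp
    (((cmp (E.X i).gr d).comp (E.cocyc a i).subtype.toAddMonoidHom).codRestrict (E.cocyc a i)
      fun z => cmp_mem_cocyc E a i d z.2))
    fun z hz => (Submodule.Quotient.mk_eq_zero _).2 (cmp_mem_cobdy E a i d hz)

lemma hProj_toH (i : ℕ) (d : ι) (z : E.cocyc a i) :
    hProj E a i d (E.toH a i z) = E.toH a i ⟨cmp (E.X i).gr d z, cmp_mem_cocyc E a i d z.2⟩ := rfl

/-- graded local cohomology is graded -/
theorem isInternal_Hgr (i : ℕ) : IsInternal (E.Hgr a i) := by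
  refine isInternal_of_proj (hProj E a i) _ (fun d x => ?_) (fun d x hx => ?_) (fun d e x hx hne => ?_) fun x => ?_
  · obtain ⟨z, rfl⟩ := Submodule.mkQ_surjective _ x
    exact ⟨_, cmp_mem _ _ _, rfl⟩
  · obtain ⟨z, hz, rfl⟩ := hx
    rw [hProj_toH]
    exact congrArg _ (Subtype.ext (cmp_of_mem _ hz))
  · obtain ⟨z, hz, rfl⟩ := hx
    rw [hProj_toH]
    exact (congrArg _ (Subtype.ext (cmp_of_ne _ hz hne))).trans (map_zero (E.toH a i))
  · obtain ⟨z, rfl⟩ := Submodule.mkQ_surjective _ x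
    obtain ⟨t, ht⟩ := exists_sum_cmp (E.X i).gr (z : (E.X i).carrier)
    refine ⟨t, ?_⟩
    simp only [hProj_toH]
    rw [← map_sum]
    exact congrArg _ (Subtype.ext (by rw [AddSubmonoidClass.coe_finsetSum]; exact ht))

variable [IsNoetherianRing R]

/-- the cocycles of the resolution -/
abbrev syz (n : ℕ) : Submodule R (E.X n).carrier := LinearMap.ker (E.d n)

/-- the differential onto the next cocycles -/
noncomputable def syzMap (n : ℕ) : (E.X n).carrier →ₗ[R] syz E (n + 1) :=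
  (E.d n).codRestrict _ fun x => by rw [syz, E.exact_succ]; exact LinearMap.mem_range_self _ x

omit [IsNoetherianRing R] in
lemma syzMap_surjective (n : ℕ) : Function.Surjective (syzMap E n) := fun y => by
  have : (y : (E.X (n + 1)).carrier) ∈ LinearMap.range (E.d n) := E.exact_succ n ▸ y.2
  obtain ⟨x, hx⟩ := this
  exact ⟨x, Subtype.ext hx⟩

omit [IsNoetherianRing R] in
lemma syz_exact (n : ℕ) : Function.Exact (syz E n).subtype (syzMap E n) := by
  rw [LinearMap.exact_iff, Submodule.range_subtype, syzMap, LinearMap.ker_codRestrict]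

lemma nonempty_H_syz_equiv : ∀ (n k m : ℕ), m = k + n + 1 →
    Nonempty (LocCoh.H a.toIdeal (k + 1) (syz E n) ≃ₗ[R] LocCoh.H a.toIdeal m (syz E 0))
  | 0, k, m, hm => by subst hm; exact ⟨LinearEquiv.refl R _⟩
  | n + 1, k, m, hm => by
    obtain ⟨e⟩ := nonempty_H_syz_equiv n (k + 1) m (by omega)
    exact ⟨(LC15.HδEquiv a.toIdeal (k + 1) (syz E n).injective_subtype (syz_exact E n) (syzMap_surjective E n)
      (subsingleton_H (E.starInj n) a (by omega)) (subsingleton_H (E.starInj n) a (by omega))).trans e⟩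

omit [IsNoetherianRing R] in
lemma mem_gamma_iff {N : Type u} [AddCommGroup N] [Module R N] (P : Submodule R N) (z : P) :
    z ∈ LC15.gamma a.toIdeal P ↔ (z : N) ∈ GrLC.gam a.toIdeal N := by
  constructor
  · rintro ⟨k, hk⟩
    exact ⟨k, fun r hr => congrArg Subtype.val (hk r hr)⟩
  · rintro ⟨k, hk⟩
    exact ⟨k, fun r hr => Subtype.ext (hk r hr)⟩

/-- cocycles in the torsion part -/
noncomputable def cocycEquiv (n : ℕ) : E.cocyc a n ≃ₗ[R] LC15.gamma a.toIdeal (syz E n) where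
  toFun z := ⟨⟨z.1, z.2.2⟩, (mem_gamma_iff a _ _).2 z.2.1⟩
  invFun z := ⟨z.1.1, (mem_gamma_iff a _ z.1).1 z.2, z.1.2⟩
  map_add' _ _ := rfl
  map_smul' _ _ := rfl
  left_inv _ := rfl
  right_inv _ := rfl

/-- the cocycle class as a class in local cohomology of the previous syzygy -/
noncomputable def classMap (n : ℕ) : E.cocyc a (n + 1) →ₗ[R] LocCoh.H a.toIdeal 1 (syz E n) :=
  LC15.Hδ a.toIdeal 0 (syz E n).injective_subtype (syz_exact E n) (syzMap_surjective E n) ∘ₗ
    ((cocycEquiv E a (n + 1)).trans (LC15.H0equiv a.toIdeal (syz E (n + 1))).symm).toLinearMap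

lemma classMap_surjective (n : ℕ) : Function.Surjective (classMap E a n) :=
  (LC15.Hδ_surjective a.toIdeal 0 _ _ _ (subsingleton_H (E.starInj n) a Nat.one_pos)).comp
    (LinearEquiv.surjective _)

omit [IsNoetherianRing R] in
lemma ker_classMap (n : ℕ) :
    LinearMap.ker (classMap E a n) = (E.cobdy a (n + 1)).comap (E.cocyc a (n + 1)).subtype := by
  ext z
  rw [LinearMap.mem_ker]
  refine (LC15.H_exact₃ a.toIdeal 0 _ _ _ _).trans ⟨?_, ?_⟩
  · rintro ⟨w, hw⟩
    have h := congrArg (LC15.h0 a.toIdeal (syz E (n + 1))) hw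
    rw [LC15.h0_Hmap] at h
    refine ⟨LC15.h0 a.toIdeal _ w, ?_, ?_⟩
    · rw [SetLike.mem_coe]
      have hw' : LC15.h0 a.toIdeal (E.X n).carrier w ∈ LC15.gamma a.toIdeal (E.X n).carrier := by
        rw [← LC15.range_h0]; exact LinearMap.mem_range_self _ w
      exact hw'
    · have h2 : LC15.h0 a.toIdeal (syz E (n + 1)) ((LC15.H0equiv a.toIdeal (syz E (n + 1))).symm (cocycEquiv E a (n + 1) z))
          = (cocycEquiv E a (n + 1) z : syz E (n + 1)) := by
        rw [← LC15.H0equiv_coe, LinearEquiv.apply_symm_apply]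
      exact congrArg Subtype.val (h.trans h2)
  · rintro ⟨w, hw, hwz⟩
    refine ⟨(LC15.H0equiv a.toIdeal (E.X n).carrier).symm ⟨w, hw⟩, LC15.h0_injective a.toIdeal _ ?_⟩
    rw [LC15.h0_Hmap, ← LC15.H0equiv_coe, LinearEquiv.apply_symm_apply]
    show syzMap E n w = LC15.h0 a.toIdeal (syz E (n + 1))
      ((LC15.H0equiv a.toIdeal (syz E (n + 1))).symm (cocycEquiv E a (n + 1) z))
    rw [← LC15.H0equiv_coe, LinearEquiv.apply_symm_apply]
    exact Subtype.ext hwz

/-- graded local cohomology with degrees forgotten is local cohomology -/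
theorem nonempty_H_equiv (i : ℕ) : Nonempty (E.H a i ≃ₗ[R] LocCoh.H a.toIdeal i M) := by
  let e₀ : M ≃ₗ[R] syz E 0 :=
    (LinearEquiv.ofInjective E.ε E.ε_injective).trans (LinearEquiv.ofEq _ _ E.exact_zero.symm)
  cases i with
  | zero =>
    have hb : (E.cobdy a 0).comap (E.cocyc a 0).subtype = ⊥ := by
      show Submodule.comap (E.cocyc a 0).subtype ⊥ = ⊥
      exact Submodule.ker_subtype _
    exact ⟨(Submodule.quotEquivOfEqBot _ hb).trans ((cocycEquiv E a 0).trans
      ((LC15.H0equiv a.toIdeal (syz E 0)).symm.trans (LC15.Hequiv a.toIdeal 0 e₀).symm))⟩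
  | succ n =>
    obtain ⟨e⟩ := nonempty_H_syz_equiv E a n 0 (n + 1) (by omega)
    exact ⟨(Submodule.quotEquivOfEq _ _ (ker_classMap E a n).symm).trans
      (((classMap E a n).quotKerEquivOfSurjective (classMap_surjective E a n)).trans
        (e.trans (LC15.Hequiv a.toIdeal (n + 1) e₀).symm))⟩

end Groth.Agent.GrMod19
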