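import Groth.Agent.GrMod19.StarMax
import Groth.Agent.GrRing54.Height
import Groth.Agent.S14424

/-! Top local cohomology of Cohen–Macaulay graded rings; the a-invariant and homogeneous regular elements. -/

universe u

open DirectSum

namespace Groth.Agent.GrMod19

variable {R : Type u} [CommRing R] {σ : Type u} [SetLike σ R] [AddSubgroupClass σ R] {𝒜 : ℤ → σ} [GradedRing 𝒜]
variable {M : Type u} [AddCommGroup M] [Module R M] {τ : Type u} [SetLike τ M] [AddSubgroupClass τ M]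
  {ℳ : ℤ → τ} [Decomposition ℳ] [SetLike.GradedSMul 𝒜 ℳ]
  {N : Type u} [AddCommGroup N] [Module R N] {τ' : Type u} [SetLike τ' N] [AddSubgroupClass τ' N]
  {𝒩 : ℤ → τ'} [Decomposition 𝒩] [SetLike.GradedSMul 𝒜 𝒩]
  (a : HomogeneousIdeal 𝒜)

/-- an integer in the value type of ends -/
def zWB (n : ℤ) : WithBot (WithTop ℤ) := ((n : WithTop ℤ) : WithBot (WithTop ℤ))

lemma zWB_add (p q : ℤ) : zWB p + zWB q = zWB (p + q) := by
  rw [zWB, zWB, zWB, ← WithBot.coe_add, ← WithTop.coe_add]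

lemma zWB_le {p q : ℤ} (h : p ≤ q) : zWB p ≤ zWB q := WithBot.coe_le_coe.2 (WithTop.coe_le_coe.2 h)

variable (ℳ) in
/-- the end of graded local cohomology, independently of the resolution -/
noncomputable def vEnd (i : ℕ) : WithBot (WithTop ℤ) := ⨆ (n : ℤ) (_ : ¬ VanH a ℳ i n), zWB n

lemma endDeg_eq_vEnd (E : GrLC.StarInjRes 𝒜 ℳ) (i : ℕ) : GrLC.endDeg (E.Hgr a i) = vEnd ℳ a i :=
  iSup_congr fun n => iSup_congr_Prop (not_congr ((Hcomp_eq_bot_iff E a).symm.trans (vanH_iff a E).symm)) fun _ => rfl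

/-- degree-preserving equivalences preserve the end -/
lemma vEnd_congr (e : M ≃ₗ[R] N) (he : GrLC.IsGrHom ℳ 𝒩 e.toLinearMap)
    (he' : GrLC.IsGrHom 𝒩 ℳ e.symm.toLinearMap) (i : ℕ) : vEnd ℳ a i = vEnd 𝒩 a i := by
  refine iSup_congr fun n => iSup_congr_Prop (not_congr ⟨fun h => ?_, fun h => ?_⟩) fun _ => rfl
  · exact vanH_of_equiv a e.symm (isGrHomDeg_zero_iff.2 he') (isGrHomDeg_zero_iff.2 (by simpa using he))
      (add_zero 0) (by rwa [add_zero])
  · exact vanH_of_equiv a e (isGrHomDeg_zero_iff.2 he) (isGrHomDeg_zero_iff.2 he') (add_zero 0) (by rwa [add_zero])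

/-- vanishing is preserved by degree-preserving equivalences -/
lemma vanH_congr (e : M ≃ₗ[R] N) (he : GrLC.IsGrHom ℳ 𝒩 e.toLinearMap)
    (he' : GrLC.IsGrHom 𝒩 ℳ e.symm.toLinearMap) (i : ℕ) (n : ℤ) (h : VanH a 𝒩 i n) : VanH a ℳ i n :=
  vanH_of_equiv a e (isGrHomDeg_zero_iff.2 he) (isGrHomDeg_zero_iff.2 he') (add_zero 0) (by rwa [add_zero])

/-- the end of the top local cohomology of a hyperplane section -/
theorem vEnd_quot {x : R} {k : ℤ} (hk : 0 ≤ k) (hx : x ∈ 𝒜 k) (hxa : x ∈ a.toIdeal) {π : M →ₗ[R] N}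
    (S : Ses ℳ ℳ 𝒩 (x • LinearMap.id) π k) (i : ℕ) (hM : ∀ n, VanH a ℳ i n) :
    vEnd 𝒩 a i = vEnd ℳ a (i + 1) + zWB k := by
  obtain ⟨E⟩ := GrInj18.nonempty_starInjRes 𝒜 ℳ
  obtain ⟨F⟩ := GrInj18.nonempty_starInjRes 𝒜 𝒩
  obtain ⟨δ, hδ, -, hex, hex', -⟩ := exists_les E E F S a
  refine le_antisymm (iSup₂_le fun n hn => ?_) ?_
  · have hne : ¬ VanH a ℳ (i + 1) (n - k) := fun h => hn (vanH_right a S (hM n) h)
    calc zWB n = zWB (n - k) + zWB k := by rw [zWB_add, sub_add_cancel]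
      _ ≤ _ := add_le_add (le_iSup₂ (f := fun (m : ℤ) (_ : ¬ VanH a ℳ (i + 1) m) => zWB m) (n - k) hne) le_rfl
  suffices h : vEnd ℳ a (i + 1) ≤ vEnd 𝒩 a i + zWB (-k) by
    calc vEnd ℳ a (i + 1) + zWB k ≤ vEnd 𝒩 a i + zWB (-k) + zWB k := add_le_add h le_rfl
      _ = vEnd 𝒩 a i := by rw [add_assoc, zWB_add, neg_add_cancel]; exact add_zero _
  refine iSup₂_le fun n hn => ?_
  rw [vanH_iff a E, Submodule.eq_bot_iff] at hn
  push Not at hn
  obtain ⟨y, hy, hy0⟩ := hn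
  obtain ⟨l, hl⟩ := exists_pow_smul_eq_zero E a (i + 1) hxa y
  induction l generalizing n y with
  | zero => exact absurd (by simpa using hl) hy0
  | succ l ihl =>
    by_cases hxy : x • y = 0
    · obtain ⟨q, hq, rfl⟩ := exists_Hcomp_preimage F a E (g := n + k) (hδ i) (by rwa [add_neg_cancel_right])
        ((hex' i y).1 (by rw [hMap_smul a hx]; exact hxy))
      have hne : ¬ VanH a 𝒩 i (n + k) := fun h => by
        rw [h F, Submodule.mem_bot] at hq
        exact hy0 (by rw [hq, map_zero])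
      calc zWB n = zWB (n + k) + zWB (-k) := by rw [zWB_add, add_neg_cancel_right]
        _ ≤ _ := add_le_add (le_iSup₂ (f := fun (m : ℤ) (_ : ¬ VanH a 𝒩 i m) => zWB m) (n + k) hne) le_rfl
    · exact le_trans (zWB_le (by omega)) (ihl (n + k) (x • y) (smul_mem_Hcomp E a (i + 1) hx hy) hxy
        (by rw [← mul_smul, ← pow_succ]; exact hl))

section CM

variable {R : Type u} [CommRing R] {𝒜 : ℤ → AddSubgroup R} [GradedRing 𝒜]

lemma comp_id_eq_cmp (k : ℤ) (x : R) : GrRing54.comp 𝒜 (AddMonoidHom.id ℤ) k x = cmp 𝒜 k x := by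
  induction x using piece_induction 𝒜 with
  | h0 => simp
  | hadd p q hp hq => rw [map_add, map_add, hp, hq]
  | hp d p hp =>
    rw [GrRing54.comp_of_mem 𝒜 _ hp, AddMonoidHom.id_apply]
    split_ifs with h
    · rw [← h, cmp_of_mem 𝒜 hp]
    · rw [cmp_of_ne 𝒜 hp h]

variable [IsNoetherianRing R] (hpos : NonnegGr 𝒜) {m : HomogeneousIdeal 𝒜} (hm : GrLC.IsStarLocal 𝒜 m)
include hpos hm

lemma isMaximal_star : m.toIdeal.IsMaximal := by
  have ha := isPlus_irrel (R := R) (𝒜 := 𝒜) hpos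
  obtain ⟨hle, hmax⟩ := plus_le_and_isMaximal hpos hm ha
  have key : ∀ x : R, x - cmp 𝒜 0 x ∈ m.toIdeal := fun x => hle (by
    rw [mem_plus_iff hpos ha, map_sub, cmp_of_mem 𝒜 (cmp_mem 𝒜 0 x), sub_self])
  refine Ideal.isMaximal_iff.2 ⟨fun h => hmax.ne_top ((Ideal.eq_top_iff_one _).2 h), fun I x hI hx hxI => ?_⟩
  have h0 : (⟨cmp 𝒜 0 x, cmp_mem 𝒜 0 x⟩ : GrLC.deg0 𝒜) ∉ deg0Part m := fun h => hx (by
    have h' := add_mem (key x) (show cmp 𝒜 0 x ∈ m.toIdeal from h)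
    rwa [sub_add_cancel] at h')
  obtain ⟨c, i, hi, hci⟩ := hmax.exists_inv h0
  have hxI0 : cmp 𝒜 0 x ∈ I := by
    have := sub_mem hxI (hI (key x))
    rwa [sub_sub_cancel] at this
  have h1 : (c : R) * cmp 𝒜 0 x + (i : R) = 1 := congrArg Subtype.val hci
  rw [← h1]
  exact add_mem (I.mul_mem_left _ hxI0) (hI hi)

/-- the dimension is the height of the maximal homogeneous ideal -/
theorem height_star_eq : (m.toIdeal.height : WithBot ℕ∞) = ringKrullDim R := by
  have hmax := isMaximal_star hpos hm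
  refine le_antisymm (Ideal.height_le_ringKrullDim_of_ne_top hmax.ne_top) ?_
  rw [ringKrullDim_le_iff_isMaximal_height_le]
  intro P hP
  rw [WithBot.coe_le_coe]
  set Q := GrRing54.core 𝒜 (AddMonoidHom.id ℤ) P with hQdef
  have hQP : Q ≤ P := GrRing54.core_le 𝒜 _ P
  let QH : HomogeneousIdeal 𝒜 := ⟨Q, fun d y hy => by
    have := GrRing54.comp_mem_core 𝒜 (AddMonoidHom.id ℤ) hy d
    rw [comp_id_eq_cmp] at this
    exact this⟩
  have hQm : Q ≤ m.toIdeal := by
    obtain ⟨n, hn, hle⟩ := exists_le_coatom hpos (I := QH) fun h => hP.ne_top (top_unique (by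
      have h' : Q = ⊤ := congrArg HomogeneousIdeal.toIdeal h
      rwa [h'] at hQP))
    rw [hm.2 n hn] at hle
    exact hle
  rcases hQm.lt_or_eq with hlt | heq
  · exact (GrRing54.height_le_core_add_one 𝒜 (AddMonoidHom.id ℤ) P).trans
      (Ideal.height_add_one_le_of_lt_of_isPrime hlt)
  · rw [← hmax.eq_of_le hP.ne_top (heq ▸ hQP)]

variable [LocCoh.IsCohenMacaulayRing R]

/-- local cohomology of a Cohen–Macaulay ring vanishes below the dimension and not in it -/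
theorem lc_top {d : ℕ} (hd : ringKrullDim R = d) :
    (∀ i, i < d → Subsingleton (LocCoh.H m.toIdeal i R)) ∧ ¬ Subsingleton (LocCoh.H m.toIdeal d R) := by
  have hmax := isMaximal_star hpos hm
  have hh : m.toIdeal.height = (d : ℕ∞) := by
    have := (height_star_eq hpos hm).trans hd
    exact WithBot.coe_eq_coe.1 this
  have hdep : LocCoh.idealDepth m.toIdeal R = d :=
    ((S14424.result R).1 inferInstance m.toIdeal hmax.ne_top).trans hh
  refine ⟨(LC17.natCast_le_idealDepth_iff m.toIdeal R d).1 hdep.ge, fun hsub => ?_⟩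
  have h1 : ((d + 1 : ℕ) : ℕ∞) ≤ LocCoh.idealDepth m.toIdeal R :=
    (LC17.natCast_le_idealDepth_iff m.toIdeal R (d + 1)).2 fun i hi => by
      rcases Nat.lt_succ_iff_lt_or_eq.1 hi with h | rfl
      · exact (LC17.natCast_le_idealDepth_iff m.toIdeal R d).1 hdep.ge i h
      · exact hsub
  rw [hdep] at h1
  norm_cast at h1
  omega

theorem vanH_below {d : ℕ} (hd : ringKrullDim R = d) {i : ℕ} (hi : i < d) (n : ℤ) : VanH m 𝒜 i n := fun E => by
  obtain ⟨e⟩ := nonempty_H_equiv E m i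
  have := (lc_top hpos hm hd).1 i hi
  have := e.toEquiv.subsingleton
  exact (Submodule.eq_bot_iff _).2 fun y _ => Subsingleton.elim _ _

end CM

end Groth.Agent.GrMod19
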