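import Groth.Agent.GrMod19.Res

/-! Comparison of resolutions by injective objects of the graded category; functoriality of graded local cohomology. -/

universe u

open DirectSum

namespace Groth.Agent.GrMod19

variable {ι : Type} [AddCommGroup ι] [DecidableEq ι]
variable {R : Type u} [CommRing R] {σ : Type u} [SetLike σ R] [AddSubgroupClass σ R] {𝒜 : ι → σ} [GradedRing 𝒜]

section Factor

variable {M : Type u} [AddCommGroup M] [Module R M] {τ : Type u} [SetLike τ M] [AddSubgroupClass τ M]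
  {ℳ : ι → τ} [Decomposition ℳ]
  {I : Type u} [AddCommGroup I] [Module R I] {τ' : Type u} [SetLike τ' I] [AddSubgroupClass τ' I]
  {ℐ : ι → τ'} [Decomposition ℐ] [SetLike.GradedSMul 𝒜 ℐ]

/-- a homogeneous map killing the kernel of a homogeneous map factors through it -/
lemma exists_factor (hI : GrLC.IsStarInj 𝒜 ℐ) (Y : GrLC.GMod.{u} 𝒜) {e d : ι} (ψ : M →ₗ[R] Y.carrier)
    (hψ : GrLC.IsGrHomDeg ℳ Y.gr ψ e) (φ : M →ₗ[R] I) (hφ : GrLC.IsGrHomDeg ℳ ℐ φ d)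
    (hker : LinearMap.ker ψ ≤ LinearMap.ker φ) :
    ∃ h : Y.carrier →ₗ[R] I, GrLC.IsGrHomDeg Y.gr ℐ h (d - e) ∧ h ∘ₗ ψ = φ := by
  have hP : (LinearMap.range ψ).IsHomogeneous Y.gr := by
    rintro g _ ⟨x, rfl⟩
    refine ⟨cmp ℳ (g - e) x, ?_⟩
    have := map_cmp_deg ℳ Y.gr hψ (g - e) x
    rwa [sub_add_cancel] at this
  let A := sub (𝒜 := 𝒜) Y.gr (LinearMap.range ψ) hP
  let φ' : A.carrier →ₗ[R] I := (LinearMap.ker ψ).liftQ φ hker ∘ₗ ψ.quotKerEquivRange.symm.toLinearMap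
  have hφ' : ∀ x : M, ((LinearMap.ker ψ).liftQ φ hker ∘ₗ ψ.quotKerEquivRange.symm.toLinearMap)
      ⟨ψ x, LinearMap.mem_range_self ψ x⟩ = φ x := by
    intro x
    rw [LinearMap.comp_apply, LinearEquiv.coe_coe, LinearMap.quotKerEquivRange_symm_apply_image]
    exact Submodule.liftQ_apply _ _ _
  obtain ⟨h, hh, hhf⟩ := exists_extend hI A Y (LinearMap.range ψ).subtype (sub_subtype_grHom Y.gr _ hP)
    (Submodule.injective_subtype _) φ' (d - e) (by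
      rintro g ⟨y, hy⟩ hy'
      obtain ⟨x, rfl⟩ := hy
      have he : ψ (cmp ℳ (g - e) x) = ψ x := by
        have := map_cmp_deg ℳ Y.gr hψ (g - e) x
        rwa [sub_add_cancel, cmp_of_mem Y.gr (show ψ x ∈ Y.gr g from hy')] at this
      have h1 : φ' ⟨ψ x, LinearMap.mem_range_self ψ x⟩ = φ (cmp ℳ (g - e) x) := by
        rw [← hφ' (cmp ℳ (g - e) x)]
        exact congrArg _ (Subtype.ext he.symm)
      show φ' ⟨ψ x, _⟩ ∈ ℐ (g + (d - e))
      rw [h1, show g + (d - e) = g - e + d by abel]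
      exact hφ _ _ (cmp_mem ℳ _ _))
  exact ⟨h, hh, LinearMap.ext fun x => (LinearMap.congr_fun hhf ⟨ψ x, LinearMap.mem_range_self ψ x⟩).trans (hφ' x)⟩

/-- degree zero source map -/
lemma exists_factor₀ (hI : GrLC.IsStarInj 𝒜 ℐ) (Y : GrLC.GMod.{u} 𝒜) {d : ι} (ψ : M →ₗ[R] Y.carrier)
    (hψ : GrLC.IsGrHom ℳ Y.gr ψ) (φ : M →ₗ[R] I) (hφ : GrLC.IsGrHomDeg ℳ ℐ φ d)
    (hker : LinearMap.ker ψ ≤ LinearMap.ker φ) :
    ∃ h : Y.carrier →ₗ[R] I, GrLC.IsGrHomDeg Y.gr ℐ h d ∧ h ∘ₗ ψ = φ := by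
  obtain ⟨h, hh, hhf⟩ := exists_factor hI Y (e := 0) ψ (fun g m hm => by simpa using hψ g m hm) φ hφ hker
  exact ⟨h, by rwa [sub_zero] at hh, hhf⟩

end Factor

lemma IsGrHomDeg.comp {M N P : Type u} [AddCommGroup M] [Module R M] [AddCommGroup N] [Module R N]
    [AddCommGroup P] [Module R P] {τ₁ τ₂ τ₃ : Type u} [SetLike τ₁ M] [AddSubgroupClass τ₁ M]
    [SetLike τ₂ N] [AddSubgroupClass τ₂ N] [SetLike τ₃ P] [AddSubgroupClass τ₃ P]
    {ℳ : ι → τ₁} {𝒩 : ι → τ₂} {𝒬 : ι → τ₃} {f : M →ₗ[R] N} {g : N →ₗ[R] P} {d e : ι}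
    (hg : GrLC.IsGrHomDeg 𝒩 𝒬 g e) (hf : GrLC.IsGrHomDeg ℳ 𝒩 f d) :
    GrLC.IsGrHomDeg ℳ 𝒬 (g ∘ₗ f) (d + e) := fun i m hm => by
  rw [← add_assoc]
  exact hg _ _ (hf i m hm)

lemma isGrHomDeg_zero_iff {M N : Type u} [AddCommGroup M] [Module R M] [AddCommGroup N] [Module R N]
    {τ₁ τ₂ : Type u} [SetLike τ₁ M] [AddSubgroupClass τ₁ M] [SetLike τ₂ N] [AddSubgroupClass τ₂ N]
    {ℳ : ι → τ₁} {𝒩 : ι → τ₂} {f : M →ₗ[R] N} : GrLC.IsGrHomDeg ℳ 𝒩 f 0 ↔ GrLC.IsGrHom ℳ 𝒩 f := by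
  simp [GrLC.IsGrHomDeg, GrLC.IsGrHom]

variable {M : Type u} [AddCommGroup M] [Module R M] {τ : Type u} [SetLike τ M] [AddSubgroupClass τ M]
  {ℳ : ι → τ} [Decomposition ℳ] [SetLike.GradedSMul 𝒜 ℳ] (E : GrLC.StarInjRes 𝒜 ℳ)
  {N : Type u} [AddCommGroup N] [Module R N] {τ' : Type u} [SetLike τ' N] [AddSubgroupClass τ' N]
  {𝒩 : ι → τ'} [Decomposition 𝒩] [SetLike.GradedSMul 𝒜 𝒩] (F : GrLC.StarInjRes 𝒜 𝒩)
  {L : Type u} [AddCommGroup L] [Module R L] {τ'' : Type u} [SetLike τ'' L] [AddSubgroupClass τ'' L]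
  {ℒ : ι → τ''} [Decomposition ℒ] [SetLike.GradedSMul 𝒜 ℒ] (G : GrLC.StarInjRes 𝒜 ℒ)

omit [SetLike.GradedSMul 𝒜 ℳ] in
lemma d_comp_d [SetLike.GradedSMul 𝒜 ℳ] (E : GrLC.StarInjRes 𝒜 ℳ) (n : ℕ) (x : (E.X n).carrier) :
    E.d (n + 1) (E.d n x) = 0 := by
  have : E.d n x ∈ LinearMap.ker (E.d (n + 1)) := by rw [E.exact_succ]; exact LinearMap.mem_range_self _ x
  exact this

lemma d_comp_ε (E : GrLC.StarInjRes 𝒜 ℳ) (m : M) : E.d 0 (E.ε m) = 0 := by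
  have : E.ε m ∈ LinearMap.ker (E.d 0) := by rw [E.exact_zero]; exact LinearMap.mem_range_self _ m
  exact this

/-- a homogeneous chain map over `f` -/
structure ChainMap (f : M →ₗ[R] N) (d : ι) where
  map : ∀ n, (E.X n).carrier →ₗ[R] (F.X n).carrier
  deg : ∀ n, GrLC.IsGrHomDeg (E.X n).gr (F.X n).gr (map n) d
  comm : ∀ n x, F.d n (map n x) = map (n + 1) (E.d n x)
  aug : ∀ m, map 0 (E.ε m) = F.ε (f m)

/-- the recursion datum for lifting -/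
def LiftData (d : ι) (n : ℕ) : Type u :=
  {φ : (E.X n).carrier →ₗ[R] (F.X n).carrier //
    GrLC.IsGrHomDeg (E.X n).gr (F.X n).gr φ d ∧ LinearMap.ker (E.d n) ≤ LinearMap.ker (F.d n ∘ₗ φ)}

lemma exists_lift_next {d : ι} {n : ℕ} (p : LiftData E F d n) :
    ∃ φ : (E.X (n + 1)).carrier →ₗ[R] (F.X (n + 1)).carrier,
      GrLC.IsGrHomDeg (E.X (n + 1)).gr (F.X (n + 1)).gr φ d ∧ φ ∘ₗ E.d n = F.d n ∘ₗ p.1 ∧
        LinearMap.ker (E.d (n + 1)) ≤ LinearMap.ker (F.d (n + 1) ∘ₗ φ) := by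
  obtain ⟨φ, hφ, hcomm⟩ := exists_factor₀ (F.starInj (n + 1)) (E.X (n + 1)) (d := d) (E.d n) (E.d_grHom n)
    (F.d n ∘ₗ p.1) (fun g m hm => F.d_grHom n _ _ (p.2.1 g m hm)) p.2.2
  refine ⟨φ, hφ, hcomm, ?_⟩
  rw [E.exact_succ]
  rintro _ ⟨x, rfl⟩
  rw [LinearMap.mem_ker, LinearMap.comp_apply, ← LinearMap.comp_apply φ, hcomm, LinearMap.comp_apply, d_comp_d]

lemma exists_lift_zero (f : M →ₗ[R] N) {d : ι} (hf : GrLC.IsGrHomDeg ℳ 𝒩 f d) :
    ∃ φ : (E.X 0).carrier →ₗ[R] (F.X 0).carrier,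
      GrLC.IsGrHomDeg (E.X 0).gr (F.X 0).gr φ d ∧ φ ∘ₗ E.ε = F.ε ∘ₗ f ∧
        LinearMap.ker (E.d 0) ≤ LinearMap.ker (F.d 0 ∘ₗ φ) := by
  obtain ⟨φ, hφ, hcomm⟩ := exists_factor₀ (F.starInj 0) (E.X 0) (d := d) E.ε E.ε_grHom
    (F.ε ∘ₗ f) (fun g m hm => F.ε_grHom _ _ (hf g m hm))
    (by rw [LinearMap.ker_eq_bot.2 E.ε_injective]; exact bot_le)
  refine ⟨φ, hφ, hcomm, ?_⟩
  rw [E.exact_zero]
  rintro _ ⟨x, rfl⟩
  rw [LinearMap.mem_ker, LinearMap.comp_apply, ← LinearMap.comp_apply φ, hcomm, LinearMap.comp_apply, d_comp_ε]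

/-- the lifts, degree by degree -/
noncomputable def liftData (f : M →ₗ[R] N) {d : ι} (hf : GrLC.IsGrHomDeg ℳ 𝒩 f d) : ∀ n, LiftData E F d n
  | 0 => ⟨(exists_lift_zero E F f hf).choose, (exists_lift_zero E F f hf).choose_spec.1,
      (exists_lift_zero E F f hf).choose_spec.2.2⟩
  | n + 1 => ⟨(exists_lift_next E F (liftData f hf n)).choose, (exists_lift_next E F (liftData f hf n)).choose_spec.1,
      (exists_lift_next E F (liftData f hf n)).choose_spec.2.2⟩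

/-- every homogeneous map lifts -/
noncomputable def lift (f : M →ₗ[R] N) {d : ι} (hf : GrLC.IsGrHomDeg ℳ 𝒩 f d) : ChainMap E F f d where
  map n := (liftData E F f hf n).1
  deg n := (liftData E F f hf n).2.1
  comm n x := (LinearMap.congr_fun (exists_lift_next E F (liftData E F f hf n)).choose_spec.2.1 x).symm
  aug m := LinearMap.congr_fun (exists_lift_zero E F f hf).choose_spec.2.1 m

variable {E F G}

namespace ChainMap

/-- composition -/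
def comp {f : M →ₗ[R] N} {g : N →ₗ[R] L} {d e : ι} (ψ : ChainMap F G g e) (φ : ChainMap E F f d) :
    ChainMap E G (g ∘ₗ f) (d + e) where
  map n := ψ.map n ∘ₗ φ.map n
  deg n := IsGrHomDeg.comp (ψ.deg n) (φ.deg n)
  comm n x := by rw [LinearMap.comp_apply, ψ.comm, φ.comm]; rfl
  aug m := by rw [LinearMap.comp_apply, φ.aug, ψ.aug]; rfl

variable (E) in
/-- multiplication by a homogeneous element -/
def smul {r : R} {k : ι} (hr : r ∈ 𝒜 k) : ChainMap E E (r • LinearMap.id) k where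
  map n := r • LinearMap.id
  deg n g m hm := by
    rw [LinearMap.smul_apply, LinearMap.id_apply, add_comm]
    exact smul_mem_add 𝒜 (E.X n).gr hr hm
  comm n x := by simp
  aug m := by simp

variable (E) in
/-- the identity -/
def id : ChainMap E E LinearMap.id 0 where
  map n := LinearMap.id
  deg n g m hm := by rwa [add_zero]
  comm n x := rfl
  aug m := rfl

variable (a : HomogeneousIdeal 𝒜) {f : M →ₗ[R] N} {d : ι} (φ : ChainMap E F f d)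

omit [DecidableEq ι] in
lemma map_gam {X Y : Type u} [AddCommGroup X] [Module R X] [AddCommGroup Y] [Module R Y] (h : X →ₗ[R] Y)
    (J : Ideal R) {x : X} (hx : x ∈ GrLC.gam J X) : h x ∈ GrLC.gam J Y := by
  obtain ⟨k, hk⟩ := hx
  exact ⟨k, fun r hr => by rw [← map_smul, hk r hr, map_zero]⟩

lemma map_cocyc (i : ℕ) {z : (E.X i).carrier} (hz : z ∈ E.cocyc a i) : φ.map i z ∈ F.cocyc a i := by
  refine ⟨map_gam (φ.map i) _ hz.1, ?_⟩
  show F.d i (φ.map i z) = 0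
  rw [φ.comm, show E.d i z = 0 from hz.2, map_zero]

/-- the induced map on graded local cohomology -/
noncomputable def H (i : ℕ) : E.H a i →ₗ[R] F.H a i :=
  Submodule.liftQ _ (F.toH a i ∘ₗ (φ.map i).restrict fun _ hz => φ.map_cocyc a i hz) (by
    intro z hz
    rw [LinearMap.mem_ker, LinearMap.comp_apply]
    refine (Submodule.Quotient.mk_eq_zero _).2 ?_
    show φ.map i (z : (E.X i).carrier) ∈ F.cobdy a i
    cases i with
    | zero =>
      rw [show (z : (E.X 0).carrier) = 0 from hz, map_zero]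
      exact zero_mem _
    | succ n =>
      obtain ⟨w, hw, hwz⟩ := hz
      exact ⟨φ.map n w, map_gam (φ.map n) _ hw, by rw [φ.comm, hwz]; rfl⟩)

lemma H_toH (i : ℕ) (z : E.cocyc a i) :
    φ.H a i (E.toH a i z) = F.toH a i ⟨φ.map i z, φ.map_cocyc a i z.2⟩ := rfl

lemma H_deg (i : ℕ) : GrLC.IsGrHomDeg (E.Hgr a i) (F.Hgr a i) (φ.H a i) d := by
  rintro g _ ⟨z, hz, rfl⟩
  exact ⟨⟨φ.map i z, φ.map_cocyc a i z.2⟩, φ.deg i g _ hz, rfl⟩

end ChainMap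

/-- the recursion datum for homotopies -/
def HtpyData {f : M →ₗ[R] N} {d : ι} (φ φ' : ChainMap E F f d) (n : ℕ) : Type u :=
  {s : (E.X (n + 1)).carrier →ₗ[R] (F.X n).carrier //
    GrLC.IsGrHomDeg (E.X (n + 1)).gr (F.X n).gr s d ∧
      LinearMap.ker (E.d (n + 1)) ≤ LinearMap.ker (φ.map (n + 1) - φ'.map (n + 1) - F.d n ∘ₗ s)}

variable {f : M →ₗ[R] N} {d : ι} (φ φ' : ChainMap E F f d)

lemma exists_htpy_zero : ∃ s : (E.X 1).carrier →ₗ[R] (F.X 0).carrier,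
    GrLC.IsGrHomDeg (E.X 1).gr (F.X 0).gr s d ∧ s ∘ₗ E.d 0 = φ.map 0 - φ'.map 0 ∧
      LinearMap.ker (E.d 1) ≤ LinearMap.ker (φ.map 1 - φ'.map 1 - F.d 0 ∘ₗ s) := by
  obtain ⟨s, hs, hcomm⟩ := exists_factor₀ (F.starInj 0) (E.X 1) (d := d) (E.d 0) (E.d_grHom 0)
    (φ.map 0 - φ'.map 0) (fun g m hm => sub_mem (φ.deg 0 g m hm) (φ'.deg 0 g m hm)) (by
      rw [E.exact_zero]
      rintro _ ⟨m, rfl⟩
      rw [LinearMap.mem_ker, LinearMap.sub_apply, φ.aug, φ'.aug, sub_self])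
  refine ⟨s, hs, hcomm, ?_⟩
  rw [E.exact_succ]
  rintro _ ⟨x, rfl⟩
  rw [LinearMap.mem_ker, LinearMap.sub_apply, LinearMap.sub_apply, LinearMap.comp_apply,
    show s (E.d 0 x) = φ.map 0 x - φ'.map 0 x from LinearMap.congr_fun hcomm x, map_sub, φ.comm, φ'.comm, sub_self]

lemma exists_htpy_next {n : ℕ} (p : HtpyData φ φ' n) : ∃ s : (E.X (n + 2)).carrier →ₗ[R] (F.X (n + 1)).carrier,
    GrLC.IsGrHomDeg (E.X (n + 2)).gr (F.X (n + 1)).gr s d ∧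
      s ∘ₗ E.d (n + 1) = φ.map (n + 1) - φ'.map (n + 1) - F.d n ∘ₗ p.1 ∧
      LinearMap.ker (E.d (n + 2)) ≤ LinearMap.ker (φ.map (n + 2) - φ'.map (n + 2) - F.d (n + 1) ∘ₗ s) := by
  obtain ⟨s, hs, hcomm⟩ := exists_factor₀ (F.starInj (n + 1)) (E.X (n + 2)) (d := d) (E.d (n + 1)) (E.d_grHom (n + 1))
    (φ.map (n + 1) - φ'.map (n + 1) - F.d n ∘ₗ p.1)
    (fun g m hm => sub_mem (sub_mem (φ.deg _ g m hm) (φ'.deg _ g m hm)) (F.d_grHom n _ _ (p.2.1 g m hm))) p.2.2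
  refine ⟨s, hs, hcomm, ?_⟩
  rw [E.exact_succ]
  rintro _ ⟨x, rfl⟩
  rw [LinearMap.mem_ker, LinearMap.sub_apply, LinearMap.sub_apply, LinearMap.comp_apply,
    show s (E.d (n + 1) x) = φ.map (n + 1) x - φ'.map (n + 1) x - F.d n (p.1 x) from LinearMap.congr_fun hcomm x,
    map_sub, map_sub, φ.comm, φ'.comm, d_comp_d, sub_zero, sub_self]

/-- the homotopies -/
noncomputable def htpyData : ∀ n, HtpyData φ φ' n
  | 0 => ⟨(exists_htpy_zero φ φ').choose, (exists_htpy_zero φ φ').choose_spec.1,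
      (exists_htpy_zero φ φ').choose_spec.2.2⟩
  | n + 1 => ⟨(exists_htpy_next φ φ' (htpyData n)).choose, (exists_htpy_next φ φ' (htpyData n)).choose_spec.1,
      (exists_htpy_next φ φ' (htpyData n)).choose_spec.2.2⟩

theorem ChainMap.H_eq (a : HomogeneousIdeal 𝒜) (i : ℕ) : φ.H a i = φ'.H a i := by
  refine Submodule.linearMap_qext _ (LinearMap.ext fun z => ?_)
  show φ.H a i (E.toH a i z) = φ'.H a i (E.toH a i z)
  rw [ChainMap.H_toH, ChainMap.H_toH, ← sub_eq_zero, ← map_sub]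
  refine (Submodule.Quotient.mk_eq_zero _).2 ?_
  show φ.map i z - φ'.map i z ∈ F.cobdy a i
  have hz : E.d i z = 0 := z.2.2
  cases i with
  | zero =>
    have := LinearMap.congr_fun (exists_htpy_zero φ φ').choose_spec.2.1 (z : (E.X 0).carrier)
    rw [LinearMap.comp_apply, hz, map_zero, LinearMap.sub_apply] at this
    rw [← this]
    exact zero_mem _
  | succ n =>
    have := LinearMap.congr_fun (exists_htpy_next φ φ' (htpyData φ φ' n)).choose_spec.2.1 (z : (E.X (n + 1)).carrier)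
    rw [LinearMap.comp_apply, hz, map_zero, LinearMap.sub_apply, LinearMap.sub_apply, LinearMap.comp_apply, eq_comm,
      sub_eq_zero] at this
    rw [this]
    exact ⟨_, ChainMap.map_gam _ _ z.2.1, rfl⟩

variable (E F) in
/-- the map on graded local cohomology induced by a homogeneous map -/
noncomputable def hMap (a : HomogeneousIdeal 𝒜) (f : M →ₗ[R] N) {d : ι} (hf : GrLC.IsGrHomDeg ℳ 𝒩 f d) (i : ℕ) :
    E.H a i →ₗ[R] F.H a i :=
  (lift E F f hf).H a i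

variable (a : HomogeneousIdeal 𝒜)

lemma hMap_eq (hf : GrLC.IsGrHomDeg ℳ 𝒩 f d) (i : ℕ) : hMap E F a f hf i = φ.H a i := ChainMap.H_eq _ _ a i

lemma hMap_deg (hf : GrLC.IsGrHomDeg ℳ 𝒩 f d) (i : ℕ) :
    GrLC.IsGrHomDeg (E.Hgr a i) (F.Hgr a i) (hMap E F a f hf i) d :=
  (lift E F f hf).H_deg a i

lemma hMap_comp {g : N →ₗ[R] L} {e : ι} (hf : GrLC.IsGrHomDeg ℳ 𝒩 f d) (hg : GrLC.IsGrHomDeg 𝒩 ℒ g e) (i : ℕ) :
    hMap F G a g hg i ∘ₗ hMap E F a f hf i = hMap E G a (g ∘ₗ f) (IsGrHomDeg.comp hg hf) i := by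
  rw [hMap_eq ((lift F G g hg).comp (lift E F f hf)) a]
  exact Submodule.linearMap_qext _ rfl

lemma hMap_smul {r : R} {k : ι} (hr : r ∈ 𝒜 k) (h : GrLC.IsGrHomDeg ℳ ℳ (r • LinearMap.id) k) (i : ℕ) :
    hMap E E a (r • LinearMap.id) h i = r • LinearMap.id := by
  rw [hMap_eq (ChainMap.smul E hr) a]
  refine Submodule.linearMap_qext _ (LinearMap.ext fun z => ?_)
  exact congrArg (E.toH a i) (Subtype.ext rfl)

lemma hMap_congr {f' : M →ₗ[R] N} {d' : ι} (hff : f = f') (hdd : d = d') (hf : GrLC.IsGrHomDeg ℳ 𝒩 f d)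
    (hf' : GrLC.IsGrHomDeg ℳ 𝒩 f' d') (i : ℕ) : hMap E F a f hf i = hMap E F a f' hf' i := by
  subst hff hdd; rfl

lemma hMap_id (h : GrLC.IsGrHomDeg ℳ ℳ LinearMap.id 0) (i : ℕ) : hMap E E a LinearMap.id h i = LinearMap.id := by
  rw [hMap_eq (ChainMap.id E) a]
  exact Submodule.linearMap_qext _ rfl

variable (E F) in
/-- inverse homogeneous maps induce inverse maps -/
noncomputable def hEquiv (a : HomogeneousIdeal 𝒜) (e : M ≃ₗ[R] N) {d d' : ι}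
    (he : GrLC.IsGrHomDeg ℳ 𝒩 e.toLinearMap d) (he' : GrLC.IsGrHomDeg 𝒩 ℳ e.symm.toLinearMap d')
    (hdd : d + d' = 0) (i : ℕ) : E.H a i ≃ₗ[R] F.H a i :=
  LinearEquiv.ofLinearMap (hMap E F a e.toLinearMap he i) (hMap F E a e.symm.toLinearMap he' i)
    (by
      rw [hMap_comp, hMap_congr a (f' := LinearMap.id) (d' := 0) e.comp_symm (by rw [add_comm, hdd]) _
        (fun g m hm => by rwa [add_zero]), hMap_id])
    (by
      rw [hMap_comp, hMap_congr a (f' := LinearMap.id) (d' := 0) e.symm_comp hdd _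
        (fun g m hm => by rwa [add_zero]), hMap_id])

end Groth.Agent.GrMod19
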