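import Groth.Agent.GrMod19.Les
import Groth.Agent.GrMod19.Positive
import Groth.Agent.GrInj18.Res
import Groth.Agent.LC15.Cd

/-! Graded local cohomology with respect to the irrelevant ideal of a positively graded ring. -/

universe u

open DirectSum

namespace Groth.Agent.GrMod19

section General

variable {ι : Type} [AddCommGroup ι] [DecidableEq ι]
variable {R : Type u} [CommRing R] {σ : Type u} [SetLike σ R] [AddSubgroupClass σ R] {𝒜 : ι → σ} [GradedRing 𝒜]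
variable {M : Type u} [AddCommGroup M] [Module R M] {τ : Type u} [SetLike τ M] [AddSubgroupClass τ M]
  {ℳ : ι → τ} [Decomposition ℳ] [SetLike.GradedSMul 𝒜 ℳ] (E : GrLC.StarInjRes 𝒜 ℳ) (a : HomogeneousIdeal 𝒜)

/-- the torsion part maps onto `H⁰` -/
noncomputable def zeroMap : GrLC.gam a.toIdeal M →ₗ[R] E.H a 0 :=
  E.toH a 0 ∘ₗ LinearMap.codRestrict _ (E.ε ∘ₗ (GrLC.gam a.toIdeal M).subtype)
    fun m => ⟨ChainMap.map_gam E.ε _ m.2, d_comp_ε E m⟩

lemma zeroMap_injective : Function.Injective (zeroMap E a) := by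
  intro x y h
  have h' := (Submodule.Quotient.eq _).1 h
  refine Subtype.ext (E.ε_injective (sub_eq_zero.1 ?_))
  exact h'

lemma exists_zeroMap_of_mem {g : ι} {x : E.H a 0} (hx : x ∈ E.Hcomp a 0 g) :
    ∃ m : GrLC.gam a.toIdeal M, (m : M) ∈ ℳ g ∧ zeroMap E a m = x := by
  obtain ⟨⟨z, hz1, hz2⟩, hz, rfl⟩ := hx
  rw [E.exact_zero] at hz2
  obtain ⟨m, rfl⟩ := hz2
  have hm : m ∈ GrLC.gam a.toIdeal M := by
    obtain ⟨k, hk⟩ := hz1
    exact ⟨k, fun r hr => E.ε_injective (by rw [map_smul, hk r hr, map_zero])⟩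
  refine ⟨⟨m, hm⟩, ?_, rfl⟩
  have h1 : cmp ℳ g m = m := E.ε_injective (by
    rw [map_cmp ℳ (E.X 0).gr E.ε_grHom]
    exact cmp_of_mem _ hz)
  exact (h1 ▸ cmp_mem ℳ g m : m ∈ ℳ g)

lemma zeroMap_mem {g : ι} {m : GrLC.gam a.toIdeal M} (hm : (m : M) ∈ ℳ g) :
    zeroMap E a m ∈ E.Hcomp a 0 g := ⟨_, E.ε_grHom g _ hm, rfl⟩

lemma Hcomp_zero_eq_bot {g : ι} (h : ∀ m ∈ GrLC.gam a.toIdeal M, m ∈ ℳ g → m = 0) : E.Hcomp a 0 g = ⊥ := by
  refine (Submodule.eq_bot_iff _).2 fun x hx => ?_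
  obtain ⟨m, hm, rfl⟩ := exists_zeroMap_of_mem E a hx
  rw [show m = 0 from Subtype.ext (h m m.2 hm), map_zero]

lemma Hcomp_eq_bot_iff {i : ℕ} {g : ι} : E.Hcomp a i g = ⊥ ↔ E.Hgr a i g = ⊥ := by
  rw [Submodule.eq_bot_iff, AddSubgroup.eq_bot_iff_forall]
  exact Iff.rfl

lemma fg_of_le_fg {S : Type*} [CommRing S] [IsNoetherianRing S] {N : Type*} [AddCommGroup N] [Module S N]
    {P Q : Submodule S N} (h : P ≤ Q) (hQ : Q.FG) : P.FG := by
  have := isNoetherian_of_fg_of_noetherian Q hQ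
  rw [← Submodule.map_comap_eq_self (show P ≤ LinearMap.range Q.subtype by rwa [Submodule.range_subtype])]
  exact (IsNoetherian.noetherian _).map _

lemma fg_Hcomp_zero [IsNoetherianRing (GrLC.deg0 𝒜)] {g : ι} (hfg : (GrLC.comp 𝒜 ℳ g).FG) :
    (E.Hcomp a 0 g).FG := by
  let Γ := GrLC.gam a.toIdeal M
  let P : Submodule (GrLC.deg0 𝒜) Γ := (GrLC.comp 𝒜 ℳ g).comap (Γ.subtype.restrictScalars (GrLC.deg0 𝒜))
  have hP : P.FG := by
    refine Submodule.fg_of_fg_map_injective _ (show Function.Injective (Γ.subtype.restrictScalars (GrLC.deg0 𝒜)) from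
      Γ.injective_subtype) (fg_of_le_fg (Submodule.map_comap_le _ _) hfg)
  have h : P.map ((zeroMap E a).restrictScalars (GrLC.deg0 𝒜)) = E.Hcomp a 0 g := by
    refine le_antisymm ?_ fun x hx => ?_
    · rintro _ ⟨m, hm, rfl⟩
      exact zeroMap_mem E a hm
    · obtain ⟨m, hm, rfl⟩ := exists_zeroMap_of_mem E a hx
      exact ⟨m, hm, rfl⟩
  rw [← h]
  exact hP.map _

lemma subsingleton_H_of_torsion [IsNoetherianRing R] (hM : LocCoh.IsPowerTorsion a.toIdeal M) {i : ℕ} (hi : 0 < i) :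
    Subsingleton (E.H a i) := by
  obtain ⟨e⟩ := nonempty_H_equiv E a i
  have := LC15.subsingleton_H_of_powerTorsion a.toIdeal hM hi
  exact e.toEquiv.subsingleton

lemma exists_uniform [IsNoetherianRing R] : ∃ d, ∀ i, d < i → Subsingleton (E.H a i) := by
  obtain ⟨d, hd⟩ := LC15.exists_cdLE a.toIdeal
  refine ⟨d, fun i hi => ?_⟩
  obtain ⟨e⟩ := nonempty_H_equiv E a i
  have := hd M i hi
  exact e.toEquiv.subsingleton

omit [DecidableEq ι] in
lemma isPowerTorsion_gam (J : Ideal R) : LocCoh.IsPowerTorsion J (GrLC.gam J M) := fun m => by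
  obtain ⟨k, hk⟩ := m.2
  exact ⟨k, fun r hr => Subtype.ext (hk r hr)⟩

omit [DecidableEq ι] in
lemma gam_quot_gam_eq_bot [IsNoetherianRing R] (J : Ideal R) :
    GrLC.gam J (M ⧸ GrLC.gam J M) = ⊥ := by
  refine (Submodule.eq_bot_iff _).2 fun x hx => ?_
  obtain ⟨m, rfl⟩ := Submodule.mkQ_surjective _ x
  obtain ⟨k, hk⟩ := hx
  obtain ⟨s, hs⟩ := (IsNoetherian.noetherian (J ^ k) : Submodule.FG _)
  have hmem : ∀ r ∈ s, r • m ∈ GrLC.gam J M := fun r hr =>
    (Submodule.Quotient.mk_eq_zero _).1 (hk r (hs ▸ Submodule.subset_span hr))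
  choose l hl using hmem
  let L := s.attach.sup fun r => l r.1 r.2
  refine (Submodule.Quotient.mk_eq_zero _).2 ⟨L + k, fun r hr => ?_⟩
  rw [pow_add] at hr
  induction hr using Submodule.mul_induction_on' with
  | mem_mul_mem p hp q hq =>
    have hq' : q • m ∈ ({m' | ∀ p ∈ J ^ L, p • m' = 0} : Set M) := by
      rw [← hs] at hq
      induction hq using Submodule.span_induction with
      | mem r hr =>
        intro p hp
        exact hl r hr p (Ideal.pow_le_pow_right (Finset.le_sup (f := fun r : {x // x ∈ s} => l r.1 r.2)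
          (Finset.mem_attach _ ⟨r, hr⟩)) hp)
      | zero => intro p _; rw [zero_smul, smul_zero]
      | add u v _ _ hu hv => intro p hp; rw [add_smul, smul_add, hu p hp, hv p hp, add_zero]
      | smul c u _ hu => intro p hp; rw [smul_eq_mul, mul_smul, smul_comm, hu p hp, smul_zero]
    rw [mul_smul]
    exact hq' p hp
  | add u _ v _ hu hv => rw [add_smul, hu, hv, add_zero]

lemma exists_pow_smul_eq_zero (i : ℕ) {x : R} (hx : x ∈ a.toIdeal) (y : E.H a i) : ∃ l : ℕ, x ^ l • y = 0 := by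
  obtain ⟨z, rfl⟩ := Submodule.mkQ_surjective _ y
  obtain ⟨l, hl⟩ := z.2.1
  refine ⟨l, ?_⟩
  show x ^ l • E.toH a i z = 0
  rw [← map_smul, show x ^ l • z = 0 from Subtype.ext (hl _ (Ideal.pow_mem_pow hx l)), map_zero]

lemma smul_mem_Hcomp (i : ℕ) {g k : ι} {x : R} (hx : x ∈ 𝒜 k) {y : E.H a i} (hy : y ∈ E.Hcomp a i g) :
    x • y ∈ E.Hcomp a i (g + k) := by
  obtain ⟨z, hz, rfl⟩ := hy
  refine ⟨x • z, ?_, map_smul _ _ _⟩
  rw [add_comm]
  exact smul_mem_add 𝒜 (E.X i).gr hx hz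

variable {N : Type u} [AddCommGroup N] [Module R N] {τ' : Type u} [SetLike τ' N] [AddSubgroupClass τ' N]
  {𝒩 : ι → τ'} [Decomposition 𝒩] [SetLike.GradedSMul 𝒜 𝒩] (F : GrLC.StarInjRes 𝒜 𝒩)

/-- a homogeneous preimage on local cohomology -/
lemma exists_Hcomp_preimage {i j : ℕ} {d : ι} {φ : E.H a i →ₗ[R] F.H a j}
    (hφ : GrLC.IsGrHomDeg (E.Hgr a i) (F.Hgr a j) φ d) {g : ι} {y : F.H a j} (hy : y ∈ F.Hcomp a j (g + d))
    (hr : y ∈ LinearMap.range φ) : ∃ x ∈ E.Hcomp a i g, φ x = y := by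
  let := (isInternal_Hgr E a i).chooseDecomposition
  let := (isInternal_Hgr F a j).chooseDecomposition
  obtain ⟨x, rfl⟩ := hr
  exact ⟨cmp (E.Hgr a i) g x, cmp_mem (E.Hgr a i) g x, by
    rw [map_cmp_deg _ _ hφ, cmp_of_mem (F.Hgr a j) hy]⟩

end General

section Positive

variable {R : Type u} [CommRing R] [IsNoetherianRing R] {σ : Type u} [SetLike σ R] [AddSubgroupClass σ R]
  {𝒜 : ℤ → σ} [GradedRing 𝒜]

/-- the statement in cohomological degree `i` -/
def HGood (a : HomogeneousIdeal 𝒜) (i : ℕ) : Prop :=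
  ∀ (M : Type u) [AddCommGroup M] [Module R M] [Module.Finite R M] (ℳ : ℤ → AddSubgroup M) [Decomposition ℳ]
    [SetLike.GradedSMul 𝒜 ℳ] (E : GrLC.StarInjRes 𝒜 ℳ),
      (∀ n, (E.Hcomp a i n).FG) ∧ ∃ r : ℤ, ∀ n, r ≤ n → E.Hcomp a i n = ⊥

variable {a : HomogeneousIdeal 𝒜}

/-- the reduction to modules without torsion -/
lemma good_succ_of_torsionfree [IsNoetherianRing (GrLC.deg0 𝒜)] (i : ℕ)
    (h : ∀ (M : Type u) [AddCommGroup M] [Module R M] [Module.Finite R M] (ℳ : ℤ → AddSubgroup M) [Decomposition ℳ]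
      [SetLike.GradedSMul 𝒜 ℳ] (E : GrLC.StarInjRes 𝒜 ℳ), GrLC.gam a.toIdeal M = ⊥ →
        (∀ n, (E.Hcomp a (i + 1) n).FG) ∧ ∃ r : ℤ, ∀ n, r ≤ n → E.Hcomp a (i + 1) n = ⊥) :
    HGood a (i + 1) := by
  intro M _ _ _ ℳ _ _ E
  let Γ := GrLC.gam a.toIdeal M
  have hΓ : Γ.IsHomogeneous ℳ := isHomogeneous_gam ℳ a
  let : Decomposition (GrInj18.subGr ℳ Γ) := (GrInj18.subGr_isInternal ℳ hΓ).chooseDecomposition
  let : Decomposition (GrInj18.quotPieces ℳ Γ) := (GrInj18.quotPieces_isInternal ℳ hΓ).chooseDecomposition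
  obtain ⟨D⟩ := GrInj18.nonempty_starInjRes 𝒜 (GrInj18.subGr ℳ Γ)
  obtain ⟨G⟩ := GrInj18.nonempty_starInjRes 𝒜 (GrInj18.quotPieces ℳ Γ)
  have S : Ses (GrInj18.subGr ℳ Γ) ℳ (GrInj18.quotPieces ℳ Γ) Γ.subtype Γ.mkQ 0 :=
    ⟨isGrHomDeg_zero_iff.2 (GrInj18.isGrHom_subtype ℳ Γ), GrInj18.isGrHom_mkQ ℳ Γ, Γ.injective_subtype,
      LinearMap.exact_subtype_mkQ Γ, Γ.mkQ_surjective⟩
  obtain ⟨δ, -, hex, -, -, -⟩ := exists_les D E G S a
  have := subsingleton_H_of_torsion D a (isPowerTorsion_gam a.toIdeal) (Nat.succ_pos i)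
  set q := hMap E G a Γ.mkQ (isGrHomDeg_zero_iff.2 S.hg) (i + 1) with hq
  have hinj : Function.Injective q := by
    rw [injective_iff_map_eq_zero]
    intro y hy
    obtain ⟨w, rfl⟩ := (hex (i + 1) y).1 hy
    rw [Subsingleton.elim w 0, map_zero]
  have hmem : ∀ n, ∀ y ∈ E.Hcomp a (i + 1) n, q y ∈ G.Hcomp a (i + 1) n := fun n y hy => by
    have h2 := hMap_deg (E := E) (F := G) a (isGrHomDeg_zero_iff.2 S.hg) (i + 1) n y hy
    rwa [add_zero] at h2
  obtain ⟨hfg, r, hr⟩ := h (M ⧸ Γ) (GrInj18.quotPieces ℳ Γ) G (gam_quot_gam_eq_bot a.toIdeal)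
  refine ⟨fun n => ?_, r, fun n hn => (Submodule.eq_bot_iff _).2 fun y hy => hinj ?_⟩
  · refine Submodule.fg_of_fg_map_injective (q.restrictScalars (GrLC.deg0 𝒜)) hinj (fg_of_le_fg ?_ (hfg n))
    rintro _ ⟨y, hy, rfl⟩
    exact hmem n y hy
  · rw [map_zero, ← Submodule.mem_bot (R := GrLC.deg0 𝒜), ← hr n hn]
    exact hmem n y hy

/-- the step along a regular element -/
lemma good_succ_of_regular [IsNoetherianRing (GrLC.deg0 𝒜)] (i : ℕ) (ih : HGood a i)
    (M : Type u) [AddCommGroup M] [Module R M] [Module.Finite R M] (ℳ : ℤ → AddSubgroup M) [Decomposition ℳ]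
    [SetLike.GradedSMul 𝒜 ℳ] (E : GrLC.StarInjRes 𝒜 ℳ) {k : ℤ} {x : R} (hk : 0 < k) (hx : x ∈ 𝒜 k)
    (hxa : x ∈ a.toIdeal) (hreg : IsSMulRegular M x) :
    (∀ n, (E.Hcomp a (i + 1) n).FG) ∧ ∃ r : ℤ, ∀ n, r ≤ n → E.Hcomp a (i + 1) n = ⊥ := by
  let f : M →ₗ[R] M := x • LinearMap.id
  have hf : GrLC.IsGrHomDeg ℳ ℳ f k := fun g m hm => by
    rw [add_comm]
    exact smul_mem_add 𝒜 ℳ hx hm
  let P := LinearMap.range f
  have hP : P.IsHomogeneous ℳ := by
    rintro g _ ⟨m, rfl⟩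
    refine ⟨cmp ℳ (g - k) m, ?_⟩
    have := map_cmp_deg ℳ ℳ hf (g - k) m
    rwa [sub_add_cancel] at this
  let : Decomposition (GrInj18.quotPieces ℳ P) := (GrInj18.quotPieces_isInternal ℳ hP).chooseDecomposition
  obtain ⟨G⟩ := GrInj18.nonempty_starInjRes 𝒜 (GrInj18.quotPieces ℳ P)
  have S : Ses ℳ ℳ (GrInj18.quotPieces ℳ P) f P.mkQ k :=
    ⟨hf, GrInj18.isGrHom_mkQ ℳ P, hreg, LinearMap.exact_map_mkQ_range f, P.mkQ_surjective⟩
  obtain ⟨δ, hδ, -, -, hex, -⟩ := exists_les E E G S a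
  obtain ⟨hfg, r, hr⟩ := ih (M ⧸ P) (GrInj18.quotPieces ℳ P) G
  have hker : ∀ n, ∀ y ∈ E.Hcomp a (i + 1) n, x • y = 0 → ∃ q ∈ G.Hcomp a i (n + k), δ i q = y := by
    intro n y hy hxy
    refine exists_Hcomp_preimage G a E (hδ i) (by rwa [add_neg_cancel_right]) ((hex i y).1 ?_)
    rw [hMap_smul a hx]
    exact hxy
  have hvan : ∀ n, r - k ≤ n → E.Hcomp a (i + 1) n = ⊥ := by
    intro n hn
    refine (Submodule.eq_bot_iff _).2 fun y hy => ?_
    obtain ⟨l, hl⟩ := exists_pow_smul_eq_zero E a (i + 1) hxa y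
    induction l generalizing n y with
    | zero => simpa using hl
    | succ l ihl =>
      have hxy : x • y = 0 := ihl (n + k) (by omega) _ (smul_mem_Hcomp E a (i + 1) hx hy)
        (by rw [← mul_smul, ← pow_succ]; exact hl)
      obtain ⟨q, hq, rfl⟩ := hker n y hy hxy
      rw [hr (n + k) (by omega), Submodule.mem_bot] at hq
      rw [hq, map_zero]
  refine ⟨?_, r - k, hvan⟩
  suffices hall : ∀ (j : ℕ) (n : ℤ), r - k - j ≤ n → (E.Hcomp a (i + 1) n).FG from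
    fun n => hall (r - k - n).toNat n (by omega)
  intro j
  induction j with
  | zero =>
    intro n hn
    rw [hvan n (by simpa using hn)]
    exact Submodule.fg_bot
  | succ j ihj =>
    intro n hn
    rcases le_or_gt (r - k - (j : ℤ)) n with h | h
    · exact ihj n h
    refine Submodule.fg_of_fg_map_of_fg_inf_ker
      ((x • LinearMap.id : E.H a (i + 1) →ₗ[R] E.H a (i + 1)).restrictScalars (GrLC.deg0 𝒜)) ?_ ?_
    · refine fg_of_le_fg ?_ (ihj (n + k) (by omega))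
      rintro _ ⟨y, hy, rfl⟩
      exact smul_mem_Hcomp E a (i + 1) hx hy
    · refine fg_of_le_fg ?_ ((hfg (n + k)).map ((δ i).restrictScalars (GrLC.deg0 𝒜)))
      rintro y ⟨hy, hy0⟩
      exact hker n y hy hy0

variable (hpos : NonnegGr 𝒜) (ha : IsPlus a)
include hpos ha

/-- finiteness and vanishing in high degree of graded local cohomology -/
theorem hGood : ∀ i, HGood a i := by
  have := isNoetherianRing_deg0 hpos
  intro i
  induction i with
  | zero =>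
    intro M _ _ _ ℳ _ _ E
    refine ⟨fun n => fg_Hcomp_zero E a (Module.Finite.iff_fg.1 (finite_comp hpos ha ℳ n)), ?_⟩
    have : IsNoetherian R M := isNoetherian_of_isNoetherianRing_of_finite R M
    obtain ⟨r, hr⟩ := exists_bound_of_torsion hpos ha ℳ (GrLC.gam a.toIdeal M) (isHomogeneous_gam ℳ a)
      (IsNoetherian.noetherian _) le_rfl
    exact ⟨r, fun n hn => Hcomp_zero_eq_bot E a fun m hm hmn => hr n hn m hm hmn⟩
  | succ i ih =>
    refine good_succ_of_torsionfree i fun M _ _ _ ℳ _ _ E hM => ?_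
    obtain ⟨k, x, hk, hx, hreg⟩ := exists_regular_homog hpos ha hM
    exact good_succ_of_regular i ih M ℳ E hk hx (mem_plus_of_mem ha hk hx) hreg

/-- vanishing in high degree, uniformly in the cohomological degree -/
theorem exists_Hcomp_eq_bot_of_le {M : Type u} [AddCommGroup M] [Module R M] [Module.Finite R M]
    {ℳ : ℤ → AddSubgroup M} [Decomposition ℳ] [SetLike.GradedSMul 𝒜 ℳ] (E : GrLC.StarInjRes 𝒜 ℳ) :
    ∃ r : ℤ, ∀ i n, r ≤ n → E.Hcomp a i n = ⊥ := by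
  obtain ⟨d, hd⟩ := exists_uniform E a
  choose r hr using fun i => (hGood hpos ha i M ℳ E).2
  obtain ⟨b, hb⟩ := ((Finset.range (d + 1)).image r).exists_le
  refine ⟨b, fun i n hn => ?_⟩
  rcases lt_or_ge d i with h | h
  · have := hd i h
    exact (Submodule.eq_bot_iff _).2 fun y _ => Subsingleton.elim _ _
  · exact hr i n (le_trans (hb _ (Finset.mem_image_of_mem r (Finset.mem_range.2 (by omega)))) hn)

/-- the pieces of graded local cohomology are finite over degree zero -/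
theorem finite_Hcomp {M : Type u} [AddCommGroup M] [Module R M] [Module.Finite R M] {ℳ : ℤ → AddSubgroup M}
    [Decomposition ℳ] [SetLike.GradedSMul 𝒜 ℳ] (E : GrLC.StarInjRes 𝒜 ℳ) (i : ℕ) (n : ℤ) :
    Module.Finite (GrLC.deg0 𝒜) (E.Hcomp a i n) :=
  Module.Finite.iff_fg.2 ((hGood hpos ha i M ℳ E).1 n)

end Positive

end Groth.Agent.GrMod19
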