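import Groth.Agent.GrMod19.Kos
import Groth.Agent.LC17.IDepth
import Groth.Agent.LC15.ExtDepth

/-! Elementary facts on finite graded modules over positively graded rings; generation and vanishing. -/

universe u

open DirectSum

namespace Groth.Agent.GrMod19

variable {R : Type u} [CommRing R] {σ : Type u} [SetLike σ R] [AddSubgroupClass σ R] {𝒜 : ℤ → σ} [GradedRing 𝒜]
variable {M : Type u} [AddCommGroup M] [Module R M] {τ : Type u} [SetLike τ M] [AddSubgroupClass τ M]
  (ℳ : ℤ → τ) [Decomposition ℳ] [SetLike.GradedSMul 𝒜 ℳ]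

/-- vanishing only depends on the underlying subgroups -/
lemma vanH_selfN (a : HomogeneousIdeal 𝒜) {i : ℕ} {n : ℤ} : VanH a (selfN ℳ) i n ↔ VanH a ℳ i n :=
  ⟨fun h => vanH_of_equiv a (LinearEquiv.refl R M) (ℳ := ℳ) (𝒩 := selfN ℳ)
      (isGrHomDeg_zero_iff.2 fun _ _ hm => hm) (isGrHomDeg_zero_iff.2 fun _ _ hm => hm) (add_zero 0)
      (by rwa [add_zero]),
    fun h => vanH_of_equiv a (LinearEquiv.refl R M) (ℳ := selfN ℳ) (𝒩 := ℳ)
      (isGrHomDeg_zero_iff.2 fun _ _ hm => hm) (isGrHomDeg_zero_iff.2 fun _ _ hm => hm) (add_zero 0)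
      (by rwa [add_zero])⟩

variable (hpos : NonnegGr 𝒜) {a : HomogeneousIdeal 𝒜} (ha : IsPlus a)
include hpos

/-- finite graded modules are bounded below -/
lemma exists_lower_bound [Module.Finite R M] : ∃ b : ℤ, ∀ n, n < b → ∀ x ∈ ℳ n, x = 0 := by
  classical
  obtain ⟨k, deg, g, hg, hspan⟩ := exists_homog_generators 𝒜 ℳ (⊤ : Submodule R M) (fun _ _ _ => trivial)
    Module.Finite.fg_top
  obtain ⟨b, hb⟩ := (Finset.univ.image fun j => -deg j).exists_le
  refine ⟨-b, fun n hn x hx => ?_⟩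
  obtain ⟨c, hc⟩ := (Submodule.mem_span_range_iff_exists_fun R).1 (show x ∈ Submodule.span R (Set.range g) by
    rw [hspan]; trivial)
  rw [← cmp_of_mem ℳ hx, ← hc, map_sum]
  refine Finset.sum_eq_zero fun j _ => ?_
  have := hb _ (Finset.mem_image_of_mem (fun j => -deg j) (Finset.mem_univ j))
  rw [cmp_smul_homog_right 𝒜 ℳ n (hg j), hpos (n - deg j) (by omega) _ (cmp_mem 𝒜 _ _), zero_smul]

include ha

omit [SetLike.GradedSMul 𝒜 ℳ] [Decomposition ℳ] in
lemma cmp_eq_zero_of_mem_pow : ∀ (k : ℕ) {r : R}, r ∈ a.toIdeal ^ k → ∀ d : ℤ, d < k → cmp 𝒜 d r = 0 := by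
  intro k
  induction k with
  | zero => intro r _ d hd; exact hpos d (by simpa using hd) _ (cmp_mem 𝒜 d r)
  | succ k ih =>
    intro r hr d hd
    rw [pow_succ] at hr
    induction hr using Submodule.mul_induction_on' with
    | mem_mul_mem x hx y hy =>
      obtain ⟨t, ht⟩ := exists_sum_cmp 𝒜 y
      rw [← ht, Finset.mul_sum, map_sum]
      refine Finset.sum_eq_zero fun e _ => ?_
      rw [← smul_eq_mul, cmp_smul_homog_right 𝒜 𝒜 d (cmp_mem 𝒜 e y)]
      rcases lt_trichotomy e 0 with he | rfl | he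
      · rw [hpos e he _ (cmp_mem 𝒜 e y), smul_zero]
      · rw [(mem_plus_iff hpos ha y).1 hy, smul_zero]
      · rw [ih hx (d - e) (by push_cast at hd; omega), zero_smul]
    | add x _ y _ hx hy => rw [map_add, hx, hy, add_zero]

/-- bounded above modules are torsion -/
lemma isPowerTorsion_of_bounded {n₀ : ℤ} (h : ∀ n, n₀ ≤ n → ∀ x ∈ ℳ n, x = 0) :
    LocCoh.IsPowerTorsion a.toIdeal M := by
  suffices htop : ∀ m : M, m ∈ GrLC.gam a.toIdeal M from htop
  intro m
  induction m using piece_induction ℳ with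
  | h0 => exact zero_mem _
  | hadd x y hx hy => exact add_mem hx hy
  | hp d x hx =>
    refine ⟨(n₀ - d).toNat, fun r hr => ?_⟩
    obtain ⟨t, ht⟩ := exists_sum_cmp 𝒜 r
    rw [← ht, Finset.sum_smul]
    refine Finset.sum_eq_zero fun e _ => ?_
    rcases lt_or_ge e ((n₀ - d).toNat : ℤ) with he | he
    · rw [cmp_eq_zero_of_mem_pow hpos ha _ hr e he, zero_smul]
    · exact h (e + d) (by have := Int.self_le_toNat (n₀ - d); omega) _ (smul_mem_add 𝒜 ℳ (cmp_mem 𝒜 e r) hx)

/-- components of elements of `a M` come from lower degrees -/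
lemma cmp_mem_span_lower {y : M} (hy : y ∈ a.toIdeal • (⊤ : Submodule R M)) (n : ℤ) :
    cmp ℳ n y ∈ Submodule.span R (⋃ (j : ℤ) (_ : j < n), (ℳ j : Set M)) := by
  induction hy using Submodule.smul_induction_on' with
  | smul r hr m _ =>
    obtain ⟨t, ht⟩ := exists_sum_cmp 𝒜 r
    rw [← ht, Finset.sum_smul, map_sum]
    refine sum_mem fun e _ => ?_
    rw [cmp_smul_homog_left 𝒜 ℳ n (cmp_mem 𝒜 e r)]
    rcases lt_trichotomy e 0 with he | rfl | he
    · rw [hpos e he _ (cmp_mem 𝒜 e r), zero_smul]; exact zero_mem _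
    · rw [(mem_plus_iff hpos ha r).1 hr, zero_smul]; exact zero_mem _
    · exact Submodule.smul_mem _ _ (Submodule.subset_span (Set.mem_iUnion₂.2 ⟨n - e, by omega, cmp_mem ℳ _ _⟩))
  | add x _ y _ hx hy => rw [map_add]; exact add_mem hx hy

/-- induction on the degree -/
lemma piece_le_of_step [Module.Finite R M] (P : Submodule R M)
    (h : ∀ n, (∀ j, j < n → ∀ x ∈ ℳ j, x ∈ P) → ∀ x ∈ ℳ n, x ∈ P) : P = ⊤ := by
  obtain ⟨b, hb⟩ := exists_lower_bound ℳ hpos
  have hall : ∀ (k : ℕ) (n : ℤ), n < b + k → ∀ x ∈ ℳ n, x ∈ P := by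
    intro k
    induction k with
    | zero => intro n hn x hx; rw [hb n (by simpa using hn) x hx]; exact zero_mem _
    | succ k ih => intro n hn x hx; exact h n (fun j hj => ih j (by push_cast at hn; omega)) x hx
  suffices hm : ∀ m, m ∈ P from eq_top_iff.2 fun m _ => hm m
  intro m
  induction m using piece_induction ℳ with
  | h0 => exact zero_mem _
  | hadd x y hx hy => exact add_mem hx hy
  | hp d x hx => exact hall ((d - b).toNat + 1) d (by have := Int.self_le_toNat (d - b); push_cast; omega) x hx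

include ℳ in
/-- the graded Nakayama lemma -/
lemma subsingleton_of_smul_top [Module.Finite R M] (h : a.toIdeal • (⊤ : Submodule R M) = ⊤) : Subsingleton M := by
  have := piece_le_of_step ℳ hpos ha (⊥ : Submodule R M) fun n hn x hx => by
    have hspan := cmp_mem_span_lower ℳ hpos ha (y := x) (by rw [h]; trivial) n
    rw [cmp_of_mem ℳ hx] at hspan
    refine Submodule.span_le.2 ?_ hspan
    intro y hy
    obtain ⟨j, hj, hy⟩ := Set.mem_iUnion₂.1 hy
    exact hn j hj y hy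
  exact (Submodule.subsingleton_iff R).1 (subsingleton_of_bot_eq_top this)

/-- higher local cohomology vanishes iff the module lives in bounded degrees -/
theorem forall_subsingleton_H_iff [IsNoetherianRing R] [Module.Finite R M] :
    (∀ i : ℕ, 1 ≤ i → Subsingleton (LocCoh.H a.toIdeal i M)) ↔ ∃ n₀ : ℤ, ∀ n, n₀ ≤ n → ∀ x ∈ ℳ n, x = 0 := by
  constructor
  · intro h
    let Γ := GrLC.gam a.toIdeal M
    have hΓ : Γ.IsHomogeneous ℳ := isHomogeneous_gam ℳ a
    let : Decomposition (GrInj18.quotPieces ℳ Γ) := (GrInj18.quotPieces_isInternal ℳ hΓ).chooseDecomposition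
    have hQ : ∀ i, Subsingleton (LocCoh.H a.toIdeal i (M ⧸ Γ)) := by
      intro i
      cases i with
      | zero =>
        rw [(LC15.H0equiv a.toIdeal (M ⧸ Γ)).toEquiv.subsingleton_congr, Submodule.subsingleton_iff_eq_bot]
        exact gam_quot_gam_eq_bot a.toIdeal
      | succ i =>
        have := h (i + 1) (by omega)
        exact (LC15.Hmap_mkQ_gamma_bijective a.toIdeal (M := M) (Nat.succ_pos i)).2.subsingleton
    have htop : a.toIdeal • (⊤ : Submodule R (M ⧸ Γ)) = ⊤ := by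
      by_contra hne
      refine LC15.idealDepth_ne_top (I := a.toIdeal) (M := M ⧸ Γ) hne (ENat.eq_top_iff_forall_ge.2 fun n => ?_)
      exact (LC17.natCast_le_idealDepth_iff a.toIdeal (M ⧸ Γ) n).2 fun i _ => hQ i
    have := subsingleton_of_smul_top (GrInj18.quotPieces ℳ Γ) hpos ha htop
    have hΓtop : Γ = ⊤ := Submodule.Quotient.subsingleton_iff.1 this
    have : IsNoetherian R M := isNoetherian_of_isNoetherianRing_of_finite R M
    obtain ⟨r, hr⟩ := exists_bound_of_torsion hpos ha ℳ Γ hΓ (IsNoetherian.noetherian _) le_rfl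
    exact ⟨r, fun n hn x hx => hr n hn x (hΓtop ▸ Submodule.mem_top) hx⟩
  · rintro ⟨n₀, h⟩ i hi
    exact LC15.subsingleton_H_of_powerTorsion a.toIdeal (isPowerTorsion_of_bounded ℳ hpos ha h) hi

omit hpos ha

lemma Hgr_eq_bot_of_not_le {b : WithBot (WithTop ℤ)} (E : GrLC.StarInjRes 𝒜 ℳ) {i : ℕ} {n : ℤ}
    (h : GrLC.endDeg (E.Hgr a i) + (((i : ℤ) : WithTop ℤ) : WithBot (WithTop ℤ)) ≤ b)
    (hn : ¬ ((((n + i : ℤ)) : WithTop ℤ) : WithBot (WithTop ℤ)) ≤ b) : E.Hcomp a i n = ⊥ := by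
  rw [Hcomp_eq_bot_iff]
  by_contra hne
  refine hn (le_trans ?_ h)
  rw [show (((n + i : ℤ) : WithTop ℤ) : WithBot (WithTop ℤ)) =
    ((n : WithTop ℤ) : WithBot (WithTop ℤ)) + (((i : ℤ) : WithTop ℤ) : WithBot (WithTop ℤ)) by
      rw [← WithBot.coe_add, ← WithTop.coe_add]]
  exact add_le_add (le_iSup₂ (f := fun (n : ℤ) (_ : E.Hgr a i n ≠ ⊥) => ((n : WithTop ℤ) : WithBot (WithTop ℤ))) n hne)
    le_rfl

lemma endDeg_le_iff {H : Type u} [AddCommGroup H] (ℋ : ℤ → AddSubgroup H) (d : ℤ) :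
    GrLC.endDeg ℋ ≤ ((d : WithTop ℤ) : WithBot (WithTop ℤ)) ↔ ∀ n, d < n → ℋ n = ⊥ := by
  unfold GrLC.endDeg
  rw [iSup₂_le_iff]
  refine forall_congr' fun n => ?_
  rw [WithBot.coe_le_coe, WithTop.coe_le_coe]
  constructor
  · intro h hn
    by_contra hne
    exact absurd (h hne) (not_le.2 hn)
  · intro h hne
    by_contra hn
    exact hne (h (not_le.1 hn))

/-- the sequence of a regular element -/
lemma ses_of_regular {N : Type u} [AddCommGroup N] [Module R N] {τ' : Type u} [SetLike τ' N]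
    [AddSubgroupClass τ' N] (𝒩 : ℤ → τ') {x : R} {k : ℤ} (hx : x ∈ 𝒜 k) (hreg : IsSMulRegular M x)
    (π : M →ₗ[R] N) (hπ : Function.Surjective π) (hπg : GrLC.IsGrHom ℳ 𝒩 π)
    (hker : LinearMap.ker π = LinearMap.range (x • (LinearMap.id : M →ₗ[R] M))) :
    Ses ℳ ℳ 𝒩 (x • LinearMap.id) π k where
  hf g m hm := by
    rw [add_comm]
    exact smul_mem_add 𝒜 ℳ hx hm
  hg := hπg
  inj := hreg
  exact := LinearMap.exact_iff.2 hker
  surj := hπ

end Groth.Agent.GrMod19
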