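import Groth.Agent.GrMod19.CMTop
import Mathlib.RingTheory.Regular.RegularSequence

/-! The end of local cohomology and homogeneous regular sequences. -/

universe u

open DirectSum

namespace Groth.Agent.GrMod19

variable {R : Type u} [CommRing R] {𝒜 : ℤ → AddSubgroup R} [GradedRing 𝒜] (a : HomogeneousIdeal 𝒜)

/-- killing one more element -/
lemma ses_step_quot {J J' : Ideal R} {x : R} {k : ℤ} (hx : x ∈ 𝒜 k)
    (hreg : ∀ r, x * r ∈ J → r ∈ J) (hJ' : J' = J ⊔ Ideal.span {x}) :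
    Ses (GrInj18.quotPieces 𝒜 (J : Submodule R R)) (GrInj18.quotPieces 𝒜 (J : Submodule R R))
      (GrInj18.quotPieces 𝒜 (J' : Submodule R R)) (x • LinearMap.id)
      (Submodule.factor (hJ' ▸ le_sup_left : J ≤ J')) k where
  hf n z hz := by
    rw [add_comm]
    exact smul_mem_add 𝒜 (GrInj18.quotPieces 𝒜 (J : Submodule R R)) hx hz
  hg n z hz := by
    obtain ⟨r, hr, rfl⟩ := hz
    exact ⟨r, hr, rfl⟩
  inj := by
    rw [injective_iff_map_eq_zero]
    intro z hz
    obtain ⟨r, rfl⟩ := Submodule.mkQ_surjective _ z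
    refine (Submodule.Quotient.mk_eq_zero _).2 (hreg r ((Submodule.Quotient.mk_eq_zero (M := R) J).1 ?_))
    exact hz
  exact z := by
    obtain ⟨r, rfl⟩ := Submodule.mkQ_surjective _ z
    constructor
    · intro h
      have hr : r ∈ J ⊔ Ideal.span {x} := hJ' ▸ (Submodule.Quotient.mk_eq_zero (M := R) J').1 h
      obtain ⟨p, hp, q, hq, rfl⟩ := Submodule.mem_sup.1 hr
      obtain ⟨c, rfl⟩ := Ideal.mem_span_singleton'.1 hq
      refine ⟨Submodule.mkQ J c, ?_⟩
      show x • Submodule.mkQ J c = Submodule.mkQ J (p + c * x)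
      rw [map_add, ← map_smul, show Submodule.mkQ J p = 0 from (Submodule.Quotient.mk_eq_zero _).2 hp, zero_add,
        smul_eq_mul, mul_comm]
    · rintro ⟨y, hy⟩
      obtain ⟨c, rfl⟩ := Submodule.mkQ_surjective _ y
      rw [← hy]
      refine (Submodule.Quotient.mk_eq_zero (M := R) J').2 ?_
      rw [hJ']
      show x * c ∈ _
      exact Ideal.mem_sup_right (Ideal.mul_mem_right _ _ (Ideal.mem_span_singleton_self x))
  surj := Submodule.factor_surjective _

variable {t : ℕ} {f : Fin t → R} {deg : Fin t → ℤ}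

/-- the ideal of the first `j` elements -/
def preI (f : Fin t → R) (j : ℕ) : Ideal R := Ideal.span (f '' {i | (i : ℕ) < j})

lemma preI_succ (f : Fin t → R) {j : ℕ} (hj : j < t) : preI f (j + 1) = preI f j ⊔ Ideal.span {f ⟨j, hj⟩} := by
  rw [preI, preI, ← Ideal.span_union]
  congr 1
  ext y
  constructor
  · rintro ⟨i, hi, rfl⟩
    rcases Nat.lt_succ_iff_lt_or_eq.1 hi with h | h
    · exact Or.inl ⟨i, h, rfl⟩
    · exact Or.inr (congrArg f (Fin.ext h))
  · rintro (⟨i, hi, rfl⟩ | rfl)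
    · exact ⟨i, Nat.lt_succ_of_lt hi, rfl⟩
    · exact ⟨⟨j, hj⟩, Nat.lt_succ_self j, rfl⟩

lemma preI_take (f : Fin t → R) {j : ℕ} (hj : j ≤ t) :
    Ideal.ofList ((List.ofFn f).take j) = preI f j := by
  rw [Ideal.ofList, preI]
  congr 1
  ext y
  simp only [Set.mem_setOf_eq, List.mem_take_iff_getElem, List.length_ofFn, List.getElem_ofFn, Set.mem_image]
  constructor
  · rintro ⟨i, hi, rfl⟩
    exact ⟨⟨i, by omega⟩, (lt_min_iff.1 hi).1, rfl⟩
  · rintro ⟨i, hi, rfl⟩
    exact ⟨i, lt_min hi i.2, rfl⟩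

lemma isHomogeneous_preI (hf : ∀ i, f i ∈ 𝒜 (deg i)) (j : ℕ) :
    Submodule.IsHomogeneous (preI f j : Submodule R R) 𝒜 :=
  Ideal.homogeneous_span 𝒜 _ (by rintro _ ⟨i, -, rfl⟩; exact ⟨deg i, hf i⟩)

lemma regular_step (hreg : RingTheory.Sequence.IsWeaklyRegular R (List.ofFn f)) {j : ℕ} (hj : j < t) :
    ∀ r, f ⟨j, hj⟩ * r ∈ preI f j → r ∈ preI f j := by
  intro r hr
  have h := hreg.regular_mod_prev j (by simpa using hj)
  simp only [List.getElem_ofFn] at h
  rw [preI_take f hj.le] at h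
  have hI : (preI f j • ⊤ : Submodule R R) = preI f j := by
    rw [Ideal.smul_eq_mul, Ideal.mul_top]
  rw [hI] at h
  refine (Submodule.Quotient.mk_eq_zero (M := R) (preI f j)).1 (h ?_)
  show f ⟨j, hj⟩ • Submodule.Quotient.mk r = f ⟨j, hj⟩ • (0 : R ⧸ preI f j)
  rw [smul_zero, ← Submodule.Quotient.mk_smul]
  exact (Submodule.Quotient.mk_eq_zero _).2 hr

/-- the end and the vanishing for the quotients by initial segments -/
theorem vEnd_preI (hf : ∀ i, f i ∈ 𝒜 (deg i)) (hdeg : ∀ i, 0 ≤ deg i) (hfa : ∀ i, f i ∈ a.toIdeal)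
    (hreg : RingTheory.Sequence.IsWeaklyRegular R (List.ofFn f)) {n : ℕ}
    (hvan : ∀ i < n, ∀ d, VanH a 𝒜 i d) :
    ∀ j, j ≤ t → j ≤ n → ∀ [Decomposition (GrInj18.quotPieces 𝒜 (preI f j : Submodule R R))],
      (∀ i < n - j, ∀ d, VanH a (GrInj18.quotPieces 𝒜 (preI f j : Submodule R R)) i d) ∧
        vEnd (GrInj18.quotPieces 𝒜 (preI f j : Submodule R R)) a (n - j) =
          vEnd 𝒜 a n + zWB (∑ i : Fin t, if (i : ℕ) < j then deg i else 0) := by
  intro j
  induction j with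
  | zero =>
    intro _ _ _
    have hbot : preI f 0 = ⊥ := by simp [preI]
    let e : (R ⧸ (preI f 0 : Submodule R R)) ≃ₗ[R] R := Submodule.quotEquivOfEqBot _ hbot
    have he : GrLC.IsGrHom (GrInj18.quotPieces 𝒜 (preI f 0 : Submodule R R)) 𝒜 e.toLinearMap := by
      rintro d _ ⟨r, hr, rfl⟩
      exact hr
    have he' : GrLC.IsGrHom 𝒜 (GrInj18.quotPieces 𝒜 (preI f 0 : Submodule R R)) e.symm.toLinearMap :=
      fun d r hr => ⟨r, hr, rfl⟩
    refine ⟨fun i hi d => vanH_congr a e he he' i d (hvan i (by simpa using hi) d), ?_⟩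
    rw [vEnd_congr a e he he', Nat.sub_zero]
    simp [zWB]
  | succ j ih =>
    intro hjt hjn _
    have hP := isHomogeneous_preI hf j
    let : Decomposition (GrInj18.quotPieces 𝒜 (preI f j : Submodule R R)) :=
      (GrInj18.quotPieces_isInternal 𝒜 hP).chooseDecomposition
    obtain ⟨hv, he⟩ := ih (by omega) (by omega)
    have S := ses_step_quot (hf ⟨j, hjt⟩) (regular_step hreg hjt) (preI_succ f hjt)
    refine ⟨fun i hi d => vanH_right a S (hv i (by omega) d) (hv (i + 1) (by omega) _), ?_⟩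
    rw [vEnd_quot a (hdeg _) (hf _) (hfa _) S (n - (j + 1)) (hv _ (by omega)),
      show n - (j + 1) + 1 = n - j by omega, he, add_assoc, zWB_add]
    congr 2
    rw [← Finset.sum_erase_add _ _ (Finset.mem_univ (⟨j, hjt⟩ : Fin t)),
      ← Finset.sum_erase_add (f := fun i : Fin t => if (i : ℕ) < j + 1 then deg i else 0) _ (Finset.mem_univ (⟨j, hjt⟩ : Fin t)),
      if_neg (lt_irrefl j), if_pos (Nat.lt_succ_self j), add_zero]
    congr 1
    refine Finset.sum_congr rfl fun i hi => if_congr ?_ rfl rfl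
    have : (i : ℕ) ≠ j := fun h => Finset.ne_of_mem_erase hi (Fin.ext h)
    omega

end Groth.Agent.GrMod19
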