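import Groth.Agent.GrMod19.Van

/-! Linear complexes with torsion homology on a graded module; shifting vanishing to higher total degree. -/

universe u

open DirectSum

namespace Groth.Agent.GrMod19

variable {R : Type u} [CommRing R] {σ : Type u} [SetLike σ R] [AddSubgroupClass σ R] {𝒜 : ℤ → σ} [GradedRing 𝒜]

/-- the cycles of a complex -/
def cyc (X : ℕ → GrLC.GMod.{u} 𝒜) (d : ∀ j, (X (j + 1)).carrier →ₗ[R] (X j).carrier) :
    ∀ j, Submodule R (X j).carrier
  | 0 => ⊤
  | j + 1 => LinearMap.ker (d j)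

variable (a : HomogeneousIdeal 𝒜)

/-- a complex of sums of shifts of `M0` with torsion homology -/
structure LinCx (S : Set R) (M0 : GrLC.GMod.{u} 𝒜) : Type (u + 1) where
  X : ℕ → GrLC.GMod.{u} 𝒜
  d : ∀ j, (X (j + 1)).carrier →ₗ[R] (X j).carrier
  dgr : ∀ j, GrLC.IsGrHom (X (j + 1)).gr (X j).gr (d j)
  dd : ∀ j x, d j (d (j + 1) x) = 0
  zero_eq : X 0 = M0
  van : ∀ (j i : ℕ) (n : ℤ), VanH a M0.gr i (n - (j : ℤ)) → VanH a (X j).gr i n
  im0 : LinearMap.range (d 0) ≤ a.toIdeal • (⊤ : Submodule R (X 0).carrier)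
  tors : ∀ r ∈ S, ∀ j, ∀ z ∈ cyc X d j, ∃ l : ℕ, r ^ l • z ∈ LinearMap.range (d j)

variable {a}

lemma LinCx.transfer {S : Set R} {M0 : GrLC.GMod.{u} 𝒜} (C : LinCx a S M0) (P : GrLC.GMod.{u} 𝒜 → Prop)
    (h : P (C.X 0)) : P M0 := C.zero_eq ▸ h

section Base

variable [IsNoetherianRing R] (M0 : GrLC.GMod.{u} 𝒜)

/-- the zero submodule as a graded module -/
noncomputable def botG : GrLC.GMod.{u} 𝒜 :=
  GrInj18.gsub 𝒜 M0.gr (GrInj18.isHomogeneous_bot M0.gr)

instance subsingleton_botG : Subsingleton (botG M0).carrier :=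
  inferInstanceAs (Subsingleton (⊥ : Submodule R M0.carrier))

/-- the terms of the trivial complex -/
noncomputable def baseX : ℕ → GrLC.GMod.{u} 𝒜
  | 0 => M0
  | _ + 1 => botG M0

/-- the trivial complex -/
noncomputable def linCxBase : LinCx a ∅ M0 where
  X := baseX M0
  d _ := 0
  dgr j g m _ := zero_mem _
  dd j x := rfl
  zero_eq := rfl
  van j i n h := by
    cases j with
    | zero =>
      have h' : VanH a M0.gr i n := by simpa using h
      exact h'
    | succ j =>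
      have : Subsingleton (baseX M0 (j + 1)).carrier := subsingleton_botG M0
      exact vanH_of_subsingleton a i n
  im0 := by rintro _ ⟨x, rfl⟩; exact zero_mem _
  tors r hr := hr.elim

end Base

section Step

variable {S : Set R} {M0 : GrLC.GMod.{u} 𝒜} (C : LinCx a S M0) (g : R)

/-- the terms of the cone -/
noncomputable def stepX : ℕ → GrLC.GMod.{u} 𝒜
  | 0 => C.X 0
  | j + 1 => prodG (C.X j) (C.X (j + 1)) (-1)

/-- a pair in a cone -/
def mkStep (j : ℕ) (v : (C.X j).carrier) (u : (C.X (j + 1)).carrier) : (stepX C (j + 1)).carrier := (v, u)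

/-- the first projection of a cone -/
def fstStep (j : ℕ) : (stepX C (j + 1)).carrier →ₗ[R] (C.X j).carrier :=
  LinearMap.fst R (C.X j).carrier (C.X (j + 1)).carrier

/-- the second projection of a cone -/
def sndStep (j : ℕ) : (stepX C (j + 1)).carrier →ₗ[R] (C.X (j + 1)).carrier :=
  LinearMap.snd R (C.X j).carrier (C.X (j + 1)).carrier

/-- the differential of the cone -/
noncomputable def stepD : ∀ j, (stepX C (j + 1)).carrier →ₗ[R] (stepX C j).carrier
  | 0 => C.d 0 ∘ₗ sndStep C 0 + g • fstStep C 0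
  | j + 1 => (LinearMap.prod (-(C.d j ∘ₗ fstStep C (j + 1))) (C.d (j + 1) ∘ₗ sndStep C (j + 1) + g • fstStep C (j + 1)) :
      (stepX C (j + 1 + 1)).carrier →ₗ[R] (C.X j).carrier × (C.X (j + 1)).carrier)

lemma stepD_zero (v : (C.X 0).carrier) (u : (C.X 1).carrier) :
    stepD C g 0 (mkStep C 0 v u) = C.d 0 u + g • v := rfl

lemma stepD_succ (j : ℕ) (v : (C.X (j + 1)).carrier) (u : (C.X (j + 1 + 1)).carrier) :
    stepD C g (j + 1) (mkStep C (j + 1) v u) = mkStep C j (-C.d j v) (C.d (j + 1) u + g • v) := rfl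

lemma mkStep_eta (j : ℕ) (x : (stepX C (j + 1)).carrier) : mkStep C j (fstStep C j x) (sndStep C j x) = x := rfl

lemma mkStep_inj {j : ℕ} {v v' : (C.X j).carrier} {u u' : (C.X (j + 1)).carrier}
    (h : mkStep C j v u = mkStep C j v' u') : v = v' ∧ u = u' := Prod.mk_inj.1 h

lemma mkStep_smul (r : R) (j : ℕ) (v : (C.X j).carrier) (u : (C.X (j + 1)).carrier) :
    r • mkStep C j v u = mkStep C j (r • v) (r • u) := rfl

lemma mkStep_zero (j : ℕ) : mkStep C j 0 0 = 0 := rfl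

lemma mem_cyc_succ_iff (j : ℕ) (v : (C.X j).carrier) (u : (C.X (j + 1)).carrier) :
    mkStep C j v u ∈ cyc (stepX C) (stepD C g) (j + 1) ↔ v ∈ cyc C.X C.d j ∧ C.d j u + g • v = 0 := by
  show stepD C g j (mkStep C j v u) = 0 ↔ _
  cases j with
  | zero => rw [stepD_zero]; exact ⟨fun h => ⟨trivial, h⟩, fun h => h.2⟩
  | succ j =>
    rw [stepD_succ, ← mkStep_zero C j]
    refine ⟨fun h => ⟨neg_eq_zero.1 (mkStep_inj C h).1, (mkStep_inj C h).2⟩, fun h => ?_⟩
    rw [show C.d j v = 0 from h.1, neg_zero, h.2]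

lemma range_le_cyc (j : ℕ) : LinearMap.range (C.d j) ≤ cyc C.X C.d j := by
  rintro _ ⟨x, rfl⟩
  cases j with
  | zero => trivial
  | succ j => exact C.dd j x

lemma tors_new (j : ℕ) {z : (stepX C j).carrier} (hz : z ∈ cyc (stepX C) (stepD C g) j) :
    g • z ∈ LinearMap.range (stepD C g j) := by
  cases j with
  | zero => exact ⟨mkStep C 0 z 0, by rw [stepD_zero, map_zero, zero_add]; rfl⟩
  | succ j =>
    rw [← mkStep_eta C j z] at hz ⊢
    obtain ⟨-, h⟩ := (mem_cyc_succ_iff C g j _ _).1 hz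
    refine ⟨mkStep C (j + 1) (sndStep C j z) 0, ?_⟩
    rw [stepD_succ, map_zero, zero_add, mkStep_smul]
    rw [eq_neg_of_add_eq_zero_left h, neg_neg]

lemma tors_old {r : R} (hr : r ∈ S) (j : ℕ) {z : (stepX C j).carrier} (hz : z ∈ cyc (stepX C) (stepD C g) j) :
    ∃ l : ℕ, r ^ l • z ∈ LinearMap.range (stepD C g j) := by
  cases j with
  | zero =>
    obtain ⟨l, w, hw⟩ := C.tors r hr 0 z trivial
    exact ⟨l, mkStep C 0 0 w, by rw [stepD_zero, hw, smul_zero, add_zero]; rfl⟩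
  | succ j =>
    rw [← mkStep_eta C j z] at hz ⊢
    set v := fstStep C j z
    set u := sndStep C j z
    obtain ⟨hv, h⟩ := (mem_cyc_succ_iff C g j v u).1 hz
    obtain ⟨l, w, hw⟩ := C.tors r hr j v hv
    obtain ⟨m, w', hw'⟩ := C.tors r hr (j + 1) (r ^ l • u + g • w) (by
      show C.d j (r ^ l • u + g • w) = 0
      rw [map_add, map_smul, map_smul, hw, smul_comm g, ← smul_add, h, smul_zero])
    refine ⟨m + l, mkStep C (j + 1) (-(r ^ m • w)) w', ?_⟩
    rw [stepD_succ, mkStep_smul, map_neg, map_smul, hw, neg_neg, hw', pow_add, mul_smul, mul_smul, smul_add,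
      smul_neg, smul_comm g (r ^ m) w, add_assoc, add_neg_cancel, add_zero]

variable {g} (hg : g ∈ 𝒜 1)
include hg

lemma smul_deg_one (X : GrLC.GMod.{u} 𝒜) {n : ℤ} {v : X.carrier} (hv : v ∈ X.gr (n + -1)) : g • v ∈ X.gr n := by
  have h := smul_mem_add 𝒜 X.gr hg hv
  rwa [show (1 : ℤ) + (n + -1) = n by ring] at h

lemma stepD_gr : ∀ j, GrLC.IsGrHom (stepX C (j + 1)).gr (stepX C j).gr (stepD C g j)
  | 0, n, x, hx => by
    show C.d 0 (sndStep C 0 x) + g • fstStep C 0 x ∈ (C.X 0).gr n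
    exact add_mem (C.dgr 0 n _ hx.2) (smul_deg_one hg _ hx.1)
  | j + 1, n, x, hx => by
    refine AddSubgroup.mem_prod.2 ⟨?_, ?_⟩
    · show -(C.d j (fstStep C (j + 1) x)) ∈ (C.X j).gr (n + -1)
      exact neg_mem (C.dgr j _ _ hx.1)
    · show C.d (j + 1) (sndStep C (j + 1) x) + g • fstStep C (j + 1) x ∈ (C.X (j + 1)).gr n
      exact add_mem (C.dgr (j + 1) n _ hx.2) (smul_deg_one hg _ hx.1)

omit hg in
lemma stepD_dd : ∀ j x, stepD C g j (stepD C g (j + 1) x) = 0 := by
  intro j x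
  rw [← mkStep_eta C (j + 1) x, stepD_succ]
  cases j with
  | zero => rw [stepD_zero, map_add, map_smul, C.dd, zero_add, smul_neg, add_neg_cancel]; rfl
  | succ j =>
    rw [stepD_succ, map_neg, C.dd, neg_zero, neg_zero, map_add, map_smul, C.dd, zero_add, smul_neg, add_neg_cancel,
      mkStep_zero]

/-- the first inclusion into a cone -/
def inlStep (j : ℕ) : (C.X j).carrier →ₗ[R] (stepX C (j + 1)).carrier :=
  LinearMap.inl R (C.X j).carrier (C.X (j + 1)).carrier

omit hg in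
lemma ses_step (j : ℕ) : Ses (C.X j).gr (stepX C (j + 1)).gr (C.X (j + 1)).gr
    (inlStep C j)
    (sndStep C j) (1 : ℤ) where
  hf n m hm := AddSubgroup.mem_prod.2 ⟨by rwa [show n + 1 + -1 = n by ring], zero_mem _⟩
  hg n m hm := hm.2
  inj := fun x y h => (mkStep_inj C h).1
  exact y := by
    constructor
    · intro hy
      exact ⟨fstStep C j y, Prod.ext rfl hy.symm⟩
    · rintro ⟨x, rfl⟩
      rfl
  surj u := ⟨mkStep C j 0 u, rfl⟩

/-- the cone of multiplication by a linear form -/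
noncomputable def linCxStep (hga : g ∈ a.toIdeal) : LinCx a (insert g S) M0 where
  X := stepX C
  d := stepD C g
  dgr := stepD_gr C hg
  dd := stepD_dd C
  zero_eq := C.zero_eq
  van j i n h := by
    cases j with
    | zero => exact C.van 0 i n h
    | succ j =>
      refine vanH_mid a (ses_step C j) ?_ ?_
      · exact C.van j i _ (by rwa [show n - 1 - (j : ℤ) = n - ((j + 1 : ℕ) : ℤ) by push_cast; ring])
      · exact C.van (j + 1) i n h
  im0 := by
    rintro _ ⟨x, rfl⟩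
    exact add_mem (C.im0 ⟨sndStep C 0 x, rfl⟩) (Submodule.smul_mem_smul hga trivial)
  tors r hr j z hz := by
    rcases hr with rfl | hr
    · exact ⟨1, by rw [pow_one]; exact tors_new C r j hz⟩
    · exact tors_old C g hr j hz

end Step

variable [IsNoetherianRing R]

lemma exists_linCx (M0 : GrLC.GMod.{u} 𝒜) : ∀ s : List R, (∀ g ∈ s, g ∈ 𝒜 1 ∧ g ∈ a.toIdeal) →
    Nonempty (LinCx a {g | g ∈ s} M0) := by
  intro s
  induction s with
  | nil =>
    intro _
    rw [show {g : R | g ∈ ([] : List R)} = ∅ by ext; simp]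
    exact ⟨linCxBase M0⟩
  | cons g s ih =>
    intro h
    obtain ⟨C⟩ := ih fun x hx => h x (List.mem_cons_of_mem _ hx)
    rw [show {x : R | x ∈ g :: s} = insert g {x | x ∈ s} by ext; simp]
    exact ⟨linCxStep C (h g List.mem_cons_self).1 (h g List.mem_cons_self).2⟩

lemma exists_linCx_of_homog (hhom : a.toIdeal = Ideal.span (𝒜 1 : Set R)) (M0 : GrLC.GMod.{u} 𝒜) :
    ∃ S : Set R, Ideal.span S = a.toIdeal ∧ Nonempty (LinCx a S M0) := by
  classical
  have hfg : (Ideal.span (𝒜 1 : Set R)).FG := IsNoetherian.noetherian _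
  obtain ⟨s, hs, hspan⟩ := Submodule.fg_span_iff_fg_span_finset_subset _ |>.1 hfg
  have hmem : ∀ g ∈ s.toList, g ∈ 𝒜 1 ∧ g ∈ a.toIdeal := fun g hg =>
    ⟨hs (Finset.mem_toList.1 hg), hhom ▸ Ideal.subset_span (hs (Finset.mem_toList.1 hg))⟩
  refine ⟨{g | g ∈ s.toList}, ?_, exists_linCx M0 s.toList hmem⟩
  rw [show {g : R | g ∈ s.toList} = (s : Set R) by ext; simp, hhom]
  exact hspan.symm

section Claim

variable {S : Set R} {M0 : GrLC.GMod.{u} 𝒜} (C : LinCx a S M0)

lemma isHomogeneous_cyc : ∀ j, (cyc C.X C.d j).IsHomogeneous (C.X j).gr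
  | 0 => fun _ _ _ => trivial
  | j + 1 => isHomogeneous_ker _ _ (C.dgr j)

lemma isPowerTorsion_homology (hS : Ideal.span S = a.toIdeal) (j : ℕ) :
    LocCoh.IsPowerTorsion a.toIdeal
      (cyc C.X C.d j ⧸ (LinearMap.range (C.d j)).comap (cyc C.X C.d j).subtype) := by
  intro q
  obtain ⟨z, rfl⟩ := Submodule.mkQ_surjective _ q
  let J : Ideal R := (LinearMap.range (C.d j)).comap ((LinearMap.id : R →ₗ[R] R).smulRight (z : (C.X j).carrier))
  have hle : a.toIdeal ≤ J.radical := by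
    rw [← hS, Ideal.span_le]
    intro r hr
    obtain ⟨l, hl⟩ := C.tors r hr j z z.2
    exact ⟨l, hl⟩
  obtain ⟨N, hN⟩ := Ideal.exists_pow_le_of_le_radical_of_fg hle (IsNoetherian.noetherian _)
  refine ⟨N, fun r hr => ?_⟩
  rw [← map_smul]
  exact (Submodule.Quotient.mk_eq_zero _).2 (hN hr)

lemma ses_cycle (j : ℕ) [Decomposition (GrInj18.subGr (C.X (j + 1)).gr (cyc C.X C.d (j + 1)))]
    [Decomposition (GrInj18.subGr (C.X j).gr (LinearMap.range (C.d j)))] :
    Ses (GrInj18.subGr (C.X (j + 1)).gr (cyc C.X C.d (j + 1))) (C.X (j + 1)).gr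
      (GrInj18.subGr (C.X j).gr (LinearMap.range (C.d j))) (cyc C.X C.d (j + 1)).subtype (C.d j).rangeRestrict 0 where
  hf := isGrHomDeg_zero_iff.2 (GrInj18.isGrHom_subtype _ _)
  hg n m hm := C.dgr j n m hm
  inj := Submodule.injective_subtype _
  exact y := by
    constructor
    · intro hy
      exact ⟨⟨y, congrArg Subtype.val hy⟩, rfl⟩
    · rintro ⟨⟨x, hx⟩, rfl⟩
      exact Subtype.ext hx
  surj := LinearMap.surjective_rangeRestrict _

/-- vanishing for the boundaries -/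
lemma vanH_range (j i : ℕ) (n : ℤ) [Decomposition (GrInj18.subGr (C.X (j + 1)).gr (cyc C.X C.d (j + 1)))]
    [Decomposition (GrInj18.subGr (C.X j).gr (LinearMap.range (C.d j)))]
    (h1 : VanH a M0.gr i (n - ((j + 1 : ℕ) : ℤ)))
    (h2 : VanH a (GrInj18.subGr (C.X (j + 1)).gr (cyc C.X C.d (j + 1))) (i + 1) n) :
    VanH a (GrInj18.subGr (C.X j).gr (LinearMap.range (C.d j))) i n :=
  vanH_right a (ses_cycle C j) (C.van (j + 1) i n h1) (by rwa [sub_zero])

/-- the cycles in higher total degree -/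
lemma vanH_cyc (hS : Ideal.span S = a.toIdeal) (l : ℕ) (hl : 1 ≤ l) (t : ℤ)
    (h : ∀ i, l ≤ i → VanH a M0.gr i (t - i)) :
    ∀ (e i j : ℕ), l ≤ i → (∀ i', i + e ≤ i' → ∀ (X : GrLC.GMod.{u} 𝒜) (n : ℤ), VanH a X.gr i' n) →
      ∀ [Decomposition (GrInj18.subGr (C.X j).gr (cyc C.X C.d j))],
        VanH a (GrInj18.subGr (C.X j).gr (cyc C.X C.d j)) i (t + 1 + j - i) := by
  intro e
  induction e with
  | zero =>
    intro i j hi hbig _
    cases Subsingleton.elim ‹Decomposition (GrInj18.subGr (C.X j).gr (cyc C.X C.d j))›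
      (GrInj18.subGr_isInternal _ (isHomogeneous_cyc C j)).chooseDecomposition
    exact hbig i (by omega) (GrInj18.gsub 𝒜 (C.X j).gr (isHomogeneous_cyc C j)) _
  | succ e ih =>
    intro i j hi hbig _
    let : Decomposition (GrInj18.subGr (C.X (j + 1)).gr (cyc C.X C.d (j + 1))) :=
      (GrInj18.subGr_isInternal _ (isHomogeneous_cyc C (j + 1))).chooseDecomposition
    let : Decomposition (GrInj18.subGr (C.X j).gr (LinearMap.range (C.d j))) :=
      (GrInj18.subGr_isInternal _ (isHomogeneous_range _ _ (C.dgr j))).chooseDecomposition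
    have hnext := ih (i + 1) (j + 1) (by omega) fun i' hi' => hbig i' (by omega)
    have hB := vanH_range C j i (t + 1 + j - i)
      (by rw [show t + 1 + (j : ℤ) - i - ((j + 1 : ℕ) : ℤ) = t - i by push_cast; ring]; exact h i hi)
      (by rwa [show t + 1 + ((j + 1 : ℕ) : ℤ) - ((i + 1 : ℕ) : ℤ) = t + 1 + j - i by push_cast; ring] at hnext)
    let P := (LinearMap.range (C.d j)).comap (cyc C.X C.d j).subtype
    have hP : P.IsHomogeneous (GrInj18.subGr (C.X j).gr (cyc C.X C.d j)) := fun n z hz => by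
      show ((cmp (GrInj18.subGr (C.X j).gr (cyc C.X C.d j)) n z : cyc C.X C.d j) : (C.X j).carrier) ∈
        LinearMap.range (C.d j)
      rw [show ((cmp (GrInj18.subGr (C.X j).gr (cyc C.X C.d j)) n z : cyc C.X C.d j) : (C.X j).carrier) =
        cmp (C.X j).gr n z from map_cmp _ _ (GrInj18.isGrHom_subtype _ _) n z]
      exact isHomogeneous_range _ _ (C.dgr j) n hz
    let : Decomposition (GrInj18.quotPieces (GrInj18.subGr (C.X j).gr (cyc C.X C.d j)) P) :=
      (GrInj18.quotPieces_isInternal _ hP).chooseDecomposition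
    have T : Ses (GrInj18.subGr (C.X j).gr (LinearMap.range (C.d j))) (GrInj18.subGr (C.X j).gr (cyc C.X C.d j))
        (GrInj18.quotPieces (GrInj18.subGr (C.X j).gr (cyc C.X C.d j)) P) (Submodule.inclusion (range_le_cyc C j))
        P.mkQ 0 :=
      { hf := isGrHomDeg_zero_iff.2 fun n m hm => hm
        hg := GrInj18.isGrHom_mkQ _ _
        inj := Submodule.inclusion_injective _
        exact := fun y => by
          show P.mkQ y = 0 ↔ _
          rw [← LinearMap.mem_ker, Submodule.ker_mkQ]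
          exact ⟨fun hy => ⟨⟨y, hy⟩, Subtype.ext rfl⟩, by rintro ⟨x, rfl⟩; exact x.2⟩
        surj := P.mkQ_surjective }
    refine vanH_mid a T (by rwa [sub_zero]) (vanH_of_torsion a ?_ (by omega) _)
    exact isPowerTorsion_homology C hS j

end Claim

/-- vanishing in a total degree propagates to the next one -/
theorem vanH_next_total (hhom : a.toIdeal = Ideal.span (𝒜 1 : Set R)) {M : Type u} [AddCommGroup M] [Module R M]
    (ℳ : ℤ → AddSubgroup M) [Decomposition ℳ] [SetLike.GradedSMul 𝒜 ℳ] {l : ℕ} (hl : 1 ≤ l) {t : ℤ}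
    (h : ∀ i, l ≤ i → VanH a ℳ i (t - i)) : ∀ i, l ≤ i → VanH a ℳ i (t + 1 - i) := by
  obtain ⟨S, hS, ⟨C⟩⟩ := exists_linCx_of_homog hhom (GrLC.GMod.of 𝒜 M ℳ)
  obtain ⟨b, hb⟩ := exists_vanH_bound (a := a)
  intro i hi
  let : Decomposition (GrInj18.subGr (C.X 0).gr (cyc C.X C.d 0)) :=
    (GrInj18.subGr_isInternal _ (isHomogeneous_cyc C 0)).chooseDecomposition
  have h0 := vanH_cyc C hS l hl t h (b + 1) i 0 hi fun i' hi' X n => hb X.carrier X.gr i' n (by omega)
  have h1 : VanH a (C.X 0).gr i (t + 1 - i) := by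
    refine vanH_of_equiv a (LinearEquiv.ofTop (cyc C.X C.d 0) rfl).symm
      (𝒩 := GrInj18.subGr (C.X 0).gr (cyc C.X C.d 0)) (d := 0) (d' := 0)
      (isGrHomDeg_zero_iff.2 fun n m hm => hm) (isGrHomDeg_zero_iff.2 fun n m hm => hm) (add_zero 0) ?_
    rw [add_zero]
    rwa [Nat.cast_zero, add_zero] at h0
  exact C.transfer (fun X => VanH a X.gr i (t + 1 - i)) h1

/-- vanishing in a total degree propagates to all higher ones -/
theorem vanH_of_total (hhom : a.toIdeal = Ideal.span (𝒜 1 : Set R)) {M : Type u} [AddCommGroup M] [Module R M]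
    (ℳ : ℤ → AddSubgroup M) [Decomposition ℳ] [SetLike.GradedSMul 𝒜 ℳ] {l : ℕ} (hl : 1 ≤ l) {t : ℤ}
    (h : ∀ i, l ≤ i → VanH a ℳ i (t - i)) {s : ℤ} (hs : t ≤ s) : ∀ i, l ≤ i → VanH a ℳ i (s - i) := by
  obtain ⟨k, rfl⟩ : ∃ k : ℕ, s = t + k := ⟨(s - t).toNat, by omega⟩
  clear hs
  induction k with
  | zero => simpa using h
  | succ k ih =>
    intro i hi
    rw [show t + ((k + 1 : ℕ) : ℤ) - i = t + k + 1 - i by push_cast; ring]
    exact vanH_next_total hhom ℳ hl ih i hi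

/-- the generation criterion -/
theorem mem_smul_of_vanH (hhom : a.toIdeal = Ideal.span (𝒜 1 : Set R)) {M : Type u} [AddCommGroup M] [Module R M]
    (ℳ : ℤ → AddSubgroup M) [Decomposition ℳ] [SetLike.GradedSMul 𝒜 ℳ] {n : ℤ} (h0 : VanH a ℳ 0 n)
    (h : ∀ i, 1 ≤ i → VanH a ℳ i (n - i)) {m : M} (hm : m ∈ ℳ n) : m ∈ a.toIdeal • (⊤ : Submodule R M) := by
  obtain ⟨S, hS, ⟨C⟩⟩ := exists_linCx_of_homog hhom (GrLC.GMod.of 𝒜 M ℳ)
  obtain ⟨b, hb⟩ := exists_vanH_bound (a := a)
  let : Decomposition (GrInj18.subGr (C.X 1).gr (cyc C.X C.d 1)) :=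
    (GrInj18.subGr_isInternal _ (isHomogeneous_cyc C 1)).chooseDecomposition
  let : Decomposition (GrInj18.subGr (C.X 0).gr (LinearMap.range (C.d 0))) :=
    (GrInj18.subGr_isInternal _ (isHomogeneous_range _ _ (C.dgr 0))).chooseDecomposition
  have hZ := vanH_cyc C hS 1 le_rfl n h (b + 1) 2 1 (by omega) fun i' hi' X k => hb X.carrier X.gr i' k (by omega)
  have hB : VanH a (GrInj18.subGr (C.X 0).gr (LinearMap.range (C.d 0))) 1 n :=
    vanH_range C 0 1 n (by rw [zero_add]; exact h 1 le_rfl) (by simpa [show n + 1 + 1 - (2 : ℤ) = n by ring] using hZ)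
  have hP := isHomogeneous_range _ _ (C.dgr 0)
  let : Decomposition (GrInj18.quotPieces (C.X 0).gr (LinearMap.range (C.d 0))) :=
    (GrInj18.quotPieces_isInternal _ hP).chooseDecomposition
  have T : Ses (GrInj18.subGr (C.X 0).gr (LinearMap.range (C.d 0))) (C.X 0).gr
      (GrInj18.quotPieces (C.X 0).gr (LinearMap.range (C.d 0))) (LinearMap.range (C.d 0)).subtype
      (LinearMap.range (C.d 0)).mkQ 0 :=
    ⟨isGrHomDeg_zero_iff.2 (GrInj18.isGrHom_subtype _ _), GrInj18.isGrHom_mkQ _ _, Submodule.injective_subtype _,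
      LinearMap.exact_subtype_mkQ _, Submodule.mkQ_surjective _⟩
  have hQ : VanH a (GrInj18.quotPieces (C.X 0).gr (LinearMap.range (C.d 0))) 0 n :=
    vanH_right a T (C.van 0 0 n (by rw [Nat.cast_zero, sub_zero]; exact h0)) (by simpa using hB)
  have key : ∀ y : (C.X 0).carrier, y ∈ (C.X 0).gr n → y ∈ a.toIdeal • (⊤ : Submodule R (C.X 0).carrier) := by
    intro y hy
    refine C.im0 ((Submodule.Quotient.mk_eq_zero _).1 (eq_zero_of_vanH_zero a hQ ?_ ⟨y, hy, rfl⟩))
    obtain ⟨k, hk⟩ := isPowerTorsion_homology C hS 0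
      (((LinearMap.range (C.d 0)).comap (cyc C.X C.d 0).subtype).mkQ ⟨y, trivial⟩)
    refine ⟨k, fun r hr => ?_⟩
    show r • (LinearMap.range (C.d 0)).mkQ y = 0
    rw [← map_smul]
    have hk' := hk r hr
    rw [← map_smul] at hk'
    have hk'' := (Submodule.Quotient.mk_eq_zero _).1 hk'
    exact (Submodule.Quotient.mk_eq_zero _).2 hk''
  exact C.transfer (fun X => ∀ y : X.carrier, y ∈ X.gr n → y ∈ a.toIdeal • (⊤ : Submodule R X.carrier)) key m hm

end Groth.Agent.GrMod19
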