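import Groth.Agent.GrMod19.CMTop
import Groth.Agent.LC15.Dim
import Mathlib.RingTheory.Length
import Mathlib.RingTheory.HopkinsLevitzki
import Mathlib.Algebra.Polynomial.AlgebraMap

/-! Hilbert functions and lengths of graded local cohomology: the Grothendieck–Serre formula. -/

universe u

open DirectSum

namespace Groth.Agent.GrMod19

section Len

variable {S : Type*} [CommRing S] {A B : Type*} [AddCommGroup A] [Module S A] [AddCommGroup B] [Module S B]

/-- the length of a submodule as a rational number -/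
noncomputable def len (P : Submodule S A) : ℚ := ((Module.length S P).toNat : ℚ)

lemma len_bot : len (⊥ : Submodule S A) = 0 := by simp [len]

lemma len_of_subsingleton [Subsingleton A] (P : Submodule S A) : len P = 0 := by simp [len]

variable [IsArtinianRing S]

lemma length_ne_top_of_fg {P : Submodule S A} (hP : P.FG) : Module.length S P ≠ ⊤ := by
  have : Module.Finite S P := Module.Finite.iff_fg.2 hP
  have : IsNoetherian S P := isNoetherian_of_isNoetherianRing_of_finite S P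
  exact Module.length_ne_top

lemma eq_bot_of_len_eq_zero {P : Submodule S A} (hP : P.FG) (h : len P = 0) : P = ⊥ := by
  have h0 : (Module.length S P).toNat = 0 := Nat.cast_eq_zero.1 (show ((Module.length S P).toNat : ℚ) = 0 from h)
  have h1 : Module.length S P = 0 :=
    (ENat.toNat_eq_zero.1 h0).resolve_right (length_ne_top_of_fg hP)
  exact (Submodule.subsingleton_iff_eq_bot).1 (Module.length_eq_zero_iff.1 h1)

lemma len_map_add (f : A →ₗ[S] B) {P : Submodule S A} (hP : P.FG) :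
    len P = len (P.map f) + len (P ⊓ LinearMap.ker f) := by
  have hex : Function.Exact (Submodule.inclusion inf_le_left : ↥(P ⊓ LinearMap.ker f) →ₗ[S] P) (f.submoduleMap P) := by
    refine fun y => ⟨fun h => ?_, ?_⟩
    · exact ⟨⟨y, y.2, congrArg Subtype.val h⟩, Subtype.ext rfl⟩
    · rintro ⟨z, rfl⟩
      exact Subtype.ext z.2.2
  have h := Module.length_eq_add_of_exact _ _ (Submodule.inclusion_injective _) (f.submoduleMap_surjective P) hex
  have htop := length_ne_top_of_fg hP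
  rw [h] at htop
  obtain ⟨h1, h2⟩ := WithTop.add_ne_top.1 htop
  rw [len, len, len, h, ENat.toNat_add h1 h2, Nat.cast_add, add_comm]

lemma len_map_of_injective (f : A →ₗ[S] B) (hf : Function.Injective f) {P : Submodule S A} (hP : P.FG) :
    len (P.map f) = len P := by
  rw [len_map_add f hP, LinearMap.ker_eq_bot.2 hf, inf_bot_eq, len_bot, add_zero]

end Len

lemma alternating_sum (a : ℕ → ℚ) : ∀ d : ℕ,
    ∑ i ∈ Finset.range (d + 1), (-1 : ℚ) ^ i * (a i + a (i + 1)) = a 0 + (-1) ^ d * a (d + 1)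
  | 0 => by simp
  | d + 1 => by rw [Finset.sum_range_succ, alternating_sum a d, pow_succ]; ring

variable {R : Type u} [CommRing R] [IsNoetherianRing R] {𝒜 : ℤ → AddSubgroup R} [GradedRing 𝒜]
  {M : Type u} [AddCommGroup M] [Module R M] {ℳ : ℤ → AddSubgroup M} [Decomposition ℳ] [SetLike.GradedSMul 𝒜 ℳ]
  {L : Type u} [AddCommGroup L] [Module R L] {ℒ : ℤ → AddSubgroup L} [Decomposition ℒ] [SetLike.GradedSMul 𝒜 ℒ]
  {N : Type u} [AddCommGroup N] [Module R N] {𝒩 : ℤ → AddSubgroup N} [Decomposition 𝒩] [SetLike.GradedSMul 𝒜 𝒩]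

/-- the Hilbert function -/
noncomputable def hFun (𝒜 : ℤ → AddSubgroup R) [GradedRing 𝒜] (ℳ : ℤ → AddSubgroup M) [SetLike.GradedSMul 𝒜 ℳ] (n : ℤ) : ℚ :=
  len (GrLC.comp 𝒜 ℳ n)

/-- the alternating sum of the lengths of the pieces of local cohomology -/
noncomputable def chi (m : HomogeneousIdeal 𝒜) (d : ℕ) (E : GrLC.StarInjRes 𝒜 ℳ) (n : ℤ) : ℚ :=
  ∑ i ∈ Finset.range (d + 1), (-1 : ℚ) ^ i * len (E.Hcomp m i n)

omit [IsNoetherianRing R] in
/-- vanishing only depends on the torsion functor -/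
lemma vanH_of_gam_eq {a b : HomogeneousIdeal 𝒜}
    (h : ∀ (X : Type u) [AddCommGroup X] [Module R X], GrLC.gam a.toIdeal X = GrLC.gam b.toIdeal X)
    {i : ℕ} {n : ℤ} (hv : VanH a ℳ i n) : VanH b ℳ i n := by
  intro E
  refine (Submodule.eq_bot_iff _).2 fun y hy => ?_
  obtain ⟨z, hz, rfl⟩ := hy
  have hzc : (z : (E.X i).carrier) ∈ E.cocyc a i := ⟨(h _).ge z.2.1, z.2.2⟩
  have h0 : E.toH a i ⟨z, hzc⟩ = 0 := by
    rw [← Submodule.mem_bot (GrLC.deg0 𝒜), ← hv E]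
    exact ⟨⟨z, hzc⟩, hz, rfl⟩
  have hcob0 := (Submodule.Quotient.mk_eq_zero _).1 h0
  have hcob : (z : (E.X i).carrier) ∈ E.cobdy a i := hcob0
  refine (Submodule.Quotient.mk_eq_zero _).2 ?_
  show (z : (E.X i).carrier) ∈ E.cobdy b i
  cases i with
  | zero => exact hcob
  | succ i =>
    obtain ⟨w, hw, hwz⟩ := hcob
    exact ⟨w, (h _).le hw, hwz⟩

variable [IsArtinianRing (GrLC.deg0 𝒜)] (hpos : NonnegGr 𝒜) {m : HomogeneousIdeal 𝒜} (hm : GrLC.IsStarLocal 𝒜 m)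
include hpos hm

lemma fg_Hcomp {M : Type u} [AddCommGroup M] [Module R M] [Module.Finite R M] {ℳ : ℤ → AddSubgroup M}
    [Decomposition ℳ] [SetLike.GradedSMul 𝒜 ℳ] (E : GrLC.StarInjRes 𝒜 ℳ) (i : ℕ) (n : ℤ) :
    (E.Hcomp m i n).FG := by
  have ha := isPlus_irrel (R := R) (𝒜 := 𝒜) hpos
  obtain ⟨hle, hmax⟩ := plus_le_and_isMaximal hpos hm ha
  have hA := (jGood hpos ha hle hmax i M ℳ E).1 n
  have : IsNoetherian (GrLC.deg0 𝒜) (E.Hcomp m i n) := IsSemiprimaryRing.isNoetherian_iff_isArtinian.2 hA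
  exact Module.Finite.iff_fg.1 inferInstance

lemma fg_comp {M : Type u} [AddCommGroup M] [Module R M] [Module.Finite R M] (ℳ : ℤ → AddSubgroup M)
    [Decomposition ℳ] [SetLike.GradedSMul 𝒜 ℳ] (n : ℤ) : (GrLC.comp 𝒜 ℳ n).FG :=
  Module.Finite.iff_fg.1 (finite_comp hpos (isPlus_irrel (R := R) (𝒜 := 𝒜) hpos) ℳ n)

/-- some power of the maximal homogeneous ideal lies in the irrelevant ideal -/
lemma exists_pow_le_plus {a : HomogeneousIdeal 𝒜} (ha : IsPlus a) : ∃ k : ℕ, m.toIdeal ^ k ≤ a.toIdeal := by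
  have hmax := isMaximal_star hpos hm
  refine Ideal.exists_pow_le_of_le_radical_of_fg (fun x hx => ?_) (IsNoetherian.noetherian _)
  have h1 : x - cmp 𝒜 0 x ∈ a.toIdeal := by
    rw [mem_plus_iff hpos ha, map_sub, cmp_of_mem 𝒜 (cmp_mem 𝒜 0 x), sub_self]
  have h0 : cmp 𝒜 0 x ∈ m.toIdeal := m.isHomogeneous 0 hx
  let y : GrLC.deg0 𝒜 := ⟨cmp 𝒜 0 x, cmp_mem 𝒜 0 x⟩
  obtain ⟨l, c, hc⟩ := IsArtinian.exists_pow_succ_smul_dvd y (1 : GrLC.deg0 𝒜)
  have hc' : y ^ l * (1 - y * c) = 0 := by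
    rw [smul_eq_mul, smul_eq_mul, mul_one] at hc
    rw [mul_sub, mul_one, sub_eq_zero]
    rw [pow_succ, mul_assoc] at hc
    exact hc.symm
  have hu : IsUnit ((1 - y * c : GrLC.deg0 𝒜) : R) := by
    rw [← Ideal.span_singleton_eq_top]
    by_contra hne
    let K : HomogeneousIdeal 𝒜 := ⟨Ideal.span {((1 - y * c : GrLC.deg0 𝒜) : R)},
      Ideal.homogeneous_span 𝒜 _ fun z hz => ⟨0, hz ▸ (1 - y * c).2⟩⟩
    obtain ⟨n, hn, hKn⟩ := exists_le_coatom hpos (I := K) fun h => hne (congrArg HomogeneousIdeal.toIdeal h)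
    rw [hm.2 n hn] at hKn
    have hmem : (1 : R) - cmp 𝒜 0 x * (c : R) ∈ m.toIdeal := hKn (Ideal.subset_span rfl)
    exact hmax.ne_top ((Ideal.eq_top_iff_one _).2 (by
      have h2 := add_mem hmem (m.toIdeal.mul_mem_right (c : R) h0)
      rwa [sub_add_cancel] at h2))
  have hy : cmp 𝒜 0 x ^ l = 0 := hu.mul_left_eq_zero.1 (congrArg Subtype.val hc')
  have hx' : x = (x - cmp 𝒜 0 x) + cmp 𝒜 0 x := (sub_add_cancel _ _).symm
  rw [hx']
  exact add_mem (Ideal.le_radical h1) ⟨l, by rw [hy]; exact zero_mem _⟩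

/-- torsion does not see the difference between the maximal and the irrelevant ideal -/
lemma gam_star_eq {a : HomogeneousIdeal 𝒜} (ha : IsPlus a) {X : Type u} [AddCommGroup X] [Module R X] :
    GrLC.gam m.toIdeal X = GrLC.gam a.toIdeal X := by
  obtain ⟨hle, hmax⟩ := plus_le_and_isMaximal hpos hm ha
  refine le_antisymm (gam_mono hpos ha hle) fun z ⟨e, he⟩ => ?_
  obtain ⟨k, hk⟩ := exists_pow_le_plus hpos hm ha
  exact ⟨k * e, fun r hr => he r (Ideal.pow_right_mono hk e (by rwa [← pow_mul]))⟩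

section Additive

variable [Module.Finite R L] [Module.Finite R M] [Module.Finite R N]
  {f : L →ₗ[R] M} {g : M →ₗ[R] N} {e : ℤ}

lemma hFun_add (S : Ses ℒ ℳ 𝒩 f g e) (n : ℤ) : hFun 𝒜 ℳ n = hFun 𝒜 ℒ (n - e) + hFun 𝒜 𝒩 n := by
  have h1 : (GrLC.comp 𝒜 ℳ n).map (g.restrictScalars (GrLC.deg0 𝒜)) = GrLC.comp 𝒜 𝒩 n := by
    refine le_antisymm ?_ fun z hz => ?_
    · rintro _ ⟨y, hy, rfl⟩
      exact S.hg n y hy
    · obtain ⟨y, hy, rfl⟩ := exists_homog_preimage ℳ 𝒩 S.hg (LinearMap.range_eq_top.2 S.surj ▸ Submodule.mem_top) hz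
      exact ⟨y, hy, rfl⟩
  have h2 : GrLC.comp 𝒜 ℳ n ⊓ LinearMap.ker (g.restrictScalars (GrLC.deg0 𝒜)) =
      (GrLC.comp 𝒜 ℒ (n - e)).map (f.restrictScalars (GrLC.deg0 𝒜)) := by
    refine le_antisymm ?_ ?_
    · rintro y ⟨hy, hy0⟩
      obtain ⟨z, rfl⟩ := (S.exact y).1 hy0
      refine ⟨cmp ℒ (n - e) z, cmp_mem ℒ _ _, ?_⟩
      show f (cmp ℒ (n - e) z) = f z
      rw [map_cmp_deg ℒ ℳ S.hf, sub_add_cancel]
      exact cmp_of_mem ℳ hy
    · rintro _ ⟨z, hz, rfl⟩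
      refine ⟨?_, (S.exact _).2 ⟨z, rfl⟩⟩
      have h3 := S.hf (n - e) z hz
      rwa [sub_add_cancel] at h3
  rw [hFun, len_map_add (g.restrictScalars (GrLC.deg0 𝒜)) (fg_comp hpos hm ℳ n), h1, h2,
    len_map_of_injective (f.restrictScalars (GrLC.deg0 𝒜)) S.inj (fg_comp hpos hm ℒ _), hFun, hFun, add_comm]

/-- the lengths along the long exact sequence -/
lemma chi_add (S : Ses ℒ ℳ 𝒩 f g e) {d : ℕ} (hd : LocCoh.CdLE R m.toIdeal d) (D : GrLC.StarInjRes 𝒜 ℒ)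
    (E : GrLC.StarInjRes 𝒜 ℳ) (G : GrLC.StarInjRes 𝒜 𝒩) (n : ℤ) :
    chi m d E n = chi m d D (n - e) + chi m d G n := by
  obtain ⟨δ, hδ, hex1, hex2, hex3, hinj⟩ := exists_les D E G S m
  let p := fun i => (hMap D E m f S.hf i).restrictScalars (GrLC.deg0 𝒜)
  let q := fun i => (hMap E G m g (isGrHomDeg_zero_iff.2 S.hg) i).restrictScalars (GrLC.deg0 𝒜)
  let ε := fun i => (δ i).restrictScalars (GrLC.deg0 𝒜)
  let a : ℕ → ℚ := fun i => len (D.Hcomp m i (n - e) ⊓ LinearMap.ker (p i))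
  have hE : ∀ i, E.Hcomp m i n ⊓ LinearMap.ker (q i) = (D.Hcomp m i (n - e)).map (p i) := fun i => by
    refine le_antisymm ?_ ?_
    · rintro y ⟨hy, hy0⟩
      obtain ⟨z, hz, hzy⟩ := exists_Hcomp_preimage D m E (g := n - e) (hMap_deg (E := D) (F := E) m S.hf i)
        (by rwa [sub_add_cancel]) ((hex1 i y).1 hy0)
      exact ⟨z, hz, hzy⟩
    · rintro _ ⟨z, hz, rfl⟩
      refine ⟨?_, (hex1 i _).2 ⟨z, rfl⟩⟩
      have h3 := hMap_mem_Hcomp m D E S.hf hz
      rwa [sub_add_cancel] at h3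
  have hG : ∀ i, G.Hcomp m i n ⊓ LinearMap.ker (ε i) = (E.Hcomp m i n).map (q i) := fun i => by
    refine le_antisymm ?_ ?_
    · rintro y ⟨hy, hy0⟩
      obtain ⟨z, hz, hzy⟩ := exists_Hcomp_preimage E m G (g := n)
        (hMap_deg (E := E) (F := G) m (isGrHomDeg_zero_iff.2 S.hg) i) (by rwa [add_zero]) ((hex2 i y).1 hy0)
      exact ⟨z, hz, hzy⟩
    · rintro _ ⟨z, hz, rfl⟩
      exact ⟨hMap_mem_Hcomp₀ m E G _ hz, (hex2 i _).2 ⟨z, rfl⟩⟩
  have hD : ∀ i, D.Hcomp m (i + 1) (n - e) ⊓ LinearMap.ker (p (i + 1)) = (G.Hcomp m i n).map (ε i) := fun i => by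
    refine le_antisymm ?_ ?_
    · rintro y ⟨hy, hy0⟩
      obtain ⟨z, hz, hzy⟩ := exists_Hcomp_preimage G m D (g := n) (hδ i) (by rwa [← sub_eq_add_neg])
        ((hex3 i y).1 hy0)
      exact ⟨z, hz, hzy⟩
    · rintro _ ⟨z, hz, rfl⟩
      refine ⟨?_, (hex3 i _).2 ⟨z, rfl⟩⟩
      have h3 : δ i z ∈ D.Hcomp m (i + 1) (n + -e) := hδ i n z hz
      rwa [← sub_eq_add_neg] at h3
  have key : ∀ i, len (E.Hcomp m i n) = len (D.Hcomp m i (n - e)) + len (G.Hcomp m i n) - (a i + a (i + 1)) :=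
    fun i => by
    have e1 := len_map_add (q i) (fg_Hcomp hpos hm E i n)
    have e2 := len_map_add (p i) (fg_Hcomp hpos hm D i (n - e))
    have e3 := len_map_add (ε i) (fg_Hcomp hpos hm G i n)
    rw [hE i] at e1
    rw [hG i, ← hD i] at e3
    show _ = _ - (len (D.Hcomp m i (n - e) ⊓ LinearMap.ker (p i)) + len (D.Hcomp m (i + 1) (n - e) ⊓ LinearMap.ker (p (i + 1))))
    linarith
  have ha0 : a 0 = 0 := by
    show len _ = 0
    rw [show LinearMap.ker (p 0) = ⊥ from LinearMap.ker_eq_bot.2 hinj, inf_bot_eq, len_bot]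
  have had : a (d + 1) = 0 := by
    obtain ⟨e'⟩ := nonempty_H_equiv D m (d + 1)
    have := hd L (d + 1) (Nat.lt_succ_self d)
    have := e'.toEquiv.subsingleton
    exact len_of_subsingleton _
  have hsum := alternating_sum a d
  rw [ha0, had] at hsum
  simp only [chi, key, mul_sub, mul_add, Finset.sum_sub_distrib, Finset.sum_add_distrib] at hsum ⊢
  linarith

end Additive

omit [IsArtinianRing (GrLC.deg0 𝒜)] hpos hm in
lemma fg_of_gam_top {M : Type u} [AddCommGroup M] [Module R M] {ℳ : ℤ → AddSubgroup M}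
    [Decomposition ℳ] [SetLike.GradedSMul 𝒜 ℳ] (E : GrLC.StarInjRes 𝒜 ℳ) (h : GrLC.gam m.toIdeal M = ⊤) (n : ℤ) :
    ∃ φ : M →ₗ[R] E.H m 0, Function.Injective φ ∧
      (GrLC.comp 𝒜 ℳ n).map (φ.restrictScalars (GrLC.deg0 𝒜)) = E.Hcomp m 0 n := by
  refine ⟨zeroMap E m ∘ₗ (LinearEquiv.ofTop _ h).symm.toLinearMap,
    (zeroMap_injective E m).comp (LinearEquiv.ofTop _ h).symm.injective, le_antisymm ?_ fun z hz => ?_⟩
  · rintro _ ⟨y, hy, rfl⟩
    exact zeroMap_mem E m hy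
  · obtain ⟨y, hy, rfl⟩ := exists_zeroMap_of_mem E m hz
    exact ⟨y, hy, rfl⟩

/-- bounded modules: the formula with zero polynomial -/
lemma hFun_eq_chi_of_bounded {M : Type u} [AddCommGroup M] [Module R M] [Module.Finite R M] {ℳ : ℤ → AddSubgroup M}
    [Decomposition ℳ] [SetLike.GradedSMul 𝒜 ℳ] (E : GrLC.StarInjRes 𝒜 ℳ) (d : ℕ) {r : ℤ}
    (h : ∀ n, r ≤ n → ∀ x ∈ ℳ n, x = 0) (n : ℤ) : hFun 𝒜 ℳ n = chi m d E n := by
  have ha := isPlus_irrel (R := R) (𝒜 := 𝒜) hpos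
  have hgam : GrLC.gam m.toIdeal M = ⊤ := by
    rw [gam_star_eq hpos hm ha]
    exact eq_top_iff.2 fun z _ => isPowerTorsion_of_bounded ℳ hpos ha h z
  have htors : LocCoh.IsPowerTorsion m.toIdeal M := fun z =>
    show z ∈ GrLC.gam m.toIdeal M by rw [hgam]; trivial
  rw [chi, Finset.sum_range_succ']
  have hz : ∀ i, (-1 : ℚ) ^ (i + 1) * len (E.Hcomp m (i + 1) n) = 0 := fun i => by
    have := subsingleton_H_of_torsion E m htors (Nat.succ_pos i)
    rw [len_of_subsingleton, mul_zero]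
  rw [Finset.sum_eq_zero fun i _ => hz i, zero_add, pow_zero, one_mul]
  obtain ⟨φ, hφ, hmap⟩ := fg_of_gam_top E hgam n
  rw [← hmap, len_map_of_injective (φ.restrictScalars (GrLC.deg0 𝒜)) hφ (fg_comp hpos hm ℳ n)]
  rfl

omit hpos hm [IsArtinianRing (GrLC.deg0 𝒜)] in
lemma degree_sub_comp_lt (P : Polynomial ℚ) (hP : P ≠ 0) (k : ℚ) :
    (P - P.comp (Polynomial.X - Polynomial.C k)).degree < P.degree := by
  have hne : P.comp (Polynomial.X - Polynomial.C k) ≠ 0 := fun h => hP (by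
    have h' := congrArg (fun Q : Polynomial ℚ => Q.comp (Polynomial.X + Polynomial.C k)) h
    simpa [Polynomial.comp_assoc] using h')
  refine Polynomial.degree_sub_lt_left ?_ hP ?_
  · rw [Polynomial.degree_eq_natDegree hP, Polynomial.degree_eq_natDegree hne, Polynomial.natDegree_comp,
      Polynomial.natDegree_X_sub_C, mul_one]
  · rw [Polynomial.leadingCoeff_comp (by rw [Polynomial.natDegree_X_sub_C]; exact one_ne_zero),
      Polynomial.leadingCoeff_X_sub_C, one_pow, mul_one]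

/-- the Grothendieck–Serre formula -/
theorem serre_formula {d : ℕ} (hd : LocCoh.CdLE R m.toIdeal d) :
    ∀ (μ : ℕ) (M : Type u) [AddCommGroup M] [Module R M] [Module.Finite R M] (ℳ : ℤ → AddSubgroup M)
      [Decomposition ℳ] [SetLike.GradedSMul 𝒜 ℳ] (P : Polynomial ℚ), P.degree < (μ : WithBot ℕ) →
      (∃ r : ℤ, ∀ n, r ≤ n → P.eval (n : ℚ) = hFun 𝒜 ℳ n) →
      ∀ (E : GrLC.StarInjRes 𝒜 ℳ) (n : ℤ), hFun 𝒜 ℳ n - P.eval (n : ℚ) = chi m d E n := by
  have ha := isPlus_irrel (R := R) (𝒜 := 𝒜) hpos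
  intro μ
  induction μ using Nat.strong_induction_on with
  | _ μ ih =>
    intro M _ _ _ ℳ _ _ P hdeg hP E n
    obtain ⟨r, hr⟩ := hP
    by_cases hP0 : P = 0
    · have hbd : ∀ n, r ≤ n → ∀ x ∈ ℳ n, x = 0 := fun n hn x hx => by
        have h0 : GrLC.comp 𝒜 ℳ n = ⊥ := eq_bot_of_len_eq_zero (fg_comp hpos hm ℳ n) (by
          have h1 := hr n hn
          rw [hP0, Polynomial.eval_zero] at h1
          exact h1.symm)
        exact (Submodule.eq_bot_iff _).1 h0 x hx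
      rw [hP0, Polynomial.eval_zero, sub_zero, hFun_eq_chi_of_bounded hpos hm E d hbd]
    obtain ⟨μ', rfl⟩ : ∃ μ', μ = μ' + 1 := ⟨μ - 1, by
      rcases Nat.eq_zero_or_pos μ with h | h
      · subst h
        exact absurd (Polynomial.degree_eq_bot.1 (Nat.WithBot.lt_zero_iff.1 (by exact_mod_cast hdeg))) hP0
      · omega⟩
    let Γ := GrLC.gam (GrSyz.irrel 𝒜).toIdeal M
    have hΓ : Γ.IsHomogeneous ℳ := isHomogeneous_gam ℳ _
    let : Decomposition (GrInj18.subGr ℳ Γ) := (GrInj18.subGr_isInternal ℳ hΓ).chooseDecomposition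
    let : Decomposition (GrInj18.quotPieces ℳ Γ) := (GrInj18.quotPieces_isInternal ℳ hΓ).chooseDecomposition
    obtain ⟨D⟩ := GrInj18.nonempty_starInjRes 𝒜 (GrInj18.subGr ℳ Γ)
    obtain ⟨G⟩ := GrInj18.nonempty_starInjRes 𝒜 (GrInj18.quotPieces ℳ Γ)
    have S : Ses (GrInj18.subGr ℳ Γ) ℳ (GrInj18.quotPieces ℳ Γ) Γ.subtype Γ.mkQ 0 :=
      ⟨isGrHomDeg_zero_iff.2 (GrInj18.isGrHom_subtype ℳ Γ), GrInj18.isGrHom_mkQ ℳ Γ, Γ.injective_subtype,
        LinearMap.exact_subtype_mkQ Γ, Γ.mkQ_surjective⟩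
    have : IsNoetherian R M := isNoetherian_of_isNoetherianRing_of_finite R M
    obtain ⟨r₁, hr₁⟩ := exists_bound_of_torsion hpos ha ℳ Γ hΓ (IsNoetherian.noetherian _) le_rfl
    have hΓbd : ∀ n, r₁ ≤ n → ∀ x ∈ GrInj18.subGr ℳ Γ n, x = 0 := fun n hn x hx =>
      Subtype.ext (hr₁ n hn x x.2 hx)
    have hΓ0 : ∀ n, r₁ ≤ n → hFun 𝒜 (GrInj18.subGr ℳ Γ) n = 0 := fun n hn => by
      rw [hFun, show GrLC.comp 𝒜 (GrInj18.subGr ℳ Γ) n = ⊥ from (Submodule.eq_bot_iff _).2 (hΓbd n hn), len_bot]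
    suffices hQ : ∀ n, hFun 𝒜 (GrInj18.quotPieces ℳ Γ) n - P.eval (n : ℚ) = chi m d G n by
      rw [hFun_add hpos hm S, chi_add hpos hm S hd D E G, sub_zero,
        hFun_eq_chi_of_bounded hpos hm D d hΓbd, ← hQ n]
      ring
    have hrQ : ∀ n, max r r₁ ≤ n → P.eval (n : ℚ) = hFun 𝒜 (GrInj18.quotPieces ℳ Γ) n := fun n hn => by
      rw [hr n (le_of_max_le_left hn), hFun_add hpos hm S n, sub_zero, hΓ0 n (le_of_max_le_right hn), zero_add]
    obtain ⟨k, x, hk, hx, hreg⟩ := exists_regular_homog hpos ha (gam_quot_gam_eq_bot (M := M) (GrSyz.irrel 𝒜).toIdeal)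
    obtain ⟨hle, hmax⟩ := plus_le_and_isMaximal hpos hm ha
    have hxm : x ∈ m.toIdeal := hle (mem_plus_of_mem ha hk hx)
    let f : (M ⧸ Γ) →ₗ[R] (M ⧸ Γ) := x • LinearMap.id
    have hf : GrLC.IsGrHomDeg (GrInj18.quotPieces ℳ Γ) (GrInj18.quotPieces ℳ Γ) f k := fun g z hz => by
      rw [add_comm]
      exact smul_mem_add 𝒜 (GrInj18.quotPieces ℳ Γ) hx hz
    let P₁ := LinearMap.range f
    have hP₁ : P₁.IsHomogeneous (GrInj18.quotPieces ℳ Γ) := by
      rintro g _ ⟨z, rfl⟩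
      refine ⟨cmp (GrInj18.quotPieces ℳ Γ) (g - k) z, ?_⟩
      have := map_cmp_deg (GrInj18.quotPieces ℳ Γ) (GrInj18.quotPieces ℳ Γ) hf (g - k) z
      rwa [sub_add_cancel] at this
    let : Decomposition (GrInj18.quotPieces (GrInj18.quotPieces ℳ Γ) P₁) :=
      (GrInj18.quotPieces_isInternal _ hP₁).chooseDecomposition
    obtain ⟨G'⟩ := GrInj18.nonempty_starInjRes 𝒜 (GrInj18.quotPieces (GrInj18.quotPieces ℳ Γ) P₁)
    have S' : Ses (GrInj18.quotPieces ℳ Γ) (GrInj18.quotPieces ℳ Γ)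
        (GrInj18.quotPieces (GrInj18.quotPieces ℳ Γ) P₁) f P₁.mkQ k :=
      ⟨hf, GrInj18.isGrHom_mkQ _ P₁, hreg, LinearMap.exact_map_mkQ_range f, P₁.mkQ_surjective⟩
    let P' := P - P.comp (Polynomial.X - Polynomial.C (k : ℚ))
    have hev : ∀ n : ℤ, P'.eval (n : ℚ) = P.eval (n : ℚ) - P.eval ((n - k : ℤ) : ℚ) := fun n => by
      simp [P', Polynomial.eval_comp]
    have hdeg' : P'.degree < (μ' : WithBot ℕ) := by
      refine (degree_sub_comp_lt P hP0 _).trans_le ?_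
      rw [Polynomial.degree_eq_natDegree hP0] at hdeg ⊢
      norm_cast at hdeg ⊢
      omega
    have hQ' := ih μ' (Nat.lt_succ_self _) _ (GrInj18.quotPieces (GrInj18.quotPieces ℳ Γ) P₁) P' hdeg'
      ⟨max r r₁ + k, fun n hn => by
        rw [hev, hrQ n (by omega), hrQ (n - k) (by omega), hFun_add hpos hm S' n]
        ring⟩ G'
    have hper : ∀ n, hFun 𝒜 (GrInj18.quotPieces ℳ Γ) n - P.eval (n : ℚ) - chi m d G n =
        hFun 𝒜 (GrInj18.quotPieces ℳ Γ) (n - k) - P.eval ((n - k : ℤ) : ℚ) - chi m d G (n - k) := fun n => by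
      have h1 := hQ' n
      rw [hev] at h1
      rw [hFun_add hpos hm S' n, chi_add hpos hm S' hd G G G' n]
      linarith
    choose rr hrr using fun i => (jGood hpos ha hle hmax i _ (GrInj18.quotPieces ℳ Γ) G).2.1
    obtain ⟨b, hb⟩ := ((Finset.range (d + 1)).image rr).exists_le
    have hchi : ∀ n, b ≤ n → chi m d G n = 0 := fun n hn => Finset.sum_eq_zero fun i hi => by
      rw [hrr i n ((hb _ (Finset.mem_image_of_mem rr hi)).trans hn), len_bot, mul_zero]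
    intro n
    suffices hall : ∀ (j : ℕ) (n : ℤ), max b (max r r₁) ≤ n + j →
        hFun 𝒜 (GrInj18.quotPieces ℳ Γ) n - P.eval (n : ℚ) - chi m d G n = 0 by
      exact sub_eq_zero.1 (hall (max b (max r r₁) - n).toNat n (by omega))
    intro j
    induction j using Nat.strong_induction_on with
    | _ j ihj =>
      intro n hn
      rcases le_or_gt (max b (max r r₁)) n with h | h
      · rw [hchi n (le_of_max_le_left h), hrQ n (le_of_max_le_right h), sub_self, sub_zero]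
      · have h1 := hper (n + k)
        rw [add_sub_cancel_right] at h1
        rw [← h1]
        exact ihj (j - k.toNat) (by omega) (n + k) (by omega)

end Groth.Agent.GrMod19
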