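import Groth.Agent.GrMod19.Comparison

/-! The long exact sequence of graded local cohomology. -/

universe u

open DirectSum

namespace Groth.Agent.GrMod19

variable {ι : Type} [AddCommGroup ι] [DecidableEq ι]
variable {R : Type u} [CommRing R] {σ : Type u} [SetLike σ R] [AddSubgroupClass σ R] {𝒜 : ι → σ} [GradedRing 𝒜]

section Prod

/-- the pieces of a product of graded modules, the first shifted by `c` -/
def prodPiece (X Y : GrLC.GMod.{u} 𝒜) (c : ι) (g : ι) : AddSubgroup (X.carrier × Y.carrier) :=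
  (X.gr (g + c)).prod (Y.gr g)

/-- the product of two graded modules, the first shifted by `c` -/
noncomputable def prodG (X Y : GrLC.GMod.{u} 𝒜) (c : ι) : GrLC.GMod.{u} 𝒜 where
  carrier := X.carrier × Y.carrier
  gr := prodPiece X Y c
  dec := (isInternal_of_proj (fun g => AddMonoidHom.prodMap (cmp X.gr (g + c)) (cmp Y.gr g)) (prodPiece X Y c)
    (fun g m => AddSubgroup.mem_prod.2 ⟨cmp_mem X.gr _ _, cmp_mem Y.gr _ _⟩) (fun g m hm => Prod.ext (cmp_of_mem _ hm.1) (cmp_of_mem _ hm.2))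
    (fun g e m hm hne => Prod.ext (cmp_of_ne _ hm.1 fun h => hne (add_right_cancel h)) (cmp_of_ne _ hm.2 hne))
    (fun m => by
      classical
      let t : Finset ι := (finite_cmp_ne_zero X.gr m.1).toFinset.image (· - c) ∪ (finite_cmp_ne_zero Y.gr m.2).toFinset
      refine ⟨t, Prod.ext ?_ ?_⟩
      · rw [Prod.fst_sum]
        refine eq_of_cmp X.gr fun d => ?_
        show cmp X.gr d (∑ g ∈ t, cmp X.gr (g + c) m.1) = _
        rw [map_sum, Finset.sum_eq_single (d - c)]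
        · rw [sub_add_cancel, cmp_of_mem _ (cmp_mem _ _ _)]
        · exact fun g _ hg => cmp_of_ne _ (cmp_mem _ _ _) fun h => hg (by rw [← h]; abel)
        · intro h
          have : cmp X.gr d m.1 = 0 := by
            by_contra h'
            exact h (Finset.mem_union_left _ (Finset.mem_image.2 ⟨d, (Set.Finite.mem_toFinset _).2 h', rfl⟩))
          rw [sub_add_cancel, this, map_zero]
      · rw [Prod.snd_sum]
        refine eq_of_cmp Y.gr fun d => ?_
        show cmp Y.gr d (∑ g ∈ t, cmp Y.gr g m.2) = _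
        rw [map_sum, Finset.sum_eq_single d]
        · rw [cmp_of_mem _ (cmp_mem _ _ _)]
        · exact fun g _ hg => cmp_of_ne _ (cmp_mem _ _ _) hg
        · intro h
          have : cmp Y.gr d m.2 = 0 := by
            by_contra h'
            exact h (Finset.mem_union_right _ ((Set.Finite.mem_toFinset _).2 h'))
          rw [this, map_zero])).chooseDecomposition
  gsmul := ⟨fun {i j} r m hr hm => ⟨by
    have := smul_mem_add 𝒜 X.gr hr hm.1
    rwa [← add_assoc] at this, smul_mem_add 𝒜 Y.gr hr hm.2⟩⟩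

lemma isStarInj_prodG (X Y : GrLC.GMod.{u} 𝒜) (c : ι) (hX : GrLC.IsStarInj 𝒜 X.gr)
    (hY : GrLC.IsStarInj 𝒜 Y.gr) : GrLC.IsStarInj 𝒜 (prodG X Y c).gr := by
  intro A B f hf hinj g hg
  let g' : A.carrier →ₗ[R] X.carrier × Y.carrier := g
  let g₁ : A.carrier →ₗ[R] X.carrier := LinearMap.fst R X.carrier Y.carrier ∘ₗ g'
  let g₂ : A.carrier →ₗ[R] Y.carrier := LinearMap.snd R X.carrier Y.carrier ∘ₗ g'
  have hg' : ∀ i m, m ∈ A.gr i → g' m ∈ prodPiece X Y c i := hg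
  obtain ⟨h₁, hh₁, e₁⟩ := exists_extend hX A B f hf hinj g₁ c (fun i m hm => (AddSubgroup.mem_prod.1 (hg' i m hm)).1)
  obtain ⟨h₂, hh₂, e₂⟩ := hY A B f hf hinj g₂ (fun i m hm => (AddSubgroup.mem_prod.1 (hg' i m hm)).2)
  let h' : B.carrier →ₗ[R] (prodG X Y c).carrier := LinearMap.prod h₁ h₂
  exact ⟨h', fun i m hm => AddSubgroup.mem_prod.2 ⟨hh₁ i m hm, hh₂ i m hm⟩,
    LinearMap.ext fun x => Prod.ext (LinearMap.congr_fun e₁ x) (LinearMap.congr_fun e₂ x)⟩

end Prod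

section SelfN

variable {N : Type u} [AddCommGroup N] [Module R N] {τ' : Type u} [SetLike τ' N] [AddSubgroupClass τ' N]
  (𝒩 : ι → τ')

/-- the pieces as additive subgroups -/
def selfN (g : ι) : AddSubgroup N where
  carrier := 𝒩 g
  add_mem' := fun ha hb => add_mem ha hb
  zero_mem' := zero_mem _
  neg_mem' := fun ha => neg_mem ha

noncomputable instance selfN_dec [Decomposition 𝒩] : Decomposition (selfN 𝒩) :=
  (isInternal_of_proj (cmp 𝒩) _ (fun g m => cmp_mem 𝒩 g m) (fun _ _ hm => cmp_of_mem 𝒩 hm)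
    (fun _ _ _ hm hne => cmp_of_ne 𝒩 hm hne) (exists_sum_cmp 𝒩)).chooseDecomposition

instance selfN_gsmul [SetLike.GradedSMul 𝒜 𝒩] : SetLike.GradedSMul 𝒜 (selfN 𝒩) :=
  ⟨fun {i j} c m hc hm => SetLike.GradedSMul.smul_mem (A := 𝒜) (B := 𝒩) hc hm⟩

end SelfN

variable {M : Type u} [AddCommGroup M] [Module R M] {τ : Type u} [SetLike τ M] [AddSubgroupClass τ M]
  {ℳ : ι → τ} [Decomposition ℳ] [SetLike.GradedSMul 𝒜 ℳ] (E : GrLC.StarInjRes 𝒜 ℳ)
  {N : Type u} [AddCommGroup N] [Module R N] {τ' : Type u} [SetLike τ' N] [AddSubgroupClass τ' N]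
  {𝒩 : ι → τ'} [Decomposition 𝒩] [SetLike.GradedSMul 𝒜 𝒩]
  {L : Type u} [AddCommGroup L] [Module R L] {τ'' : Type u} [SetLike τ'' L] [AddSubgroupClass τ'' L]
  {ℒ : ι → τ''} [Decomposition ℒ] [SetLike.GradedSMul 𝒜 ℒ] (G : GrLC.StarInjRes 𝒜 ℒ)

/-- a short exact sequence of graded modules -/
structure Ses (ℳ : ι → τ) (𝒩 : ι → τ') (ℒ : ι → τ'') (f : M →ₗ[R] N) (g : N →ₗ[R] L) (e : ι) : Prop where
  hf : GrLC.IsGrHomDeg ℳ 𝒩 f e
  hg : GrLC.IsGrHom 𝒩 ℒ g
  inj : Function.Injective f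
  exact : Function.Exact f g
  surj : Function.Surjective g

/-- the gluing data of two resolutions along a short exact sequence -/
structure Glue (f : M →ₗ[R] N) (g : N →ₗ[R] L) (e : ι) where
  h : N →ₗ[R] (E.X 0).carrier
  hdeg : GrLC.IsGrHomDeg 𝒩 (E.X 0).gr h (-e)
  hf : ∀ m, h (f m) = E.ε m
  s : ∀ n, (G.X n).carrier →ₗ[R] (E.X (n + 1)).carrier
  sdeg : ∀ n, GrLC.IsGrHomDeg (G.X n).gr (E.X (n + 1)).gr (s n) (-e)
  szero : ∀ x, E.d 0 (h x) + s 0 (G.ε (g x)) = 0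
  ssucc : ∀ n b, E.d (n + 1) (s n b) + s (n + 1) (G.d n b) = 0

/-- recursion datum -/
def GlueData (e : ι) (n : ℕ) : Type u :=
  {s : (G.X n).carrier →ₗ[R] (E.X (n + 1)).carrier //
    GrLC.IsGrHomDeg (G.X n).gr (E.X (n + 1)).gr s (-e) ∧ LinearMap.ker (G.d n) ≤ LinearMap.ker (E.d (n + 1) ∘ₗ s)}

lemma exists_glue_next {e : ι} {n : ℕ} (p : GlueData E G e n) :
    ∃ s : (G.X (n + 1)).carrier →ₗ[R] (E.X (n + 2)).carrier,
      GrLC.IsGrHomDeg (G.X (n + 1)).gr (E.X (n + 2)).gr s (-e) ∧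
      (∀ b, E.d (n + 1) (p.1 b) + s (G.d n b) = 0) ∧
      LinearMap.ker (G.d (n + 1)) ≤ LinearMap.ker (E.d (n + 2) ∘ₗ s) := by
  obtain ⟨s, hs, hcomm⟩ := exists_factor₀ (E.starInj (n + 2)) (G.X (n + 1)) (d := -e) (G.d n) (G.d_grHom n)
    (-(E.d (n + 1) ∘ₗ p.1)) (fun i m hm => neg_mem (E.d_grHom (n + 1) _ _ (p.2.1 i m hm)))
    (fun x hx => by
      have h := p.2.2 hx
      rw [LinearMap.mem_ker] at h ⊢
      rw [LinearMap.neg_apply, h, neg_zero])
  have hc : ∀ b, E.d (n + 1) (p.1 b) + s (G.d n b) = 0 := fun b => by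
    rw [show s (G.d n b) = -E.d (n + 1) (p.1 b) from LinearMap.congr_fun hcomm b, add_neg_cancel]
  refine ⟨s, hs, hc, ?_⟩
  rw [G.exact_succ]
  rintro _ ⟨x, rfl⟩
  rw [LinearMap.mem_ker, LinearMap.comp_apply,
    show s (G.d n x) = -E.d (n + 1) (p.1 x) from LinearMap.congr_fun hcomm x, map_neg, d_comp_d, neg_zero]

lemma exists_glue_zero {f : M →ₗ[R] N} {g : N →ₗ[R] L} {e : ι} (S : Ses ℳ 𝒩 ℒ f g e)
    (h : N →ₗ[R] (E.X 0).carrier) (hdeg : GrLC.IsGrHomDeg 𝒩 (E.X 0).gr h (-e)) (hh : ∀ m, h (f m) = E.ε m) :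
    ∃ s : (G.X 0).carrier →ₗ[R] (E.X 1).carrier, GrLC.IsGrHomDeg (G.X 0).gr (E.X 1).gr s (-e) ∧
      (∀ x, E.d 0 (h x) + s (G.ε (g x)) = 0) ∧ LinearMap.ker (G.d 0) ≤ LinearMap.ker (E.d 1 ∘ₗ s) := by
  obtain ⟨s, hs, hcomm⟩ := exists_factor₀ (E.starInj 1) (G.X 0) (d := -e) (G.ε ∘ₗ g)
    (fun i m hm => G.ε_grHom _ _ (S.hg i m hm))
    (-(E.d 0 ∘ₗ h)) (fun i m hm => neg_mem (E.d_grHom 0 _ _ (hdeg i m hm)))
    (fun x hx => by
      rw [LinearMap.mem_ker, LinearMap.comp_apply, ← map_zero G.ε] at hx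
      obtain ⟨m, rfl⟩ := (S.exact x).1 (G.ε_injective hx)
      rw [LinearMap.mem_ker, LinearMap.neg_apply, LinearMap.comp_apply, hh, d_comp_ε, neg_zero])
  have hc : ∀ x, E.d 0 (h x) + s (G.ε (g x)) = 0 := fun x => by
    rw [show s (G.ε (g x)) = -E.d 0 (h x) from LinearMap.congr_fun hcomm x, add_neg_cancel]
  refine ⟨s, hs, hc, ?_⟩
  rw [G.exact_zero]
  rintro _ ⟨l, rfl⟩
  obtain ⟨x, rfl⟩ := S.surj l
  rw [LinearMap.mem_ker, LinearMap.comp_apply,
    show s (G.ε (g x)) = -E.d 0 (h x) from LinearMap.congr_fun hcomm x, map_neg, d_comp_d, neg_zero]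

theorem exists_glue {f : M →ₗ[R] N} {g : N →ₗ[R] L} {e : ι} (S : Ses ℳ 𝒩 ℒ f g e) :
    Nonempty (Glue E (𝒩 := 𝒩) G f g e) := by
  have hker : LinearMap.ker f ≤ LinearMap.ker E.ε := by rw [LinearMap.ker_eq_bot.2 S.inj]; exact bot_le
  obtain ⟨h, hdeg, hh⟩ := exists_factor (E.starInj 0) (GrLC.GMod.of 𝒜 N (selfN 𝒩)) (ψ := f) (e := e)
    (fun i m hm => S.hf i m hm) E.ε (d := 0) (fun i m hm => by rw [add_zero]; exact E.ε_grHom i m hm)
    hker
  let h' : N →ₗ[R] (E.X 0).carrier := h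
  have hdeg' : GrLC.IsGrHomDeg 𝒩 (E.X 0).gr h' (-e) := fun i m hm => by
    have := hdeg i m hm
    rwa [zero_sub] at this
  have hh' : ∀ m, h' (f m) = E.ε m := LinearMap.congr_fun hh
  let rec' : ∀ n, GlueData E G e n := fun n => Nat.rec
    ⟨(exists_glue_zero E G S h' hdeg' hh').choose, (exists_glue_zero E G S h' hdeg' hh').choose_spec.1,
      (exists_glue_zero E G S h' hdeg' hh').choose_spec.2.2⟩
    (fun n p => ⟨(exists_glue_next E G p).choose, (exists_glue_next E G p).choose_spec.1,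
      (exists_glue_next E G p).choose_spec.2.2⟩) n
  exact ⟨{ h := h', hdeg := hdeg', hf := hh', s := fun n => (rec' n).1, sdeg := fun n => (rec' n).2.1,
           szero := (exists_glue_zero E G S h' hdeg' hh').choose_spec.2.1,
           ssucc := fun n => (exists_glue_next E G (rec' n)).choose_spec.2.1 }⟩

variable {E G} {f : M →ₗ[R] N} {g : N →ₗ[R] L} {e : ι}

namespace Glue

variable (S : Ses ℳ 𝒩 ℒ f g e) (D : Glue E (𝒩 := 𝒩) G f g e)

/-- the differential of the glued resolution -/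
noncomputable def dd (n : ℕ) :
    (E.X n).carrier × (G.X n).carrier →ₗ[R] (E.X (n + 1)).carrier × (G.X (n + 1)).carrier :=
  LinearMap.prod (E.d n ∘ₗ LinearMap.fst R _ _ + D.s n ∘ₗ LinearMap.snd R _ _) (G.d n ∘ₗ LinearMap.snd R _ _)

lemma dd_apply (n : ℕ) (a : (E.X n).carrier) (b : (G.X n).carrier) :
    D.dd n (a, b) = (E.d n a + D.s n b, G.d n b) := rfl

lemma dd_exact (n : ℕ) : LinearMap.ker (D.dd (n + 1)) = LinearMap.range (D.dd n) := by
  refine le_antisymm ?_ ?_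
  · rintro ⟨a, b⟩ h
    rw [LinearMap.mem_ker, dd_apply, Prod.mk_eq_zero] at h
    obtain ⟨h1, h2⟩ := h
    obtain ⟨b', rfl⟩ : b ∈ LinearMap.range (G.d n) := by rw [← G.exact_succ]; exact h2
    obtain ⟨a', ha'⟩ : a - D.s n b' ∈ LinearMap.range (E.d n) := by
      rw [← E.exact_succ, LinearMap.mem_ker, map_sub, eq_neg_of_add_eq_zero_left (D.ssucc n b'), sub_neg_eq_add]
      exact h1
    exact ⟨(a', b'), by rw [dd_apply, ha', sub_add_cancel]⟩
  · rintro _ ⟨⟨a, b⟩, rfl⟩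
    rw [LinearMap.mem_ker, dd_apply, dd_apply, d_comp_d, map_add, d_comp_d, zero_add, D.ssucc, Prod.mk_eq_zero]
    exact ⟨rfl, rfl⟩

include S

lemma aug_injective : Function.Injective (LinearMap.prod D.h (G.ε ∘ₗ g)) := by
  rw [injective_iff_map_eq_zero]
  intro x hx
  rw [LinearMap.prod_apply, Function.prod_apply, Prod.mk_eq_zero] at hx
  obtain ⟨h1, h2⟩ := hx
  rw [LinearMap.comp_apply, ← map_zero G.ε] at h2
  obtain ⟨m, rfl⟩ := (S.exact x).1 (G.ε_injective h2)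
  rw [D.hf, ← map_zero E.ε] at h1
  rw [E.ε_injective h1, map_zero]

lemma aug_exact : LinearMap.ker (D.dd 0) = LinearMap.range (LinearMap.prod D.h (G.ε ∘ₗ g)) := by
  refine le_antisymm ?_ ?_
  · rintro ⟨a, b⟩ h
    rw [LinearMap.mem_ker, dd_apply, Prod.mk_eq_zero] at h
    obtain ⟨h1, h2⟩ := h
    obtain ⟨l, rfl⟩ : b ∈ LinearMap.range G.ε := by rw [← G.exact_zero]; exact h2
    obtain ⟨x, rfl⟩ := S.surj l
    obtain ⟨m, hm⟩ : a - D.h x ∈ LinearMap.range E.ε := by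
      rw [← E.exact_zero, LinearMap.mem_ker, map_sub, eq_neg_of_add_eq_zero_left (D.szero x), sub_neg_eq_add]
      exact h1
    refine ⟨x + f m, Prod.ext ?_ ?_⟩
    · show D.h (x + f m) = a
      rw [map_add, D.hf, hm, add_sub_cancel]
    · show G.ε (g (x + f m)) = G.ε (g x)
      rw [map_add, S.exact.apply_apply_eq_zero, add_zero]
  · rintro _ ⟨x, rfl⟩
    show D.dd 0 (D.h x, G.ε (g x)) = 0
    rw [dd_apply, D.szero, d_comp_ε]
    rfl

/-- the glued resolution -/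
noncomputable def res : GrLC.StarInjRes 𝒜 𝒩 where
  X n := prodG (E.X n) (G.X n) (-e)
  d n := D.dd n
  ε := LinearMap.prod D.h (G.ε ∘ₗ g)
  d_grHom n i := fun ⟨a, b⟩ hm => by
    obtain ⟨ha, hb⟩ := AddSubgroup.mem_prod.1 hm
    exact AddSubgroup.mem_prod.2 ⟨add_mem (E.d_grHom n _ _ ha) (D.sdeg n i b hb), G.d_grHom n _ _ hb⟩
  ε_grHom i x hx := AddSubgroup.mem_prod.2 ⟨D.hdeg i x hx, G.ε_grHom _ _ (S.hg i x hx)⟩
  ε_injective := D.aug_injective S
  exact_zero := D.aug_exact S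
  exact_succ n := D.dd_exact n
  starInj n := isStarInj_prodG _ _ _ (E.starInj n) (G.starInj n)

/-- the inclusion of the first resolution -/
noncomputable def inMap : ChainMap E (D.res S) f e where
  map n := LinearMap.inl R (E.X n).carrier (G.X n).carrier
  deg n i m hm := by
    refine AddSubgroup.mem_prod.2 ⟨?_, zero_mem _⟩
    show m ∈ (E.X n).gr (i + e + -e)
    rwa [add_neg_cancel_right]
  comm n x := by
    show D.dd n (x, 0) = (E.d n x, 0)
    rw [dd_apply, map_zero, map_zero, add_zero]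
  aug m := by
    show (E.ε m, 0) = (D.h (f m), G.ε (g (f m)))
    rw [D.hf, S.exact.apply_apply_eq_zero, map_zero]

/-- the projection onto the last resolution -/
noncomputable def outMap : ChainMap (D.res S) G g 0 where
  map n := LinearMap.snd R (E.X n).carrier (G.X n).carrier
  deg n i m hm := by
    rw [add_zero]
    exact (AddSubgroup.mem_prod.1 hm).2
  comm n x := rfl
  aug x := rfl

variable (a : HomogeneousIdeal 𝒜)

omit S in
lemma map_s_cocyc (i : ℕ) {b : (G.X i).carrier} (hb : b ∈ G.cocyc a i) : D.s i b ∈ E.cocyc a (i + 1) := by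
  refine ⟨ChainMap.map_gam (D.s i) _ hb.1, ?_⟩
  have h := D.ssucc i b
  rw [show G.d i b = 0 from hb.2, map_zero, add_zero] at h
  exact h

omit S in
/-- the connecting map -/
noncomputable def conn (i : ℕ) : G.H a i →ₗ[R] E.H a (i + 1) :=
  Submodule.liftQ _ (E.toH a (i + 1) ∘ₗ (D.s i).restrict fun _ hb => D.map_s_cocyc a i hb) (by
    intro b hb
    rw [LinearMap.mem_ker, LinearMap.comp_apply]
    refine (Submodule.Quotient.mk_eq_zero _).2 ?_
    show D.s i (b : (G.X i).carrier) ∈ E.cobdy a (i + 1)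
    cases i with
    | zero =>
      rw [show (b : (G.X 0).carrier) = 0 from hb, map_zero]
      exact zero_mem _
    | succ n =>
      obtain ⟨w, hw, hwb⟩ := hb
      refine ⟨-D.s n w, neg_mem (ChainMap.map_gam (D.s n) _ hw), ?_⟩
      rw [map_neg, eq_neg_of_add_eq_zero_left (D.ssucc n w), neg_neg, hwb]
      rfl)

omit S in
lemma conn_deg (i : ℕ) : GrLC.IsGrHomDeg (G.Hgr a i) (E.Hgr a (i + 1)) (D.conn a i) (-e) := by
  rintro d _ ⟨z, hz, rfl⟩
  exact ⟨⟨D.s i z, D.map_s_cocyc a i z.2⟩, D.sdeg i d _ hz, rfl⟩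

omit S in
lemma mem_gam_prod {X Y : Type u} [AddCommGroup X] [Module R X] [AddCommGroup Y] [Module R Y] {J : Ideal R}
    {x : X} {y : Y} (hx : x ∈ GrLC.gam J X) (hy : y ∈ GrLC.gam J Y) : (x, y) ∈ GrLC.gam J (X × Y) := by
  have h := add_mem (ChainMap.map_gam (LinearMap.inl R X Y) J hx) (ChainMap.map_gam (LinearMap.inr R X Y) J hy)
  simpa using h

lemma exact_mid (i : ℕ) : Function.Exact ((D.inMap S).H a i) ((D.outMap S).H a i) := by
  intro y
  obtain ⟨⟨⟨u, b⟩, hub⟩, rfl⟩ := Submodule.mkQ_surjective _ y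
  have hu : (u, b) ∈ GrLC.gam a.toIdeal ((E.X i).carrier × (G.X i).carrier) := hub.1
  have hd : D.dd i (u, b) = 0 := hub.2
  rw [dd_apply, Prod.mk_eq_zero] at hd
  have hu₁ : u ∈ GrLC.gam a.toIdeal (E.X i).carrier := ChainMap.map_gam (LinearMap.fst R _ _) _ hu
  constructor
  · intro h
    have h' := (Submodule.Quotient.mk_eq_zero _).1 h
    change b ∈ G.cobdy a i at h'
    cases i with
    | zero =>
      have hb0 : b = 0 := h'
      subst hb0
      rw [map_zero, add_zero] at hd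
      exact ⟨E.toH a 0 ⟨u, hu₁, hd.1⟩, rfl⟩
    | succ n =>
      obtain ⟨w, hw, rfl⟩ := h'
      have hz : u - D.s n w ∈ E.cocyc a (n + 1) := by
        refine ⟨sub_mem hu₁ (ChainMap.map_gam (D.s n) _ hw), ?_⟩
        show E.d (n + 1) (u - D.s n w) = 0
        rw [map_sub, eq_neg_of_add_eq_zero_left (D.ssucc n w), sub_neg_eq_add]
        exact hd.1
      refine ⟨E.toH a (n + 1) ⟨_, hz⟩, ?_⟩
      refine (Submodule.Quotient.eq _).2 ?_
      refine ⟨(0, -w), mem_gam_prod (zero_mem _) (neg_mem hw), ?_⟩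
      show D.dd n (0, -w) = (u - D.s n w, 0) - (u, G.d n w)
      rw [dd_apply, Prod.mk_sub_mk, map_zero, map_neg, map_neg, zero_add, zero_sub, sub_sub_cancel_left]
  · rintro ⟨x, hx⟩
    rw [← hx]
    obtain ⟨z, rfl⟩ := Submodule.mkQ_surjective _ x
    exact map_zero (G.toH a i)

lemma exact_last (i : ℕ) : Function.Exact ((D.outMap S).H a i) (D.conn a i) := by
  intro y
  obtain ⟨⟨b, hb⟩, rfl⟩ := Submodule.mkQ_surjective _ y
  constructor
  · intro h
    obtain ⟨u, hu, hus⟩ := (Submodule.Quotient.mk_eq_zero _).1 h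
    change E.d i u = D.s i b at hus
    refine ⟨(D.res S).toH a i ⟨(-u, b), mem_gam_prod (neg_mem hu) hb.1, ?_⟩, rfl⟩
    show D.dd i (-u, b) = 0
    rw [dd_apply, map_neg, hus, neg_add_cancel, show G.d i b = 0 from hb.2]
    rfl
  · rintro ⟨x, hx⟩
    rw [← hx]
    obtain ⟨⟨⟨u, b'⟩, hub⟩, rfl⟩ := Submodule.mkQ_surjective _ x
    refine (Submodule.Quotient.mk_eq_zero _).2 ?_
    show D.s i b' ∈ E.cobdy a (i + 1)
    have hd : D.dd i (u, b') = 0 := hub.2
    rw [dd_apply, Prod.mk_eq_zero] at hd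
    refine ⟨-u, neg_mem (ChainMap.map_gam (LinearMap.fst R _ _) _ hub.1), ?_⟩
    rw [map_neg, eq_neg_of_add_eq_zero_right hd.1]

lemma exact_first (i : ℕ) : Function.Exact (D.conn a i) ((D.inMap S).H a (i + 1)) := by
  intro y
  obtain ⟨⟨u, hu⟩, rfl⟩ := Submodule.mkQ_surjective _ y
  constructor
  · intro h
    obtain ⟨⟨u', b⟩, hub, he⟩ := (Submodule.Quotient.mk_eq_zero _).1 h
    change D.dd i (u', b) = (u, 0) at he
    rw [dd_apply, Prod.mk.injEq] at he
    refine ⟨G.toH a i ⟨b, ChainMap.map_gam (LinearMap.snd R _ _) _ hub, he.2⟩, (Submodule.Quotient.eq _).2 ?_⟩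
    refine ⟨-u', neg_mem (ChainMap.map_gam (LinearMap.fst R _ _) _ hub), ?_⟩
    show E.d i (-u') = D.s i b - u
    rw [map_neg, ← he.1, sub_add_cancel_right]
  · rintro ⟨x, hx⟩
    rw [← hx]
    obtain ⟨⟨b, hb⟩, rfl⟩ := Submodule.mkQ_surjective _ x
    refine (Submodule.Quotient.mk_eq_zero _).2 ?_
    refine ⟨(0, b), mem_gam_prod (zero_mem _) hb.1, ?_⟩
    show D.dd i (0, b) = (D.s i b, 0)
    rw [dd_apply, map_zero, zero_add, show G.d i b = 0 from hb.2]

lemma injective_zero : Function.Injective ((D.inMap S).H a 0) := by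
  rw [injective_iff_map_eq_zero]
  intro y hy
  obtain ⟨⟨u, hu⟩, rfl⟩ := Submodule.mkQ_surjective _ y
  have h := (Submodule.Quotient.mk_eq_zero _).1 hy
  have h0 : ((u, 0) : (E.X 0).carrier × (G.X 0).carrier) = 0 := h
  exact (Submodule.Quotient.mk_eq_zero _).2 (show u ∈ (⊥ : Submodule R _) from (Prod.mk_eq_zero.1 h0).1)

end Glue

/-- the long exact sequence of graded local cohomology -/
theorem exists_les (E : GrLC.StarInjRes 𝒜 ℳ) (F : GrLC.StarInjRes 𝒜 𝒩) (G : GrLC.StarInjRes 𝒜 ℒ)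
    (S : Ses ℳ 𝒩 ℒ f g e) (a : HomogeneousIdeal 𝒜) :
    ∃ δ : ∀ i, G.H a i →ₗ[R] E.H a (i + 1),
      (∀ i, GrLC.IsGrHomDeg (G.Hgr a i) (E.Hgr a (i + 1)) (δ i) (-e)) ∧
      (∀ i, Function.Exact (hMap E F a f S.hf i) (hMap F G a g (isGrHomDeg_zero_iff.2 S.hg) i)) ∧
      (∀ i, Function.Exact (hMap F G a g (isGrHomDeg_zero_iff.2 S.hg) i) (δ i)) ∧
      (∀ i, Function.Exact (δ i) (hMap E F a f S.hf (i + 1))) ∧
      Function.Injective (hMap E F a f S.hf 0) := by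
  obtain ⟨D⟩ := exists_glue E G S
  have hid : GrLC.IsGrHomDeg 𝒩 𝒩 (LinearMap.id : N →ₗ[R] N) 0 := fun _ _ h => by rwa [add_zero]
  let κ : ∀ i, F.H a i ≃ₗ[R] (D.res S).H a i := fun i =>
    hEquiv F (D.res S) a (LinearEquiv.refl R N) hid hid (add_zero 0) i
  have hf' : ∀ i, (D.inMap S).H a i = (κ i).toLinearMap ∘ₗ hMap E F a f S.hf i := fun i => by
    rw [← hMap_eq (D.inMap S) a S.hf]
    exact ((hMap_comp (E := E) (F := F) (G := D.res S) a S.hf hid i).trans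
      (hMap_congr a (LinearMap.id_comp f) (add_zero e) _ _ i)).symm
  have hg' : ∀ i, hMap F G a g (isGrHomDeg_zero_iff.2 S.hg) i = (D.outMap S).H a i ∘ₗ (κ i).toLinearMap := fun i => by
    rw [← hMap_eq (D.outMap S) a (isGrHomDeg_zero_iff.2 S.hg)]
    exact ((hMap_comp (E := F) (F := D.res S) (G := G) a hid (isGrHomDeg_zero_iff.2 S.hg) i).trans
      (hMap_congr a (LinearMap.comp_id g) (add_zero 0) _ _ i)).symm
  have hinj : ∀ i x, (D.inMap S).H a i x = κ i (hMap E F a f S.hf i x) := fun i x => LinearMap.congr_fun (hf' i) x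
  refine ⟨D.conn a, D.conn_deg a, fun i y => ?_, fun i y => ?_, fun i y => ?_, ?_⟩
  · rw [hg' i, LinearMap.comp_apply]
    refine (D.exact_mid S a i _).trans ⟨?_, ?_⟩
    · rintro ⟨x, hx⟩
      exact ⟨x, (κ i).injective (by rw [← hinj]; exact hx)⟩
    · rintro ⟨x, rfl⟩
      exact ⟨x, hinj i x⟩
  · refine (D.exact_last S a i y).trans ⟨?_, ?_⟩
    · rintro ⟨x, rfl⟩
      refine ⟨(κ i).symm x, ?_⟩
      rw [hg' i, LinearMap.comp_apply, LinearEquiv.coe_coe, LinearEquiv.apply_symm_apply]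
    · rintro ⟨x, rfl⟩
      exact ⟨κ i x, by rw [hg' i, LinearMap.comp_apply]; rfl⟩
  · refine Iff.trans ?_ (D.exact_first S a i y)
    rw [hinj, LinearEquiv.map_eq_zero_iff]
  · intro x y h
    exact D.injective_zero S a (by rw [hinj, hinj, h])

end Groth.Agent.GrMod19
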