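import Groth.Agent.GrMod19.Kos
import Mathlib.RingTheory.KrullDimension.NonZeroDivisors
import Mathlib.RingTheory.Ideal.Quotient.Operations

/-!
Linear forms without syzygies: the homology of the linear complex in degree one.
-/

universe u

open DirectSum
open scoped Pointwise

namespace Groth.Agent.GrMod19

set_option autoImplicit false

variable {R : Type u} [CommRing R] {σ : Type u} [SetLike σ R] [AddSubgroupClass σ R] {𝒜 : ℤ → σ} [GradedRing 𝒜]

/-- the combinations of a list of linear forms with coefficients in degree zero -/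
def lowSpan (X : GrLC.GMod.{u} 𝒜) (s : List R) : AddSubgroup X.carrier :=
  AddSubgroup.closure {z | ∃ h ∈ s, ∃ w ∈ X.gr 0, h • w = z}

/-- independence of a list of linear forms on the piece of degree zero -/
def Indep (X : GrLC.GMod.{u} 𝒜) : List R → Prop
  | [] => True
  | g :: s => Indep X s ∧ ∀ v ∈ X.gr 0, g • v ∈ lowSpan X s → v = 0

/-- each element is regular modulo the later ones -/
def RegChain (X : GrLC.GMod.{u} 𝒜) : List R → Prop
  | [] => True
  | g :: s => RegChain X s ∧ ∀ v : X.carrier, g • v ∈ Ideal.span {x | x ∈ s} • (⊤ : Submodule R X.carrier) →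
      v ∈ Ideal.span {x | x ∈ s} • (⊤ : Submodule R X.carrier)

variable {a : HomogeneousIdeal 𝒜}

/-- what is known about the first term of the complex of a list -/
structure LowData {S : Set R} {M0 : GrLC.GMod.{u} 𝒜} (C : LinCx a S M0) (s : List R) : Prop where
  neg : ∀ n : ℤ, n ≤ 0 → ∀ u ∈ (C.X 1).gr n, u = 0
  one : ∀ u ∈ (C.X 1).gr 1, C.d 0 u = 0 → u = 0
  img : ∀ u ∈ (C.X 1).gr 1, C.d 0 u ∈ lowSpan (C.X 0) s
  range : LinearMap.range (C.d 0) = Ideal.span {x | x ∈ s} • (⊤ : Submodule R (C.X 0).carrier)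

variable [IsNoetherianRing R]

/-- the complex of a list of independent linear forms -/
theorem exists_linCx_low (M0 : GrLC.GMod.{u} 𝒜) (hneg : ∀ n : ℤ, n < 0 → ∀ v ∈ M0.gr n, v = 0) :
    ∀ s : List R, (∀ g ∈ s, g ∈ 𝒜 1 ∧ g ∈ a.toIdeal) → Indep M0 s →
      ∃ C : LinCx a {g | g ∈ s} M0, LowData C s ∧
        (LinearMap.ker (C.d 0) ≤ LinearMap.range (C.d 1) → RegChain (C.X 0) s) := by
  classical
  intro s
  induction s with
  | nil =>
    intro _ _
    rw [show {g : R | g ∈ ([] : List R)} = ∅ by ext; simp]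
    have : Subsingleton ((linCxBase (a := a) M0).X 1).carrier := subsingleton_botG M0
    refine ⟨linCxBase M0, ⟨fun _ _ _ _ => Subsingleton.elim _ _, fun _ _ _ => Subsingleton.elim _ _,
      fun u _ => ?_, ?_⟩, fun _ => trivial⟩
    · rw [Subsingleton.elim u 0, map_zero]
      exact zero_mem _
    · rw [show {x : R | x ∈ ([] : List R)} = ∅ by ext; simp, Ideal.span_empty, Submodule.bot_smul]
      exact LinearMap.range_zero
  | cons g s ih =>
    intro hs hind
    obtain ⟨hg, hga⟩ := hs g List.mem_cons_self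
    obtain ⟨C, hC, hreg⟩ := ih (fun x hx => hs x (List.mem_cons_of_mem _ hx)) hind.1
    have hneg0 : ∀ n : ℤ, n < 0 → ∀ v ∈ (C.X 0).gr n, v = 0 := by rw [C.zero_eq]; exact hneg
    have hind0 : ∀ v ∈ (C.X 0).gr 0, g • v ∈ lowSpan (C.X 0) s → v = 0 := by rw [C.zero_eq]; exact hind.2
    rw [show {x : R | x ∈ g :: s} = insert g {x | x ∈ s} by ext; simp]
    have hset : Ideal.span {x | x ∈ g :: s} = Ideal.span {x | x ∈ s} ⊔ Ideal.span {g} := by
      rw [← Ideal.span_union]
      congr 1
      ext x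
      simp [or_comm]
    have hmono : lowSpan (C.X 0) s ≤ lowSpan (C.X 0) (g :: s) := AddSubgroup.closure_mono fun z hz => by
      obtain ⟨h, hh, hz⟩ := hz
      exact ⟨h, List.mem_cons_of_mem _ hh, hz⟩
    refine ⟨linCxStep C hg hga, ⟨fun n hn (x : (stepX C 1).carrier) hx => ?_, fun (x : (stepX C 1).carrier) hx hd => ?_, fun (x : (stepX C 1).carrier) hx => ?_, ?_⟩, fun hex => ?_⟩
    · have h1 : fstStep C 0 x = 0 := hneg0 (n + -1) (by omega) _ hx.1
      have h2 : sndStep C 0 x = 0 := hC.neg n hn _ hx.2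
      exact Prod.ext h1 h2
    · have h1 : fstStep C 0 x ∈ (C.X 0).gr 0 := by
        have h : fstStep C 0 x ∈ (C.X 0).gr ((1 : ℤ) + -1) := hx.1
        rwa [add_neg_cancel] at h
      have hd' : C.d 0 (sndStep C 0 x) + g • fstStep C 0 x = 0 := hd
      have h2 : fstStep C 0 x = 0 := hind0 _ h1 (by
        rw [eq_neg_of_add_eq_zero_right hd']
        exact neg_mem (hC.img _ hx.2))
      rw [h2, smul_zero, add_zero] at hd'
      exact Prod.ext h2 (hC.one _ hx.2 hd')
    · show C.d 0 (sndStep C 0 x) + g • fstStep C 0 x ∈ lowSpan (C.X 0) (g :: s)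
      refine add_mem (hmono (hC.img _ hx.2)) (AddSubgroup.subset_closure ⟨g, List.mem_cons_self, _, ?_, rfl⟩)
      have h : fstStep C 0 x ∈ (C.X 0).gr ((1 : ℤ) + -1) := hx.1
      rwa [add_neg_cancel] at h
    · show LinearMap.range (stepD C g 0) = Ideal.span {x | x ∈ g :: s} • (⊤ : Submodule R (C.X 0).carrier)
      rw [hset, Submodule.sup_smul, ← hC.range]
      refine le_antisymm ?_ (sup_le ?_ ?_)
      · rintro _ ⟨x, rfl⟩
        show C.d 0 (sndStep C 0 x) + g • fstStep C 0 x ∈
          (LinearMap.range (C.d 0) ⊔ Ideal.span {g} • (⊤ : Submodule R (C.X 0).carrier) : Submodule R (C.X 0).carrier)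
        exact Submodule.add_mem_sup ⟨_, rfl⟩
          (Submodule.smul_mem_smul (Ideal.mem_span_singleton_self g) trivial)
      · rintro _ ⟨u, rfl⟩
        exact ⟨mkStep C 0 0 u, by
          show C.d 0 u + g • (0 : (C.X 0).carrier) = C.d 0 u
          rw [smul_zero, add_zero]⟩
      · rintro y hy
        obtain ⟨v, -, rfl⟩ := (Submodule.ideal_span_singleton_smul g (⊤ : Submodule R (C.X 0).carrier) ▸ hy :
          y ∈ g • (⊤ : Submodule R (C.X 0).carrier))
        exact ⟨mkStep C 0 v 0, by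
          show C.d 0 0 + g • v = _
          rw [map_zero, zero_add]
          rfl⟩
    · have hcyc : ∀ (v : (C.X 0).carrier) (u : (C.X 1).carrier), C.d 0 u + g • v = 0 →
          ∃ (v' : (C.X 1).carrier) (u' : (C.X (1 + 1)).carrier), -C.d 0 v' = v ∧ C.d 1 u' + g • v' = u := by
        intro v u h
        obtain ⟨x, hx⟩ := hex (show mkStep C 0 v u ∈ LinearMap.ker (stepD C g 0) from h)
        refine ⟨fstStep C 1 x, sndStep C 1 x, ?_⟩
        have hx' : stepD C g 1 x = mkStep C 0 v u := hx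
        rw [← mkStep_eta C 1 x, stepD_succ] at hx'
        exact mkStep_inj C hx'
      refine ⟨hreg ?_, fun (v : (C.X 0).carrier) hv => ?_⟩
      · suffices H : ∀ (N : ℕ) (n : ℤ), n ≤ N → ∀ u ∈ (C.X 1).gr n, C.d 0 u = 0 → u ∈ LinearMap.range (C.d 1) by
          intro u hu
          obtain ⟨t, ht⟩ := exists_sum_cmp (C.X 1).gr u
          rw [← ht]
          exact Submodule.sum_mem _ fun n _ => H n.toNat n n.self_le_toNat _ (cmp_mem _ n u)
            (isHomogeneous_ker _ _ (C.dgr 0) n hu)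
        intro N
        induction N with
        | zero =>
          intro n hn u hu _
          rw [hC.neg n (by simpa using hn) u hu]
          exact zero_mem _
        | succ N ihN =>
          intro n hn u hu hd
          obtain ⟨v', u', hv', hu'⟩ := hcyc 0 u (by rw [hd, smul_zero, add_zero])
          have hv'0 : v' ∈ LinearMap.ker (C.d 0) := neg_eq_zero.1 hv'
          have h1 : cmp (C.X 1).gr n (C.d 1 u' + g • v') = u := by rw [hu', cmp_of_mem _ hu]
          rw [← h1, map_add, cmp_smul_homog_left 𝒜 (C.X 1).gr n hg v', ← map_cmp _ _ (C.dgr 1) n u']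
          exact add_mem ⟨_, rfl⟩ (Submodule.smul_mem _ _ (ihN (n - 1) (by omega) _ (cmp_mem _ _ _)
            (isHomogeneous_ker _ _ (C.dgr 0) (n - 1) hv'0)))
      · change g • v ∈ Ideal.span {x | x ∈ s} • (⊤ : Submodule R (C.X 0).carrier) at hv
        show v ∈ Ideal.span {x | x ∈ s} • (⊤ : Submodule R (C.X 0).carrier)
        rw [← hC.range] at hv ⊢
        obtain ⟨u, hu⟩ := hv
        obtain ⟨v', u', hv', -⟩ := hcyc v (-u) (by rw [map_neg, hu, neg_add_cancel])
        exact ⟨-v', by rw [map_neg, hv']⟩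

/-- with vanishing cohomology in the degrees above the diagonal, independent linear forms generating the
ideal have no syzygies -/
theorem regChain_of_vanH (M0 : GrLC.GMod.{u} 𝒜) (hneg : ∀ n : ℤ, n < 0 → ∀ v ∈ M0.gr n, v = 0) (s : List R)
    (hs : ∀ g ∈ s, g ∈ 𝒜 1 ∧ g ∈ a.toIdeal) (hspan : Ideal.span {g | g ∈ s} = a.toIdeal) (hind : Indep M0 s)
    (hv : ∀ (i : ℕ) (n : ℤ), -(i : ℤ) < n → VanH a M0.gr i n) : RegChain M0 s := by
  obtain ⟨C, hC, hreg⟩ := exists_linCx_low M0 hneg s hs hind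
  obtain ⟨b, hb⟩ := exists_vanH_bound (a := a)
  suffices hex : LinearMap.ker (C.d 0) ≤ LinearMap.range (C.d 1) from
    C.transfer (fun X => RegChain X s) (hreg hex)
  suffices H : ∀ n : ℤ, 2 ≤ n → ∀ u ∈ (C.X 1).gr n, C.d 0 u = 0 → u ∈ LinearMap.range (C.d 1) by
    intro u hu
    obtain ⟨t, ht⟩ := exists_sum_cmp (C.X 1).gr u
    rw [← ht]
    refine Submodule.sum_mem _ fun n _ => ?_
    have h1 := isHomogeneous_ker _ _ (C.dgr 0) n hu
    rcases le_or_gt 2 n with hn | hn
    · exact H n hn _ (cmp_mem _ n u) h1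
    · have h0 : cmp (C.X 1).gr n u = 0 := by
        rcases eq_or_lt_of_le (show n ≤ 1 by omega) with rfl | hn1
        · exact hC.one _ (cmp_mem _ _ u) h1
        · exact hC.neg n (by omega) _ (cmp_mem _ _ u)
      rw [h0]
      exact zero_mem _
  intro n hn u hu hd
  let : Decomposition (GrInj18.subGr (C.X 2).gr (cyc C.X C.d 2)) :=
    (GrInj18.subGr_isInternal _ (isHomogeneous_cyc C 2)).chooseDecomposition
  let : Decomposition (GrInj18.subGr (C.X 1).gr (cyc C.X C.d 1)) :=
    (GrInj18.subGr_isInternal _ (isHomogeneous_cyc C 1)).chooseDecomposition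
  let : Decomposition (GrInj18.subGr (C.X 1).gr (LinearMap.range (C.d 1))) :=
    (GrInj18.subGr_isInternal _ (isHomogeneous_range _ _ (C.dgr 1))).chooseDecomposition
  let : Decomposition (GrInj18.subGr (C.X 0).gr (LinearMap.range (C.d 0))) :=
    (GrInj18.subGr_isInternal _ (isHomogeneous_range _ _ (C.dgr 0))).chooseDecomposition
  have hZ2 := vanH_cyc C hspan 1 le_rfl (n - 1) (fun i hi => hv i _ (by omega)) (b + 1) 2 2 (by omega)
    fun i' hi' X k => hb X.carrier X.gr i' k (by omega)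
  have hB1 : VanH a (GrInj18.subGr (C.X 1).gr (LinearMap.range (C.d 1))) 1 n :=
    vanH_range C 1 1 n (hv 1 _ (by omega)) (by simpa using hZ2)
  have hZ1 : VanH a (GrInj18.subGr (C.X 1).gr (cyc C.X C.d 1)) 0 n :=
    vanH_left_zero a (ses_cycle C 0) (C.van 1 0 _ (hv 0 _ (by omega)))
  let P := (LinearMap.range (C.d 1)).comap (cyc C.X C.d 1).subtype
  have hP : P.IsHomogeneous (GrInj18.subGr (C.X 1).gr (cyc C.X C.d 1)) := fun k z hz => by
    show ((cmp (GrInj18.subGr (C.X 1).gr (cyc C.X C.d 1)) k z : cyc C.X C.d 1) : (C.X 1).carrier) ∈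
      LinearMap.range (C.d 1)
    rw [show ((cmp (GrInj18.subGr (C.X 1).gr (cyc C.X C.d 1)) k z : cyc C.X C.d 1) : (C.X 1).carrier) =
      cmp (C.X 1).gr k z from map_cmp _ _ (GrInj18.isGrHom_subtype _ _) k z]
    exact isHomogeneous_range _ _ (C.dgr 1) k hz
  let : Decomposition (GrInj18.quotPieces (GrInj18.subGr (C.X 1).gr (cyc C.X C.d 1)) P) :=
    (GrInj18.quotPieces_isInternal _ hP).chooseDecomposition
  have T : Ses (GrInj18.subGr (C.X 1).gr (LinearMap.range (C.d 1))) (GrInj18.subGr (C.X 1).gr (cyc C.X C.d 1))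
      (GrInj18.quotPieces (GrInj18.subGr (C.X 1).gr (cyc C.X C.d 1)) P) (Submodule.inclusion (range_le_cyc C 1))
      P.mkQ 0 :=
    { hf := isGrHomDeg_zero_iff.2 fun k m hm => hm
      hg := GrInj18.isGrHom_mkQ _ _
      inj := Submodule.inclusion_injective _
      exact := fun y => by
        show P.mkQ y = 0 ↔ _
        rw [← LinearMap.mem_ker, Submodule.ker_mkQ]
        exact ⟨fun hy => ⟨⟨y, hy⟩, Subtype.ext rfl⟩, by rintro ⟨x, rfl⟩; exact x.2⟩
      surj := P.mkQ_surjective }
  have hQ : VanH a (GrInj18.quotPieces (GrInj18.subGr (C.X 1).gr (cyc C.X C.d 1)) P) 0 n :=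
    vanH_right a T hZ1 (by rw [sub_zero]; exact hB1)
  exact (Submodule.Quotient.mk_eq_zero P).1
    (eq_zero_of_vanH_zero a hQ (m := P.mkQ ⟨u, hd⟩) (isPowerTorsion_homology C hspan 1 _) ⟨⟨u, hd⟩, hu, rfl⟩)

/-- the length of such a list is bounded by the dimension -/
theorem ringKrullDim_add_length_le {X : GrLC.GMod.{u} 𝒜} (e : X.carrier ≃ₗ[R] R) :
    ∀ s : List R, RegChain X s →
      ringKrullDim (R ⧸ Ideal.span {x | x ∈ s}) + (s.length : WithBot ℕ∞) ≤ ringKrullDim R := by
  intro s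
  induction s with
  | nil =>
    intro _
    rw [show {x : R | x ∈ ([] : List R)} = ∅ by ext; simp, Ideal.span_empty, List.length_nil, Nat.cast_zero,
      add_zero]
    exact (ringKrullDim_eq_of_ringEquiv (RingEquiv.quotientBot R)).le
  | cons g s ih =>
    intro h
    set J := Ideal.span {x : R | x ∈ s}
    have hset : Ideal.span {x | x ∈ g :: s} = J ⊔ Ideal.span {g} := by
      rw [← Ideal.span_union]
      congr 1
      ext x
      simp [or_comm]
    have hmem : ∀ r : R, r ∈ J ↔ e.symm r ∈ J • (⊤ : Submodule R X.carrier) := fun r => by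
      rw [← Submodule.mem_map_equiv (e := e), Submodule.map_smul'', Submodule.map_top, LinearEquiv.range,
        Ideal.smul_eq_mul, Ideal.mul_top]
    have h0 : Ideal.Quotient.mk J g ∈ nonZeroDivisors (R ⧸ J) := mem_nonZeroDivisors_iff_right.2 fun z hz => by
      obtain ⟨r, rfl⟩ := Ideal.Quotient.mk_surjective z
      rw [← map_mul, Ideal.Quotient.eq_zero_iff_mem, hmem, mul_comm, ← smul_eq_mul, map_smul] at hz
      exact Ideal.Quotient.eq_zero_iff_mem.2 ((hmem r).2 (h.2 _ hz))
    have h1 := ringKrullDim_quotient_succ_le_of_nonZeroDivisor (R := R ⧸ J) h0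
    rw [← Set.image_singleton, ← Ideal.map_span,
      ringKrullDim_eq_of_ringEquiv (DoubleQuot.quotQuotEquivQuotSup J (Ideal.span {g})), ← hset] at h1
    refine le_trans (le_of_eq ?_) ((add_le_add_left h1 _).trans (ih h.1))
    rw [List.length_cons, Nat.cast_succ, add_comm (s.length : WithBot ℕ∞) 1, add_assoc]

end Groth.Agent.GrMod19
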