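import Groth.Agent.GrMod19.Basic
import Mathlib.RingTheory.MvPolynomial.Homogeneous
import Mathlib.Data.Sym.Card
import Mathlib.LinearAlgebra.Dimension.StrongRankCondition

/-!
The polynomial ring over a field as a ℤ-graded ring.
-/

universe u

open DirectSum MvPolynomial
open scoped DirectSum

namespace Groth.Agent.GrMod19

set_option autoImplicit false

variable (k : Type u) [CommRing k] (s : ℕ)

/-- the forms of degree `j` -/
def polyPiece (j : ℤ) : AddSubgroup (MvPolynomial (Fin s) k) where
  carrier := {p | ∀ m, coeff m p ≠ 0 → (m.degree : ℤ) = j}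
  zero_mem' m h := absurd (coeff_zero m) h
  add_mem' {p q} hp hq m h := by
    by_cases hm : coeff m p = 0
    · exact hq m fun h' => h (by rw [coeff_add, hm, h', add_zero])
    · exact hp m hm
  neg_mem' {p} hp m h := hp m fun h' => h (by rw [coeff_neg, h', neg_zero])

variable {k s}

theorem mem_polyPiece_nat {n : ℕ} {p : MvPolynomial (Fin s) k} :
    p ∈ polyPiece k s (n : ℤ) ↔ p.IsHomogeneous n := by
  constructor
  · intro h m hm
    have h1 : Finsupp.weight (1 : Fin s → ℕ) m = m.degree := (DFunLike.congr_fun (Finsupp.degree_eq_weight_one (R := ℕ)) m).symm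
    rw [h1]
    have := h m hm
    exact_mod_cast this
  · intro h m hm
    have := h hm
    have h1 : Finsupp.weight (1 : Fin s → ℕ) m = m.degree := (DFunLike.congr_fun (Finsupp.degree_eq_weight_one (R := ℕ)) m).symm
    rw [h1] at this
    exact_mod_cast this

theorem polyPiece_eq_bot {j : ℤ} (hj : j < 0) : polyPiece k s j = ⊥ :=
  (AddSubgroup.eq_bot_iff_forall _).2 fun p hp => MvPolynomial.ext _ _ fun m => by
    rw [coeff_zero]
    by_contra h
    have := hp m h
    omega

variable (k s)

/-- the component of degree `j` -/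
noncomputable def polyProj (j : ℤ) : MvPolynomial (Fin s) k →+ MvPolynomial (Fin s) k :=
  if 0 ≤ j then (homogeneousComponent j.toNat).toAddMonoidHom else 0

variable {k s}

theorem polyProj_apply (n : ℕ) (p : MvPolynomial (Fin s) k) :
    polyProj k s (n : ℤ) p = homogeneousComponent n p := by
  rw [polyProj, if_pos (Int.natCast_nonneg n), Int.toNat_natCast]
  rfl

theorem polyProj_neg {j : ℤ} (hj : j < 0) (p : MvPolynomial (Fin s) k) : polyProj k s j p = 0 := by
  rw [polyProj, if_neg (by omega)]
  rfl

theorem isInternal_polyPiece : DirectSum.IsInternal (polyPiece k s) := by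
  classical
  refine isInternal_of_proj (polyProj k s) _ (fun j p => ?_) (fun j p hp => ?_) (fun j e p hp hne => ?_)
    (fun p => ⟨(Finset.range (p.totalDegree + 1)).image fun n : ℕ => (n : ℤ), ?_⟩)
  · rcases lt_or_ge j 0 with hj | hj
    · rw [polyProj_neg hj]
      exact zero_mem _
    · lift j to ℕ using hj
      rw [polyProj_apply, mem_polyPiece_nat]
      exact homogeneousComponent_isHomogeneous j p
  · rcases lt_or_ge j 0 with hj | hj
    · rw [polyPiece_eq_bot hj] at hp
      rw [AddSubgroup.mem_bot.1 hp, map_zero]
    · lift j to ℕ using hj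
      rw [polyProj_apply, homogeneousComponent_of_mem (mem_polyPiece_nat.1 hp), if_pos rfl]
  · rcases lt_or_ge e 0 with he | he
    · exact polyProj_neg he p
    · lift e to ℕ using he
      rcases lt_or_ge j 0 with hj | hj
      · rw [polyPiece_eq_bot hj] at hp
        rw [AddSubgroup.mem_bot.1 hp, map_zero]
      · lift j to ℕ using hj
        rw [polyProj_apply, homogeneousComponent_of_mem (mem_polyPiece_nat.1 hp),
          if_neg fun h => hne (by exact_mod_cast h.symm)]
  · rw [Finset.sum_image fun _ _ _ _ h => Nat.cast_injective h]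
    simp_rw [polyProj_apply]
    exact sum_homogeneousComponent p

instance : SetLike.GradedMonoid (polyPiece k s) where
  one_mem := (mem_polyPiece_nat (n := 0)).2 (isHomogeneous_one _ _)
  mul_mem i j p q hp hq := by
    rcases lt_or_ge i 0 with hi | hi
    · rw [polyPiece_eq_bot hi] at hp
      rw [AddSubgroup.mem_bot.1 hp, zero_mul]
      exact zero_mem _
    rcases lt_or_ge j 0 with hj | hj
    · rw [polyPiece_eq_bot hj] at hq
      rw [AddSubgroup.mem_bot.1 hq, mul_zero]
      exact zero_mem _
    lift i to ℕ using hi
    lift j to ℕ using hj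
    rw [← Nat.cast_add]
    exact mem_polyPiece_nat.2 ((mem_polyPiece_nat.1 hp).mul (mem_polyPiece_nat.1 hq))

noncomputable instance polyGraded : GradedRing (polyPiece k s) :=
  { (inferInstance : SetLike.GradedMonoid (polyPiece k s)),
    (isInternal_polyPiece (k := k) (s := s)).chooseDecomposition with }

theorem cmp_polyPiece (n : ℕ) (p : MvPolynomial (Fin s) k) :
    cmp (polyPiece k s) (n : ℤ) p = homogeneousComponent n p := by
  induction p using piece_induction (polyPiece k s) with
  | h0 => simp
  | hadd a b ha hb => rw [map_add, map_add, ha, hb]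
  | hp j p hp =>
    rcases lt_or_ge j 0 with hj | hj
    · rw [polyPiece_eq_bot hj] at hp
      rw [AddSubgroup.mem_bot.1 hp, map_zero, map_zero]
    · lift j to ℕ using hj
      rw [homogeneousComponent_of_mem (mem_polyPiece_nat.1 hp)]
      rcases eq_or_ne n j with rfl | h
      · rw [if_pos rfl, cmp_of_mem _ hp]
      · rw [if_neg h, cmp_of_ne _ hp (fun e => h (by exact_mod_cast e.symm))]

theorem finrank_forms (K : Type u) [Field K] (r n : ℕ) :
    Module.finrank K (homogeneousSubmodule (Fin r) K n) = Nat.choose (r + n - 1) n := by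
  classical
  rw [homogeneousSubmodule_eq_finsupp_supported]
  let e : Sym (Fin r) n ≃ ({d : Fin r →₀ ℕ | d.degree = n} : Set (Fin r →₀ ℕ)) :=
    (Sym.equivNatSum (Fin r) n).trans (Equiv.subtypeEquivRight fun d => by
      simp [Finsupp.degree_apply, Finsupp.sum])
  let b := (MvPolynomial.basisRestrictSupport K
    ({d : Fin r →₀ ℕ | d.degree = n} : Set (Fin r →₀ ℕ))).reindex e.symm
  rw [show Nat.choose (r + n - 1) n = Fintype.card (Sym (Fin r) n) by
    rw [Sym.card_sym_eq_choose, Fintype.card_fin]]
  exact Module.finrank_eq_card_basis b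

end Groth.Agent.GrMod19
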