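import Groth.Agent.GrMod19.Gor.Gens
import Mathlib.RingTheory.KrullDimension.Polynomial
import Mathlib.RingTheory.KrullDimension.Field
import Mathlib.RingTheory.KrullDimension.NonZeroDivisors

/-!
Standard graded rings with as many linear generators as their dimension are polynomial rings.
-/

universe u

open DirectSum GrLC

namespace Groth.Agent.GrMod19

set_option autoImplicit false

/-- linear generators generate -/
theorem polyEval_surjective {R : Type u} [CommRing R] {𝒜 : ℤ → AddSubgroup R}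
    [GradedRing 𝒜] (hpos : NonnegGr 𝒜)
    (hstd : Ideal.span (⋃ n ∈ Set.Ioi (0 : ℤ), (𝒜 n : Set R)) = Ideal.span ((𝒜 1 : AddSubgroup R) : Set R))
    {r : ℕ} (y : Fin r → R)
    (hspan : ∀ v ∈ 𝒜 1, ∃ c : Fin r → deg0 𝒜, ∑ i, (c i : R) * y i = v) :
    Function.Surjective (MvPolynomial.eval₂Hom (deg0 𝒜).subtype y) := by
  classical
  set ψ := MvPolynomial.eval₂Hom (deg0 𝒜).subtype y
  have h0' : ∀ v ∈ 𝒜 0, v ∈ ψ.range := fun v hv =>
    ⟨MvPolynomial.C ⟨v, hv⟩, MvPolynomial.eval₂Hom_C (deg0 𝒜).subtype y _⟩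
  have h1 : ∀ v ∈ 𝒜 1, v ∈ ψ.range := fun v hv => by
    obtain ⟨c, rfl⟩ := hspan v hv
    exact sum_mem fun i _ => mul_mem (h0' _ (c i).2) ⟨MvPolynomial.X i, MvPolynomial.eval₂Hom_X' _ _ i⟩
  have hall : ∀ n : ℕ, ∀ v ∈ 𝒜 (n : ℤ), v ∈ ψ.range := by
    intro n
    induction n with
    | zero => exact fun v hv => h0' v (by simpa using hv)
    | succ n ih =>
      intro v hv
      refine (AddSubgroup.closure_le (K := ψ.range.toAddSubgroup)).2 ?_
        (mem_closure_mul hstd 1 (n : ℤ) (Int.natCast_nonneg n) v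
          (by rwa [show ((1 : ℕ) : ℤ) + n = ((n + 1 : ℕ) : ℤ) by push_cast; ring]))
      rintro _ ⟨a, ha, b, hb, rfl⟩
      exact ψ.range.mul_mem (h1 a (by simpa using ha)) (ih b hb)
  intro v
  show v ∈ ψ.range
  induction v using piece_induction 𝒜 with
  | h0 => exact zero_mem _
  | hadd p p' hp hp' => exact add_mem hp hp'
  | hp n v hv =>
    rcases lt_or_ge n 0 with hn | hn
    · rw [hpos n hn v hv]
      exact zero_mem _
    · obtain ⟨k, rfl⟩ := Int.eq_ofNat_of_zero_le hn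
      exact hall k v hv

/-- linear generators in the number of the dimension give a polynomial ring -/
theorem polyEval_bijective {R : Type u} [CommRing R] [IsNoetherianRing R] {𝒜 : ℤ → AddSubgroup R}
    [GradedRing 𝒜] (hpos : NonnegGr 𝒜) (h0 : IsField (deg0 𝒜))
    (hstd : Ideal.span (⋃ n ∈ Set.Ioi (0 : ℤ), (𝒜 n : Set R)) = Ideal.span ((𝒜 1 : AddSubgroup R) : Set R))
    {r : ℕ} (hr : ringKrullDim R = r) (y : Fin r → R)
    (hspan : ∀ v ∈ 𝒜 1, ∃ c : Fin r → deg0 𝒜, ∑ i, (c i : R) * y i = v) :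
    Function.Bijective (MvPolynomial.eval₂Hom (deg0 𝒜).subtype y) := by
  classical
  set ψ := MvPolynomial.eval₂Hom (deg0 𝒜).subtype y
  have hsurj : Function.Surjective ψ := polyEval_surjective hpos hstd y hspan
  refine ⟨(injective_iff_map_eq_zero ψ).2 fun p hp => by_contra fun hne => ?_, hsurj⟩
  have : IsDomain (deg0 𝒜) := h0.isDomain
  have := isNoetherianRing_deg0 hpos
  have hdim0 : ringKrullDim (deg0 𝒜) = 0 := by
    let : Field (deg0 𝒜) := h0.toField
    exact ringKrullDim_eq_zero_of_field (deg0 𝒜)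
  have hle := ringKrullDim_quotient_succ_le_of_nonZeroDivisor (r := p) (mem_nonZeroDivisors_of_ne_zero hne)
  have hker : ∀ z ∈ Ideal.span {p}, ψ z = 0 := fun z hz => by
    obtain ⟨c, rfl⟩ := Ideal.mem_span_singleton'.1 hz
    rw [map_mul, hp, mul_zero]
  let L : MvPolynomial (Fin r) (deg0 𝒜) ⧸ Ideal.span {p} →+* R := Ideal.Quotient.lift (Ideal.span {p}) ψ hker
  have hL : Function.Surjective L := fun v => by
    obtain ⟨z, rfl⟩ := hsurj v
    exact ⟨Ideal.Quotient.mk (Ideal.span {p}) z, rfl⟩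
  have hlift : ringKrullDim R ≤ ringKrullDim (MvPolynomial (Fin r) (deg0 𝒜) ⧸ Ideal.span {p}) :=
    ringKrullDim_le_of_surjective L hL
  rw [hr] at hlift
  rw [MvPolynomial.ringKrullDim_of_isNoetherianRing, hdim0, zero_add, Nat.card_fin] at hle
  have h3 : ((r : ℕ) : WithBot ℕ∞) + 1 ≤ r := (add_le_add_left hlift 1).trans hle
  rw [show ((r : ℕ) : WithBot ℕ∞) + 1 = ((r + 1 : ℕ) : WithBot ℕ∞) by push_cast; rfl] at h3
  exact absurd (show r + 1 ≤ r by exact_mod_cast h3) (Nat.not_succ_le_self r)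

end Groth.Agent.GrMod19
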