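import Groth.Prelude.Def_GrLC

/-!
Replacing the pieces of a graded ring by the additive subgroups with the same elements.
-/

universe u

open DirectSum GrLC

namespace Groth.Agent.GrMod19

set_option autoImplicit false

variable {R : Type u} [CommRing R] {σ : Type u} [SetLike σ R] [AddSubgroupClass σ R]

/-- the pieces as additive subgroups -/
def reg (W : ℤ → σ) (d : ℤ) : AddSubgroup R := AddSubgroup.ofClass (W d)

variable {W : ℤ → σ} [GradedRing W]

instance : SetLike.GradedMonoid (reg W) where
  one_mem := SetLike.GradedOne.one_mem (A := W)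
  mul_mem _ _ _ _ hi hj := SetLike.GradedMul.mul_mem (A := W) hi hj

noncomputable instance : GradedRing (reg W) where
  decompose' x := (DirectSum.decompose W x : ⨁ d, (W d))
  left_inv := GradedRing.toDecomposition.left_inv (ℳ := W)
  right_inv := GradedRing.toDecomposition.right_inv (ℳ := W)

/-- a homogeneous ideal for the additive subgroups -/
noncomputable def regIdeal (a : HomogeneousIdeal W) : HomogeneousIdeal (reg W) :=
  ⟨a.toIdeal, fun d _ hx => a.isHomogeneous d hx⟩

/-- and back -/
noncomputable def unregIdeal (a : HomogeneousIdeal (reg W)) : HomogeneousIdeal W :=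
  ⟨a.toIdeal, fun d _ hx => a.isHomogeneous d hx⟩

/-- the order isomorphism -/
noncomputable def regIdealIso : HomogeneousIdeal W ≃o HomogeneousIdeal (reg W) where
  toFun := regIdeal
  invFun := unregIdeal
  left_inv _ := rfl
  right_inv _ := rfl
  map_rel_iff' := Iff.rfl

theorem isStarLocal_regIdeal {m : HomogeneousIdeal W} (hm : IsStarLocal W m) :
    IsStarLocal (reg W) (regIdeal m) := by
  refine ⟨(OrderIso.isCoatom_iff regIdealIso m).2 hm.1, fun a ha => ?_⟩
  obtain ⟨b, rfl⟩ := regIdealIso.surjective a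
  exact congrArg regIdeal (hm.2 b ((OrderIso.isCoatom_iff regIdealIso b).1 ha))

/-- a graded module over the additive subgroups -/
noncomputable def regMod (X : GMod.{u} W) : GMod.{u} (reg W) where
  carrier := X.carrier
  gr := X.gr
  gsmul := ⟨fun {i j} c x hc hx => SetLike.GradedSMul.smul_mem (A := W) (B := X.gr) hc hx⟩

/-- and back -/
noncomputable def unregMod (X : GMod.{u} (reg W)) : GMod.{u} W where
  carrier := X.carrier
  gr := X.gr
  gsmul := ⟨fun {i j} c x hc hx => SetLike.GradedSMul.smul_mem (A := reg W) (B := X.gr) hc hx⟩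

variable {M : Type u} [AddCommGroup M] [Module R M] {ℳ : ℤ → AddSubgroup M} [Decomposition ℳ]
  [SetLike.GradedSMul W ℳ]

instance regGradedSMul : SetLike.GradedSMul (reg W) ℳ :=
  ⟨fun {i j} c x hc hx => SetLike.GradedSMul.smul_mem (A := W) (B := ℳ) hc hx⟩

theorem isStarInj_reg (h : IsStarInj W ℳ) : IsStarInj (reg W) ℳ :=
  fun A B f hf hfi g hg => h (unregMod A) (unregMod B) f hf hfi g hg

/-- a resolution of the ring over the additive subgroups -/
noncomputable def regRes (E : StarInjRes W W) : StarInjRes (reg W) (reg W) where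
  X n := regMod (E.X n)
  d := E.d
  ε := E.ε
  d_grHom := E.d_grHom
  ε_grHom := E.ε_grHom
  ε_injective := E.ε_injective
  exact_zero := E.exact_zero
  exact_succ := E.exact_succ
  starInj n := fun A B f hf hfi g hg => E.starInj n (unregMod A) (unregMod B) f hf hfi g hg

theorem isStarInjHull_reg {m : HomogeneousIdeal W} {E' : Type u} [AddCommGroup E'] [Module R E']
    {𝓔 : ℤ → AddSubgroup E'} [Decomposition 𝓔] [SetLike.GradedSMul W 𝓔] {e : (R ⧸ m.toIdeal) →ₗ[R] E'}
    (he : IsStarInjHull W (quotGr W m) 𝓔 e) :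
    IsStarInjHull (reg W) (quotGr (reg W) (regIdeal m)) 𝓔 (show (R ⧸ (regIdeal m).toIdeal) →ₗ[R] E' from e) where
  injective := he.injective
  grHom := he.grHom
  essential := he.essential
  starInj := isStarInj_reg he.starInj

theorem isStarCanonical_reg {C E' : Type u} [AddCommGroup C] [Module R C] {𝒞 : ℤ → AddSubgroup C}
    [Decomposition 𝒞] [SetLike.GradedSMul W 𝒞] [AddCommGroup E'] [Module R E'] {𝓔 : ℤ → AddSubgroup E'}
    [Decomposition 𝓔] [SetLike.GradedSMul W 𝓔] {m : HomogeneousIdeal W} {n : ℕ} {I : StarInjRes W W}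
    (h : IsStarCanonical W 𝒞 𝓔 m n I) :
    IsStarCanonical (reg W) 𝒞 𝓔 (regIdeal m) n (regRes I) := h

theorem endDeg_regRes (E : StarInjRes W W) (a : HomogeneousIdeal W) (i : ℕ) :
    endDeg ((regRes E).Hgr (regIdeal a) i) = endDeg (E.Hgr a i) := rfl

end Groth.Agent.GrMod19
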